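import Mathlib.RingTheory.MvPowerSeries.Equiv
import Mathlib.RingTheory.AdicCompletion.Completeness
import Mathlib.RingTheory.MvPowerSeries.Inverse

set_option autoImplicit false
set_option linter.style.haveILetI false
set_option linter.unusedSectionVars false
universe u v

namespace Groth.Agent.H61

open MvPowerSeries

section PS1

variable {σ : Type*} {R : Type*} [Finite σ] [CommRing R]

/-- A power series all of whose coefficients of degree `< n` vanish lies in `(X)^n`. -/
theorem mem_span_X_pow_of_coeff_eq_zero (n : ℕ) (f : MvPowerSeries σ R)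
    (hf : ∀ α : σ →₀ ℕ, α.degree < n → MvPowerSeries.coeff α f = 0) :
    f ∈ (Ideal.span (Set.range (MvPowerSeries.X : σ → MvPowerSeries σ R))) ^ n := by
  classical
  let I := MvPolynomial.idealOfVars σ R
  let e := MvPowerSeries.toAdicCompletionAlgEquiv σ R
  have htr : MvPowerSeries.truncTotal n f = 0 := by
    ext α
    rw [MvPowerSeries.coeff_truncTotal_eq_ite]
    split_ifs with h
    · rw [hf α h]; simp
    · simp
  have h1 : e f ∈ LinearMap.ker (AdicCompletion.eval I (MvPolynomial σ R) n) := by
    rw [LinearMap.mem_ker, AdicCompletion.eval_apply, MvPowerSeries.toAdicCompletionAlgEquiv_apply,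
      MvPowerSeries.toAdicCompletion_apply_eq_mk_truncTotal, htr]
    rfl
  rw [← AdicCompletion.pow_smul_top_eq_ker_eval (MvPolynomial.idealOfVars_fg σ R)] at h1
  -- transport back
  have h2 : f ∈ (I ^ n • ⊤ : Submodule (MvPolynomial σ R) (MvPowerSeries σ R)) := by
    have h3 : e.symm (e f) ∈ Submodule.map e.symm.toLinearMap
        (I ^ n • ⊤ : Submodule (MvPolynomial σ R) (AdicCompletion I (MvPolynomial σ R))) :=
      Submodule.mem_map_of_mem h1
    rw [Submodule.map_smul'', Submodule.map_top, LinearMap.range_eq_top.2 e.symm.surjective,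
      AlgEquiv.symm_apply_apply] at h3
    exact h3
  refine Submodule.smul_induction_on h2 ?_ ?_
  · intro r hr x _
    rw [Algebra.smul_def]
    apply Ideal.mul_mem_right
    have : algebraMap (MvPolynomial σ R) (MvPowerSeries σ R) r ∈
        Ideal.map (algebraMap (MvPolynomial σ R) (MvPowerSeries σ R)) (I ^ n) := Ideal.mem_map_of_mem _ hr
    rw [Ideal.map_pow, Ideal.map_span, ← Set.range_comp] at this
    have h4 : (⇑(algebraMap (MvPolynomial σ R) (MvPowerSeries σ R)) ∘ MvPolynomial.X) =
        (MvPowerSeries.X : σ → MvPowerSeries σ R) := by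
      funext i
      change (algebraMap (MvPolynomial σ R) (MvPowerSeries σ R)) (MvPolynomial.X i) = X i
      rw [MvPowerSeries.algebraMap_apply', Algebra.algebraMap_self, MvPowerSeries.map_id]
      simp
    rw [h4] at this
    exact this
  · intro x y hx hy
    exact Ideal.add_mem _ hx hy

end PS1

end Groth.Agent.H61
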