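import Groth.Agent.H61.PSEval
import Groth.Agent.H63.ArtSurj

set_option autoImplicit false
set_option linter.style.haveILetI false
set_option linter.unusedSectionVars false
universe u v
open CategoryTheory

namespace Groth.Agent.H61
open ArtFun ArtFun.Art MvPowerSeries

section decomp
variable {Λ : Type u} [CommRing Λ]

theorem ps_decomp (r : ℕ) (f : MvPowerSeries (Fin r) Λ) :
    f - (C (coeff 0 f) + ∑ i, C (coeff (Finsupp.single i 1) f) * X i) ∈
      (Ideal.span (Set.range (X : Fin r → MvPowerSeries (Fin r) Λ))) ^ 2 := by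
  classical
  apply mem_span_X_pow_of_coeff_eq_zero
  intro α hα
  have hα' : α.degree = 0 ∨ α.degree = 1 := by omega
  rcases hα' with h | h
  · rw [Finsupp.degree_eq_zero_iff] at h
    subst h
    simp
  · have h' : (α.sum fun _ n => n) = 1 := h
    obtain ⟨j, rfl⟩ := (Finsupp.sum_eq_one_iff α).1 h'
    simp only [map_sub, map_add, map_sum, coeff_C_mul, coeff_index_single_X, coeff_C]
    have h0 : (Finsupp.single j 1 : Fin r →₀ ℕ) ≠ 0 := by simp
    rw [if_neg h0, zero_add, Finset.sum_eq_single j]
    · simp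
    · intro i _ hij
      rw [if_neg (Ne.symm hij), mul_zero]
    · intro hj
      exact absurd (Finset.mem_univ j) hj

end decomp

variable {Λ : Type u} {k : Type u} [CommRing Λ] [Field k] [Algebra Λ k]
variable [IsLocalRing Λ] [IsNoetherianRing Λ]

theorem ker_algebraMap_eq_maximalIdeal (hk : Function.Surjective (algebraMap Λ k)) :
    RingHom.ker (algebraMap Λ k) = IsLocalRing.maximalIdeal Λ :=
  IsLocalRing.ker_eq_maximalIdeal (algebraMap Λ k) hk

theorem span_X_le_maximalIdeal (r : ℕ) :
    Ideal.span (Set.range (X : Fin r → MvPowerSeries (Fin r) Λ)) ≤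
      IsLocalRing.maximalIdeal (MvPowerSeries (Fin r) Λ) := by
  rw [Ideal.span_le]
  rintro _ ⟨i, rfl⟩
  change X i ∈ IsLocalRing.maximalIdeal _
  rw [IsLocalRing.mem_maximalIdeal, mem_nonunits_iff, MvPowerSeries.isUnit_iff_constantCoeff,
    MvPowerSeries.constantCoeff_X]
  exact not_isUnit_zero

/-- surjectivity criterion for maps out of the power series ring -/
theorem ps_surjective_of_cotangent (hk : Function.Surjective (algebraMap Λ k)) (r : ℕ) {R : Art Λ k}
    (p : HomSet (MvPowerSeries (Fin r) Λ) (psRes Λ k r) R)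
    (h : IsLocalRing.maximalIdeal R ≤ Ideal.span (Set.range fun i => p.1 (X i)) ⊔
      (IsLocalRing.maximalIdeal R ^ 2 ⊔ Ideal.map (algebraMap Λ R) (IsLocalRing.maximalIdeal Λ))) :
    Function.Surjective p.1 := by
  have hres := psRes_surjective hk r
  obtain ⟨N, hN⟩ := exists_pow_le_ker_homSet hres p
  obtain ⟨A, pA, hpA, hkA⟩ := exists_artQuot (Λ := Λ) (k := k) hres
    (IsLocalRing.maximalIdeal (MvPowerSeries (Fin r) Λ) ^ (N + 1))
    (Ideal.pow_le_self (Nat.succ_ne_zero N)) (N + 1) le_rfl
  obtain ⟨g, hg⟩ := exists_factor_homSet pA hpA p (by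
    rw [hkA]
    exact (Ideal.pow_le_pow_right (Nat.le_succ N)).trans hN)
  have hgapp : ∀ x, g (pA.1 x) = p.1 x := fun x =>
    congrArg (fun t : HomSet (MvPowerSeries (Fin r) Λ) (psRes Λ k r) R => t.1 x) hg
  have hgs : Function.Surjective g := by
    apply ((Groth.Agent.H63.surjective_tfae g).out 2 0).1
    apply le_antisymm
    · apply sup_le (sup_le _ _) (Ideal.pow_le_self two_ne_zero)
      · exact Groth.Agent.H63.map_ker_le_maximalIdeal R
      · exact Groth.Agent.H63.map_maximalIdeal_le g
    · refine h.trans (sup_le ?_ (sup_le ?_ ?_))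
      · refine le_sup_of_le_left (le_sup_of_le_right ?_)
        rw [Ideal.span_le]
        rintro _ ⟨i, rfl⟩
        change p.1 (X i) ∈ _
        rw [← hgapp]
        apply Ideal.mem_map_of_mem
        exact homSet_mem_maximalIdeal' pA (psRes_X r i)
      · exact le_sup_right
      · refine le_sup_of_le_left (le_sup_of_le_left ?_)
        rw [ker_algebraMap_eq_maximalIdeal hk]
  intro x
  obtain ⟨a, rfl⟩ := hgs x
  obtain ⟨y, rfl⟩ := hpA a
  exact ⟨y, (hgapp y).symm⟩

end Groth.Agent.H61

namespace Groth.Agent.H61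
open ArtFun ArtFun.Art MvPowerSeries

variable {Λ : Type u} {k : Type u} [CommRing Λ] [Field k] [Algebra Λ k]
variable [IsLocalRing Λ] [IsNoetherianRing Λ]

theorem ps_maximalIdeal_eq_ker (hk : Function.Surjective (algebraMap Λ k)) (r : ℕ) :
    IsLocalRing.maximalIdeal (MvPowerSeries (Fin r) Λ) = RingHom.ker (psRes Λ k r) :=
  maximalIdeal_eq_ker_resP (psRes_surjective hk r)

/-- minimal presentations: every object is a quotient of a power series ring with kernel inside
`m² + m_Λ P`. -/
theorem exists_presentation (hk : Function.Surjective (algebraMap Λ k)) (R : Art Λ k) :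
    ∃ (r : ℕ) (p : HomSet (MvPowerSeries (Fin r) Λ) (psRes Λ k r) R), Function.Surjective p.1 ∧
      RingHom.ker p.1 ≤ IsLocalRing.maximalIdeal (MvPowerSeries (Fin r) Λ) ^ 2 ⊔
        Ideal.map (algebraMap Λ (MvPowerSeries (Fin r) Λ)) (IsLocalRing.maximalIdeal Λ) := by
  classical
  set W : Ideal R := IsLocalRing.maximalIdeal R ^ 2 ⊔ Ideal.map (algebraMap Λ R) (IsLocalRing.maximalIdeal Λ)
    with hW
  let Sp : ℕ → Prop := fun r => ∃ t : Fin r → R, (∀ i, t i ∈ IsLocalRing.maximalIdeal R) ∧
    IsLocalRing.maximalIdeal R ≤ Ideal.span (Set.range t) ⊔ W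
  have hex : ∃ r, Sp r := by
    have hfg : (IsLocalRing.maximalIdeal R).FG := IsNoetherian.noetherian _
    obtain ⟨n, s, hs⟩ := Submodule.fg_iff_exists_fin_generating_family.1 hfg
    refine ⟨n, s, ?_, ?_⟩
    · intro i
      have : s i ∈ Submodule.span R (Set.range s) := Submodule.subset_span ⟨i, rfl⟩
      rw [hs] at this
      exact this
    · refine le_sup_of_le_left ?_
      exact hs.symm.le
  obtain ⟨r, hr, hmin⟩ : ∃ r, Sp r ∧ ∀ m < r, ¬ Sp m :=
    ⟨Nat.find hex, Nat.find_spec hex, fun m hm => Nat.find_min hex hm⟩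
  obtain ⟨t, htm, hts⟩ := hr
  obtain ⟨p, hp⟩ := exists_evalHom r R t htm
  have hsurj : Function.Surjective p.1 := by
    apply ps_surjective_of_cotangent hk
    have : (fun i => p.1 (X i)) = t := funext hp
    rw [this]
    exact hts
  refine ⟨r, p, hsurj, ?_⟩
  intro f hf
  have hfm : f ∈ IsLocalRing.maximalIdeal (MvPowerSeries (Fin r) Λ) :=
    ker_homSet_le_maximalIdeal (psRes_surjective hk r) p hf
  -- decomposition
  set D : MvPowerSeries (Fin r) Λ := C (coeff 0 f) + ∑ i, C (coeff (Finsupp.single i 1) f) * X i with hD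
  have hfD : f - D ∈ IsLocalRing.maximalIdeal (MvPowerSeries (Fin r) Λ) ^ 2 :=
    Ideal.pow_right_mono (span_X_le_maximalIdeal r) 2 (ps_decomp r f)
  have hc0 : coeff 0 f ∈ IsLocalRing.maximalIdeal Λ := by
    rw [ps_maximalIdeal_eq_ker hk, RingHom.mem_ker, psRes_apply] at hfm
    rw [← ker_algebraMap_eq_maximalIdeal hk, RingHom.mem_ker]
    exact hfm
  have hCmem : ∀ c ∈ IsLocalRing.maximalIdeal Λ, (C c : MvPowerSeries (Fin r) Λ) ∈
      Ideal.map (algebraMap Λ (MvPowerSeries (Fin r) Λ)) (IsLocalRing.maximalIdeal Λ) := by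
    intro c hc
    rw [MvPowerSeries.c_eq_algebraMap]
    exact Ideal.mem_map_of_mem _ hc
  by_cases hall : ∀ i, coeff (Finsupp.single i 1) f ∈ IsLocalRing.maximalIdeal Λ
  · have hDmem : D ∈ Ideal.map (algebraMap Λ (MvPowerSeries (Fin r) Λ)) (IsLocalRing.maximalIdeal Λ) := by
      rw [hD]
      apply Ideal.add_mem _ (hCmem _ hc0)
      apply Ideal.sum_mem
      intro i _
      exact Ideal.mul_mem_right _ _ (hCmem _ (hall i))
    have : f = (f - D) + D := by ring
    rw [this]
    exact Ideal.add_mem _ (Ideal.mem_sup_left hfD) (Ideal.mem_sup_right hDmem)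
  · exfalso
    push Not at hall
    obtain ⟨j, hj⟩ := hall
    have hju : IsUnit (coeff (Finsupp.single j 1) f) := by
      by_contra hnu
      exact hj ((IsLocalRing.mem_maximalIdeal _).2 hnu)
    -- the relation
    have hpD : p.1 D = algebraMap Λ R (coeff 0 f) + ∑ i, algebraMap Λ R (coeff (Finsupp.single i 1) f) * t i := by
      rw [hD, map_add, map_sum]
      congr 1
      · rw [MvPowerSeries.c_eq_algebraMap, AlgHom.commutes]
      · apply Finset.sum_congr rfl
        intro i _
        rw [map_mul, hp, MvPowerSeries.c_eq_algebraMap, AlgHom.commutes]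
    have he : p.1 (f - D) ∈ IsLocalRing.maximalIdeal R ^ 2 := by
      have h1 : Ideal.map p.1 (IsLocalRing.maximalIdeal (MvPowerSeries (Fin r) Λ)) ≤ IsLocalRing.maximalIdeal R := by
        rw [Ideal.map_le_iff_le_comap]
        intro x hx
        rw [ps_maximalIdeal_eq_ker hk] at hx
        exact homSet_mem_maximalIdeal' p hx
      have h2 : p.1 (f - D) ∈ Ideal.map p.1 (IsLocalRing.maximalIdeal (MvPowerSeries (Fin r) Λ) ^ 2) :=
        Ideal.mem_map_of_mem _ hfD
      rw [Ideal.map_pow] at h2
      exact Ideal.pow_right_mono h1 2 h2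
    have hrel : p.1 (f - D) + p.1 D = 0 := by
      rw [← map_add, sub_add_cancel]
      exact hf
    cases r with
    | zero => exact j.elim0
    | succ r' =>
      apply hmin r' (Nat.lt_succ_self r')
      refine ⟨t ∘ j.succAbove, fun i => htm _, ?_⟩
      set I : Ideal R := Ideal.span (Set.range (t ∘ j.succAbove)) ⊔ W with hI
      have htj : t j ∈ I := by
        rw [hpD, Fin.sum_univ_succAbove _ j] at hrel
        have hu : IsUnit (algebraMap Λ R (coeff (Finsupp.single j 1) f)) := hju.map _
        have h3 : algebraMap Λ R (coeff (Finsupp.single j 1) f) * t j =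
            -(p.1 (f - D) + algebraMap Λ R (coeff 0 f) +
              ∑ i, algebraMap Λ R (coeff (Finsupp.single (j.succAbove i) 1) f) * t (j.succAbove i)) := by
          linear_combination hrel
        have h4 : algebraMap Λ R (coeff (Finsupp.single j 1) f) * t j ∈ I := by
          rw [h3]
          apply (Ideal.neg_mem_iff I).2
          apply Ideal.add_mem _ (Ideal.add_mem _ _ _) _
          · exact Ideal.mem_sup_right (Ideal.mem_sup_left he)
          · exact Ideal.mem_sup_right (Ideal.mem_sup_right (Ideal.mem_map_of_mem _ hc0))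
          · apply Ideal.sum_mem
            intro i _
            apply Ideal.mul_mem_left
            exact Ideal.mem_sup_left (Ideal.subset_span ⟨i, rfl⟩)
        obtain ⟨u, hu'⟩ := hu
        have := Ideal.mul_mem_left I (↑u⁻¹ : R) h4
        rw [← hu', ← mul_assoc, Units.inv_mul, one_mul] at this
        exact this
      have hspan : Ideal.span (Set.range t) ≤ I := by
        rw [Ideal.span_le]
        rintro _ ⟨i, rfl⟩
        by_cases hij : i = j
        · rw [hij]; exact htj
        · obtain ⟨i', rfl⟩ := Fin.exists_succAbove_eq hij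
          exact Ideal.mem_sup_left (Ideal.subset_span ⟨i', rfl⟩)
      exact hts.trans (sup_le hspan le_sup_right)

end Groth.Agent.H61

namespace Groth.Agent.H61
open ArtFun ArtFun.Art MvPowerSeries

variable {Λ : Type u} {k : Type u} [CommRing Λ] [Field k] [Algebra Λ k]
variable {P : Type u} [CommRing P] [Algebra Λ P] [IsLocalRing P] {resP : P →ₐ[Λ] k}

theorem map_maximalIdeal_homSet (hres : Function.Surjective resP) {R : Art Λ k} (p : HomSet P resP R)
    (hp : Function.Surjective p.1) :
    Ideal.map p.1 (IsLocalRing.maximalIdeal P) = IsLocalRing.maximalIdeal R := by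
  have hm : IsLocalRing.maximalIdeal P = RingHom.ker resP :=
    (IsLocalRing.ker_eq_maximalIdeal (resP : P →+* k) hres).symm
  apply le_antisymm
  · rw [Ideal.map_le_iff_le_comap]
    intro x hx
    rw [hm] at hx
    exact homSet_mem_maximalIdeal' p hx
  · intro y hy
    obtain ⟨x, rfl⟩ := hp y
    apply Ideal.mem_map_of_mem
    rw [hm, RingHom.mem_ker, ← homSet_res_apply p]
    exact (mem_maximalIdeal_iff R _).1 hy

theorem map_relCotangentIdeal_homSet (hres : Function.Surjective resP) {R : Art Λ k} (p : HomSet P resP R)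
    (hp : Function.Surjective p.1) (𝔫 : Ideal Λ) :
    Ideal.map p.1 (IsLocalRing.maximalIdeal P ^ 2 ⊔ Ideal.map (algebraMap Λ P) 𝔫) =
      IsLocalRing.maximalIdeal R ^ 2 ⊔ Ideal.map (algebraMap Λ R) 𝔫 := by
  rw [Ideal.map_sup, Ideal.map_pow, map_maximalIdeal_homSet hres p hp]
  congr 1
  apply le_antisymm
  · rw [Ideal.map_le_iff_le_comap, Ideal.map_le_iff_le_comap]
    intro c hc
    rw [Ideal.mem_comap, Ideal.mem_comap, AlgHom.commutes]
    exact Ideal.mem_map_of_mem _ hc
  · rw [Ideal.map_le_iff_le_comap]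
    intro c hc
    rw [Ideal.mem_comap, ← p.1.commutes]
    exact Ideal.mem_map_of_mem _ (Ideal.mem_map_of_mem _ hc)

end Groth.Agent.H61
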