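import Mathlib
import Groth.Agent.H61.PSBasic
import Groth.Agent.H61.PSPresent

/-!
# The power series ring over a field is regular of dimension `d`
-/

set_option autoImplicit false
universe u

namespace Groth.Agent.H61
open MvPowerSeries

variable (k : Type u) [Field k]

theorem maximalIdeal_ps_eq_span_X (d : ℕ) :
    IsLocalRing.maximalIdeal (MvPowerSeries (Fin d) k) =
      Ideal.span (Set.range (X : Fin d → MvPowerSeries (Fin d) k)) := by
  apply le_antisymm
  · intro f hf
    have h0 : MvPowerSeries.constantCoeff f = 0 := by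
      rw [IsLocalRing.mem_maximalIdeal, mem_nonunits_iff, MvPowerSeries.isUnit_iff_constantCoeff] at hf
      by_contra h
      exact hf (IsUnit.mk0 _ h)
    have := mem_span_X_pow_of_coeff_eq_zero (σ := Fin d) (R := k) 1 f (by
      intro α hα
      have : α.degree = 0 := by omega
      rw [Finsupp.degree_eq_zero_iff] at this
      subst this
      exact h0)
    rwa [pow_one] at this
  · exact span_X_le_maximalIdeal (Λ := k) d

theorem spanFinrank_maximalIdeal_ps_le (d : ℕ) :
    (IsLocalRing.maximalIdeal (MvPowerSeries (Fin d) k)).spanFinrank ≤ d := by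
  rw [maximalIdeal_ps_eq_span_X]
  refine (Submodule.spanFinrank_span_le_ncard_of_finite (Set.finite_range _)).trans ?_
  refine (Set.ncard_le_ncard (Set.range_subset_iff.2 fun i => Set.mem_image_of_mem X (Set.mem_univ i))
    (Set.finite_univ.image _)).trans ?_
  refine (Set.ncard_image_le Set.finite_univ).trans ?_
  rw [Set.ncard_univ, Nat.card_eq_fintype_card, Fintype.card_fin]

theorem le_ringKrullDim_ps (d : ℕ) :
    (d : WithBot ℕ∞) ≤ ringKrullDim (MvPowerSeries (Fin d) k) := by
  induction d with
  | zero =>
    rw [Nat.cast_zero]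
    exact ringKrullDim_nonneg_of_nontrivial
  | succ n ih =>
    rw [ringKrullDim_eq_of_ringEquiv (MvPowerSeries.finSuccEquiv k n).toRingEquiv]
    refine le_trans ?_ ringKrullDim_succ_le_ringKrullDim_powerseries
    rw [Nat.cast_add, Nat.cast_one]
    exact add_le_add_left ih 1

theorem ringKrullDim_ps (d : ℕ) : ringKrullDim (MvPowerSeries (Fin d) k) = d := by
  apply le_antisymm
  · refine (ringKrullDim_le_spanFinrank_maximalIdeal _).trans ?_
    exact_mod_cast spanFinrank_maximalIdeal_ps_le k d
  · exact le_ringKrullDim_ps k d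

theorem spanFinrank_maximalIdeal_ps (d : ℕ) :
    (IsLocalRing.maximalIdeal (MvPowerSeries (Fin d) k)).spanFinrank = d := by
  apply le_antisymm (spanFinrank_maximalIdeal_ps_le k d)
  have h := (le_ringKrullDim_ps k d).trans (ringKrullDim_le_spanFinrank_maximalIdeal _)
  exact_mod_cast h

instance isRegularLocalRing_ps (d : ℕ) : IsRegularLocalRing (MvPowerSeries (Fin d) k) := by
  rw [isRegularLocalRing_iff, ringKrullDim_ps, spanFinrank_maximalIdeal_ps]

end Groth.Agent.H61
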