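import Groth.Agent.H61.PSPresent
import Mathlib.RingTheory.AdicCompletion.Noetherian

set_option autoImplicit false
set_option linter.style.haveILetI false
set_option linter.unusedSectionVars false
universe u v

namespace Groth.Agent.H61
open MvPowerSeries

variable {Λ : Type u} [CommRing Λ] (r : ℕ)

/-- The ideal of power series whose coefficient at `α` lies in `𝔫^(n - |α|)`. -/
def coeffIdeal (𝔫 : Ideal Λ) (n : ℕ) : Ideal (MvPowerSeries (Fin r) Λ) where
  carrier := {f | ∀ α : Fin r →₀ ℕ, coeff α f ∈ 𝔫 ^ (n - α.degree)}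
  add_mem' := by
    intro f g hf hg α
    rw [map_add]
    exact Ideal.add_mem _ (hf α) (hg α)
  zero_mem' := by
    intro α
    rw [map_zero]
    exact Ideal.zero_mem _
  smul_mem' := by
    classical
    intro c f hf γ
    rw [smul_eq_mul, MvPowerSeries.coeff_mul]
    apply Ideal.sum_mem
    rintro ⟨α, β⟩ hαβ
    rw [Finset.mem_antidiagonal] at hαβ
    apply Ideal.mul_mem_left
    have hle : n - γ.degree ≤ n - β.degree := by
      have : β.degree ≤ γ.degree := by
        rw [← hαβ, map_add]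
        exact Nat.le_add_left _ _
      omega
    exact Ideal.pow_le_pow_right hle (hf β)

theorem mem_coeffIdeal (𝔫 : Ideal Λ) (n : ℕ) (f : MvPowerSeries (Fin r) Λ) :
    f ∈ coeffIdeal r 𝔫 n ↔ ∀ α : Fin r →₀ ℕ, coeff α f ∈ 𝔫 ^ (n - α.degree) := Iff.rfl

theorem coeffIdeal_mul_le (𝔫 : Ideal Λ) (a b : ℕ) :
    coeffIdeal r 𝔫 a * coeffIdeal r 𝔫 b ≤ coeffIdeal r 𝔫 (a + b) := by
  classical
  rw [Ideal.mul_le]
  intro f hf g hg γ
  rw [MvPowerSeries.coeff_mul]
  apply Ideal.sum_mem
  rintro ⟨α, β⟩ hαβ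
  rw [Finset.mem_antidiagonal] at hαβ
  have hdeg : γ.degree = α.degree + β.degree := by rw [← hαβ, map_add]
  have h1 : coeff α f * coeff β g ∈ 𝔫 ^ (a - α.degree) * 𝔫 ^ (b - β.degree) :=
    Ideal.mul_mem_mul (hf α) (hg β)
  rw [← pow_add] at h1
  refine Ideal.pow_le_pow_right ?_ h1
  omega

variable [IsLocalRing Λ] [IsNoetherianRing Λ]

theorem maximalIdeal_le_coeffIdeal_one :
    IsLocalRing.maximalIdeal (MvPowerSeries (Fin r) Λ) ≤ coeffIdeal r (IsLocalRing.maximalIdeal Λ) 1 := by
  intro f hf α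
  by_cases hα : α = 0
  · subst hα
    rw [map_zero, Nat.sub_zero, pow_one, IsLocalRing.mem_maximalIdeal, mem_nonunits_iff]
    rw [IsLocalRing.mem_maximalIdeal, mem_nonunits_iff, MvPowerSeries.isUnit_iff_constantCoeff] at hf
    exact hf
  · have : 1 - α.degree = 0 := by
      have : α.degree ≠ 0 := fun h => hα ((Finsupp.degree_eq_zero_iff α).1 h)
      omega
    rw [this, pow_zero, Ideal.one_eq_top]
    exact Submodule.mem_top

theorem maximalIdeal_pow_le_coeffIdeal (n : ℕ) :
    IsLocalRing.maximalIdeal (MvPowerSeries (Fin r) Λ) ^ n ≤ coeffIdeal r (IsLocalRing.maximalIdeal Λ) n := by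
  induction n with
  | zero =>
    intro f _ α
    rw [Nat.zero_sub, pow_zero, Ideal.one_eq_top]
    exact Submodule.mem_top
  | succ n ih =>
    rw [pow_succ]
    exact (Ideal.mul_mono ih (maximalIdeal_le_coeffIdeal_one r)).trans (coeffIdeal_mul_le r _ n 1)

theorem map_C_pow_le (j : ℕ) :
    Ideal.map (C : Λ →+* MvPowerSeries (Fin r) Λ) (IsLocalRing.maximalIdeal Λ ^ j) ≤
      IsLocalRing.maximalIdeal (MvPowerSeries (Fin r) Λ) ^ j := by
  rw [Ideal.map_pow]
  apply Ideal.pow_right_mono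
  rw [Ideal.map_le_iff_le_comap]
  intro c hc
  rw [Ideal.mem_comap, IsLocalRing.mem_maximalIdeal, mem_nonunits_iff, MvPowerSeries.isUnit_iff_constantCoeff,
    MvPowerSeries.constantCoeff_C]
  exact (IsLocalRing.mem_maximalIdeal c).1 hc

theorem monomial_one_mem (α : Fin r →₀ ℕ) :
    MvPowerSeries.monomial α (1 : Λ) ∈ IsLocalRing.maximalIdeal (MvPowerSeries (Fin r) Λ) ^ α.degree := by
  classical
  apply Ideal.pow_right_mono (span_X_le_maximalIdeal r)
  apply mem_span_X_pow_of_coeff_eq_zero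
  intro β hβ
  rw [MvPowerSeries.coeff_monomial, if_neg]
  rintro rfl
  exact lt_irrefl _ hβ

theorem coeffIdeal_le_maximalIdeal_pow (n : ℕ) :
    coeffIdeal r (IsLocalRing.maximalIdeal Λ) n ≤ IsLocalRing.maximalIdeal (MvPowerSeries (Fin r) Λ) ^ n := by
  classical
  intro f hf
  have hdec : f = (f - ((MvPowerSeries.truncTotal n f : MvPolynomial (Fin r) Λ) : MvPowerSeries (Fin r) Λ)) +
      ((MvPowerSeries.truncTotal n f : MvPolynomial (Fin r) Λ) : MvPowerSeries (Fin r) Λ) := by ring
  rw [hdec]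
  apply Ideal.add_mem
  · exact Ideal.pow_right_mono (span_X_le_maximalIdeal r) n (sub_truncTotal_mem r n f)
  · set t := MvPowerSeries.truncTotal n f with ht
    rw [t.as_sum, ← MvPolynomial.coeToMvPowerSeries.ringHom_apply, map_sum]
    apply Ideal.sum_mem
    intro α _
    rw [MvPolynomial.coeToMvPowerSeries.ringHom_apply, MvPolynomial.coe_monomial]
    have hc : MvPolynomial.coeff α t ∈ IsLocalRing.maximalIdeal Λ ^ (n - α.degree) := by
      rw [ht, MvPowerSeries.coeff_truncTotal_eq_ite]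
      split_ifs
      · exact hf α
      · exact Ideal.zero_mem _
    have h1 : MvPowerSeries.monomial α (MvPolynomial.coeff α t) =
        C (MvPolynomial.coeff α t) * MvPowerSeries.monomial α (1 : Λ) := by
      rw [← MvPowerSeries.monomial_zero_eq_C_apply, MvPowerSeries.monomial_mul_monomial, zero_add, mul_one]
    rw [h1]
    have h2 : C (MvPolynomial.coeff α t) ∈ IsLocalRing.maximalIdeal (MvPowerSeries (Fin r) Λ) ^ (n - α.degree) :=
      map_C_pow_le r _ (Ideal.mem_map_of_mem _ hc)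
    have h3 := Ideal.mul_mem_mul h2 (monomial_one_mem r α)
    rw [← pow_add] at h3
    refine Ideal.pow_le_pow_right ?_ h3
    omega

theorem maximalIdeal_pow_eq_coeffIdeal (n : ℕ) :
    IsLocalRing.maximalIdeal (MvPowerSeries (Fin r) Λ) ^ n = coeffIdeal r (IsLocalRing.maximalIdeal Λ) n :=
  le_antisymm (maximalIdeal_pow_le_coeffIdeal r n) (coeffIdeal_le_maximalIdeal_pow r n)

end Groth.Agent.H61

namespace Groth.Agent.H61
open MvPowerSeries

variable {Λ : Type u} [CommRing Λ] (r : ℕ) [IsLocalRing Λ] [IsNoetherianRing Λ]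

theorem smodEq_pow_iff {R : Type*} [CommRing R] (I : Ideal R) (n : ℕ) (x y : R) :
    x ≡ y [SMOD (I ^ n • ⊤ : Submodule R R)] ↔ x - y ∈ I ^ n := by
  rw [SModEq.sub_mem, smul_eq_mul, Ideal.mul_top]

/-- The power series ring over a complete local noetherian ring is complete for its maximal ideal. -/
theorem ps_isAdicComplete [IsAdicComplete (IsLocalRing.maximalIdeal Λ) Λ] :
    IsAdicComplete (IsLocalRing.maximalIdeal (MvPowerSeries (Fin r) Λ)) (MvPowerSeries (Fin r) Λ) := by
  haveI : IsHausdorff (IsLocalRing.maximalIdeal (MvPowerSeries (Fin r) Λ)) (MvPowerSeries (Fin r) Λ) :=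
    inferInstance
  haveI : IsPrecomplete (IsLocalRing.maximalIdeal (MvPowerSeries (Fin r) Λ)) (MvPowerSeries (Fin r) Λ) := by
    constructor
    intro F hF
    have hF' : ∀ m n, m ≤ n → F m - F n ∈ IsLocalRing.maximalIdeal (MvPowerSeries (Fin r) Λ) ^ m := by
      intro m n hmn
      exact (smodEq_pow_iff _ m _ _).1 (hF hmn)
    have hcauchy : ∀ α : Fin r →₀ ℕ, ∃ l : Λ, ∀ i : ℕ,
        coeff α (F (i + α.degree)) - l ∈ IsLocalRing.maximalIdeal Λ ^ i := by
      intro α
      have hprec : IsPrecomplete (IsLocalRing.maximalIdeal Λ) Λ := inferInstance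
      obtain ⟨l, hl⟩ := hprec.prec (f := fun i => coeff α (F (i + α.degree))) (by
        intro i j hij
        rw [smodEq_pow_iff, ← map_sub]
        have h1 := maximalIdeal_pow_le_coeffIdeal r (i + α.degree)
          (hF' (i + α.degree) (j + α.degree) (Nat.add_le_add_right hij _)) α
        rwa [Nat.add_sub_cancel] at h1)
      exact ⟨l, fun i => (smodEq_pow_iff _ i _ _).1 (hl i)⟩
    choose l hl using hcauchy
    refine ⟨(fun α => l α : MvPowerSeries (Fin r) Λ), fun n => ?_⟩
    rw [smodEq_pow_iff, maximalIdeal_pow_eq_coeffIdeal]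
    intro α
    rw [map_sub]
    by_cases hn : n ≤ α.degree
    · rw [Nat.sub_eq_zero_of_le hn, pow_zero, Ideal.one_eq_top]
      exact Submodule.mem_top
    · have h1 := hl α (n - α.degree)
      rw [Nat.sub_add_cancel (le_of_not_ge hn)] at h1
      exact h1
  exact ⟨⟩

end Groth.Agent.H61
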