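import Groth.Prelude.Def_ArtFun2

set_option autoImplicit false
universe u v

open CategoryTheory

namespace Groth.Agent.H61

open ArtFun ArtFun.Art

variable {Λ : Type u} {k : Type u} [CommRing Λ] [Field k] [Algebra Λ k]

section HomSetFib

variable {R : Type u} [CommRing R] [Algebra Λ R] {resR : R →ₐ[Λ] k}

theorem homSet_ext {A : Art Λ k} {φ ψ : HomSet R resR A} (h : ∀ r, φ.1 r = ψ.1 r) : φ = ψ :=
  Subtype.ext (AlgHom.ext h)

theorem homSet_map_apply {A B : Art Λ k} (f : A ⟶ B) (φ : HomSet R resR A) (r : R) :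
    (HomSet.map f φ).1 r = f (φ.1 r) := rfl

/-- Maps into a fibre product. -/
theorem homSet_fibreProd_exists {B A A' A'' : Art Λ k} {p' : B ⟶ A'} {p'' : B ⟶ A''}
    {f' : A' ⟶ A} {f'' : A'' ⟶ A} (h : IsFibreProd p' p'' f' f'')
    (φ' : HomSet R resR A') (φ'' : HomSet R resR A'')
    (hc : HomSet.map f' φ' = HomSet.map f'' φ'') :
    ∃ χ : HomSet R resR B, HomSet.map p' χ = φ' ∧ HomSet.map p'' χ = φ'' := by
  have hc' : ∀ r, f' (φ'.1 r) = f'' (φ''.1 r) := fun r => by
    have := congrArg (fun t : HomSet R resR A => t.1 r) hc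
    exact this
  choose g hg1 hg2 using fun r => h.surj (φ'.1 r) (φ''.1 r) (hc' r)
  have key : ∀ (b : B) (r : R), p' b = φ'.1 r → p'' b = φ''.1 r → b = g r := by
    intro b r h1 h2
    exact h.inj _ _ (h1.trans (hg1 r).symm) (h2.trans (hg2 r).symm)
  let χ : R →ₐ[Λ] B :=
    { toFun := g
      map_one' := (key 1 1 ((map_one p'.toAlgHom).trans (map_one φ'.1).symm)
        ((map_one p''.toAlgHom).trans (map_one φ''.1).symm)).symm
      map_mul' := fun r s => (key (g r * g s) (r * s)
        ((map_mul p'.toAlgHom _ _).trans (by rw [hg1 r, hg1 s, map_mul]))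
        ((map_mul p''.toAlgHom _ _).trans (by rw [hg2 r, hg2 s, map_mul]))).symm
      map_zero' := (key 0 0 ((map_zero p'.toAlgHom).trans (map_zero φ'.1).symm)
        ((map_zero p''.toAlgHom).trans (map_zero φ''.1).symm)).symm
      map_add' := fun r s => (key (g r + g s) (r + s)
        ((map_add p'.toAlgHom _ _).trans (by rw [hg1 r, hg1 s, map_add]))
        ((map_add p''.toAlgHom _ _).trans (by rw [hg2 r, hg2 s, map_add]))).symm
      commutes' := fun c => (key (algebraMap Λ B c) (algebraMap Λ R c)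
        ((p'.toAlgHom.commutes c).trans (φ'.1.commutes c).symm)
        ((p''.toAlgHom.commutes c).trans (φ''.1.commutes c).symm)).symm }
  have hχ : B.res.comp χ = resR := by
    apply AlgHom.ext
    intro r
    change B.res (g r) = resR r
    rw [← Art.res_app p' (g r), hg1 r]
    exact congrArg (fun t : R →ₐ[Λ] k => t r) φ'.2
  exact ⟨⟨χ, hχ⟩, homSet_ext (fun r => hg1 r), homSet_ext (fun r => hg2 r)⟩

end HomSetFib

end Groth.Agent.H61
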