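import Groth.Prelude.Def_ArtFun5
import Groth.Agent.H61.ArtBasic
import Mathlib.RingTheory.AdicCompletion.RingHom

set_option autoImplicit false
universe u v

open CategoryTheory

namespace Groth.Agent.H61

open ArtFun ArtFun.Art

variable {Λ : Type u} {k : Type u} [CommRing Λ] [Field k] [Algebra Λ k]

theorem art_maximalIdeal_pow_eq_bot (A : Art Λ k) : ∃ n : ℕ, IsLocalRing.maximalIdeal A ^ n = ⊥ := by
  have h : IsNilpotent (Ideal.jacobson (⊥ : Ideal A)) := IsArtinianRing.isNilpotent_jacobson_bot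
  rw [IsLocalRing.jacobson_eq_maximalIdeal _ bot_ne_top] at h
  obtain ⟨n, hn⟩ := h
  exact ⟨n, hn⟩

section Factor

variable (R : CRing Λ k)

theorem homSet_mem_maximalIdeal {A : Art Λ k} (φ : HomSet R.carrier R.res A) {a : R.carrier}
    (ha : a ∈ IsLocalRing.maximalIdeal R.carrier) : φ.1 a ∈ IsLocalRing.maximalIdeal A := by
  rw [Art.mem_maximalIdeal_iff]
  rw [CRing.mem_maximalIdeal_iff] at ha
  have : A.res (φ.1 a) = R.res a := congrArg (fun t : R.carrier →ₐ[Λ] k => t a) φ.2
  rw [this, ha]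

theorem homSet_map_pow_le {A : Art Λ k} (φ : HomSet R.carrier R.res A) (n : ℕ) :
    (IsLocalRing.maximalIdeal R.carrier ^ n).map φ.1.toRingHom ≤ IsLocalRing.maximalIdeal A ^ n := by
  rw [Ideal.map_pow]
  apply Ideal.pow_right_mono
  rw [Ideal.map_le_iff_le_comap]
  intro a ha
  exact homSet_mem_maximalIdeal R φ ha

/-- Lift of a map killing `m^(n+1)` to the truncation. -/
noncomputable def truncLift (n : ℕ) {A : Art Λ k} (φ : HomSet R.carrier R.res A)
    (hφ : ∀ a ∈ R.mpow n, φ.1 a = 0) : R.trunc n ⟶ A :=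
  ⟨Ideal.Quotient.liftₐ (R.mpow n) φ.1 hφ, by
    apply AlgHom.ext
    intro x
    obtain ⟨a, rfl⟩ := Ideal.Quotient.mk_surjective x
    exact congrArg (fun t : R.carrier →ₐ[Λ] k => t a) φ.2⟩

theorem truncLift_truncHom (n : ℕ) {A : Art Λ k} (φ : HomSet R.carrier R.res A)
    (hφ : ∀ a ∈ R.mpow n, φ.1 a = 0) : HomSet.map (truncLift R n φ hφ) (R.truncHom n) = φ :=
  Subtype.ext (AlgHom.ext fun _ => rfl)

theorem truncHom_surjective (n : ℕ) : Function.Surjective (R.truncHom n).1 :=
  Ideal.Quotient.mk_surjective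

theorem trunc_hom_ext (n : ℕ) {A : Art Λ k} {f g : R.trunc n ⟶ A}
    (h : HomSet.map f (R.truncHom n) = HomSet.map g (R.truncHom n)) : f = g := by
  apply Art.hom_ext
  apply AlgHom.ext
  intro x
  obtain ⟨a, rfl⟩ := truncHom_surjective R n x
  exact congrArg (fun t : HomSet R.carrier R.res A => t.1 a) h

theorem exists_factor_trunc {A : Art Λ k} (φ : HomSet R.carrier R.res A) :
    ∃ (n : ℕ) (f : R.trunc n ⟶ A), HomSet.map f (R.truncHom n) = φ := by
  obtain ⟨n, hn⟩ := art_maximalIdeal_pow_eq_bot A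
  have hφ : ∀ a ∈ R.mpow n, φ.1 a = 0 := by
    intro a ha
    have h1 : φ.1 a ∈ (IsLocalRing.maximalIdeal R.carrier ^ (n + 1)).map φ.1.toRingHom :=
      Ideal.mem_map_of_mem _ ha
    have h2 := homSet_map_pow_le R φ (n + 1) h1
    rw [pow_succ, hn, Ideal.bot_mul] at h2
    exact h2
  exact ⟨n, truncLift R n φ hφ, truncLift_truncHom R n φ hφ⟩

/-- Transition maps between truncations. -/
noncomputable def truncMapLE {n m : ℕ} (h : n ≤ m) : R.trunc m ⟶ R.trunc n :=
  truncLift R m (R.truncHom n) (fun _ ha =>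
    Ideal.Quotient.eq_zero_iff_mem.2 (Ideal.pow_le_pow_right (Nat.succ_le_succ h) ha))

theorem truncMapLE_truncHom {n m : ℕ} (h : n ≤ m) :
    HomSet.map (truncMapLE R h) (R.truncHom m) = R.truncHom n :=
  truncLift_truncHom R m _ _

theorem truncMapLE_refl (n : ℕ) : truncMapLE R (le_refl n) = 𝟙 _ :=
  trunc_hom_ext R n (by rw [truncMapLE_truncHom]; exact Subtype.ext (AlgHom.ext fun _ => rfl))

theorem truncMapLE_succ {n m : ℕ} (h : n ≤ m) :
    truncMapLE R (h.trans (Nat.le_succ m)) = R.truncMap m ≫ truncMapLE R h :=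
  trunc_hom_ext R (m + 1) (by
    rw [truncMapLE_truncHom]
    have : HomSet.map (R.truncMap m ≫ truncMapLE R h) (R.truncHom (m + 1)) =
        HomSet.map (truncMapLE R h) (HomSet.map (R.truncMap m) (R.truncHom (m + 1))) :=
      Subtype.ext (AlgHom.ext fun _ => rfl)
    rw [this, CRing.truncMap_truncHom, truncMapLE_truncHom])

theorem formalElt_compat_le {F : Art Λ k ⥤ Type v} (u : FormalElt F R) {n m : ℕ} (h : n ≤ m) :
    F.map (truncMapLE R h) (u.elt m) = u.elt n := by
  induction m, h using Nat.le_induction with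
  | base => rw [truncMapLE_refl]; simp
  | succ m h ih =>
    rw [truncMapLE_succ R h, F.map_comp]
    change F.map (truncMapLE R h) (F.map (R.truncMap m) (u.elt (m + 1))) = u.elt n
    rw [u.compat, ih]

end Factor

end Groth.Agent.H61
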