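import Groth.Prelude.Def_ArtFun2
import Groth.Agent.H61.ArtBasic
import Groth.Agent.H61.CRingBasic
import Mathlib.RingTheory.HopkinsLevitzki
import Mathlib.RingTheory.LocalRing.RingHom.Basic

set_option autoImplicit false
set_option linter.style.haveILetI false
set_option linter.unusedSectionVars false
universe u v
open CategoryTheory

namespace Groth.Agent.H61

open ArtFun ArtFun.Art

variable {Λ : Type u} {k : Type u} [CommRing Λ] [Field k] [Algebra Λ k]
variable {P : Type u} [CommRing P] [Algebra Λ P] {resP : P →ₐ[Λ] k}

/-- An augmentation-compatible map sends the kernel of the augmentation into the maximal ideal. -/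
theorem homSet_mem_maximalIdeal' {A : Art Λ k} (φ : HomSet P resP A) {x : P} (hx : resP x = 0) :
    φ.1 x ∈ IsLocalRing.maximalIdeal A := by
  rw [mem_maximalIdeal_iff]
  have := congrArg (fun g : P →ₐ[Λ] k => g x) φ.2
  simp only [AlgHom.comp_apply] at this
  rw [this, hx]

theorem homSet_res_apply {A : Art Λ k} (φ : HomSet P resP A) (x : P) : A.res (φ.1 x) = resP x := by
  have := congrArg (fun g : P →ₐ[Λ] k => g x) φ.2
  simpa only [AlgHom.comp_apply] using this

/-- two maps out of a surjective `HomSet` element agree if they agree after precomposition -/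
theorem eq_of_homSet_map_eq {A B : Art Λ k} (p : HomSet P resP A) (hp : Function.Surjective p.1)
    (g g' : A ⟶ B) (h : HomSet.map g p = HomSet.map g' p) : g = g' := by
  apply Art.hom_ext
  apply AlgHom.ext
  intro a
  obtain ⟨x, rfl⟩ := hp a
  have := congrArg (fun t : HomSet P resP B => t.1 x) h
  exact this

/-- factorisation through a surjective `HomSet` element -/
theorem exists_factor_homSet {A B : Art Λ k} (p : HomSet P resP A) (hp : Function.Surjective p.1)
    (φ : HomSet P resP B) (hker : RingHom.ker p.1 ≤ RingHom.ker φ.1) :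
    ∃ g : A ⟶ B, HomSet.map g p = φ := by
  classical
  have hwd : ∀ x y : P, p.1 x = p.1 y → φ.1 x = φ.1 y := by
    intro x y hxy
    have : x - y ∈ RingHom.ker p.1 := by rw [RingHom.mem_ker, map_sub, hxy, sub_self]
    have := hker this
    rw [RingHom.mem_ker, map_sub, sub_eq_zero] at this
    exact this
  let s : A → P := fun a => (hp a).choose
  have hs : ∀ a, p.1 (s a) = a := fun a => (hp a).choose_spec
  have hφs : ∀ x : P, φ.1 (s (p.1 x)) = φ.1 x := fun x => hwd _ _ (hs _)
  let G : A →ₐ[Λ] B :=
    { toFun := fun a => φ.1 (s a)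
      map_one' := by
        have := hφs 1
        rw [map_one, map_one] at this
        exact this
      map_mul' := fun a b => by
        have := hφs (s a * s b)
        rw [map_mul, hs, hs, map_mul] at this
        exact this
      map_zero' := by
        have := hφs 0
        rw [map_zero, map_zero] at this
        exact this
      map_add' := fun a b => by
        have := hφs (s a + s b)
        rw [map_add, hs, hs, map_add] at this
        exact this
      commutes' := fun r => by
        have := hφs (algebraMap Λ P r)
        rw [AlgHom.commutes, AlgHom.commutes] at this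
        exact this }
  have hG : ∀ x : P, G (p.1 x) = φ.1 x := hφs
  refine ⟨⟨G, ?_⟩, ?_⟩
  · apply AlgHom.ext
    intro a
    obtain ⟨x, rfl⟩ := hp a
    change B.res (G (p.1 x)) = A.res (p.1 x)
    rw [hG, homSet_res_apply, homSet_res_apply]
  · apply Subtype.ext
    apply AlgHom.ext
    intro x
    exact hG x

variable [IsLocalRing P] [IsNoetherianRing P]

theorem maximalIdeal_eq_ker_resP (hres : Function.Surjective resP) :
    IsLocalRing.maximalIdeal P = RingHom.ker resP :=
  (IsLocalRing.ker_eq_maximalIdeal (resP : P →+* k) hres).symm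

/-- Artinian quotients of an augmented local noetherian algebra, as objects of `Art`. -/
theorem exists_artQuot (hres : Function.Surjective resP) (I : Ideal P)
    (hI : I ≤ IsLocalRing.maximalIdeal P) (N : ℕ) (hN : IsLocalRing.maximalIdeal P ^ N ≤ I) :
    ∃ (A : Art Λ k) (p : HomSet P resP A), Function.Surjective p.1 ∧ RingHom.ker p.1 = I := by
  have hItop : I ≠ ⊤ := fun h => (IsLocalRing.maximalIdeal.isMaximal P).ne_top (top_le_iff.1 (h ▸ hI))
  haveI : Nontrivial (P ⧸ I) := Ideal.Quotient.nontrivial_iff.mpr hItop
  haveI : IsLocalRing (P ⧸ I) := IsLocalRing.of_surjective' (Ideal.Quotient.mk I) Ideal.Quotient.mk_surjective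
  have hmap : (IsLocalRing.maximalIdeal P).map (Ideal.Quotient.mk I) = IsLocalRing.maximalIdeal (P ⧸ I) :=
    IsLocalRing.map_maximalIdeal_of_surjective _ Ideal.Quotient.mk_surjective
  haveI : IsArtinianRing (P ⧸ I) := by
    rw [isArtinianRing_iff_isNilpotent_maximalIdeal]
    refine ⟨N, ?_⟩
    rw [← hmap, ← Ideal.map_pow, Ideal.zero_eq_bot, Ideal.map_eq_bot_iff_le_ker, Ideal.mk_ker]
    exact hN
  have hIker : ∀ x ∈ I, resP x = 0 := by
    intro x hx
    have := hI hx
    rw [maximalIdeal_eq_ker_resP hres] at this
    exact this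
  let res' : (P ⧸ I) →ₐ[Λ] k := Ideal.Quotient.liftₐ I resP hIker
  have hres' : Function.Surjective res' := by
    intro c
    obtain ⟨x, rfl⟩ := hres c
    exact ⟨Ideal.Quotient.mk I x, rfl⟩
  refine ⟨Art.of (P ⧸ I) res' hres', ⟨Ideal.Quotient.mkₐ Λ I, ?_⟩, ?_, ?_⟩
  · apply AlgHom.ext
    intro x
    rfl
  · exact Ideal.Quotient.mk_surjective
  · ext x
    rw [RingHom.mem_ker]
    exact Ideal.Quotient.eq_zero_iff_mem

/-- a power of the maximal ideal of `P` dies in any Artinian target. -/
theorem exists_pow_le_ker_homSet (hres : Function.Surjective resP) {A : Art Λ k} (φ : HomSet P resP A) :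
    ∃ N : ℕ, IsLocalRing.maximalIdeal P ^ N ≤ RingHom.ker φ.1 := by
  obtain ⟨N, hN⟩ := art_maximalIdeal_pow_eq_bot A
  refine ⟨N, ?_⟩
  have h1 : (IsLocalRing.maximalIdeal P).map φ.1 ≤ IsLocalRing.maximalIdeal A := by
    rw [Ideal.map_le_iff_le_comap]
    intro x hx
    rw [maximalIdeal_eq_ker_resP hres] at hx
    exact homSet_mem_maximalIdeal' φ hx
  have h2 : (IsLocalRing.maximalIdeal P ^ N).map φ.1 ≤ ⊥ := by
    rw [Ideal.map_pow, ← hN]
    exact Ideal.pow_right_mono h1 N
  intro x hx
  rw [RingHom.mem_ker]
  have := h2 (Ideal.mem_map_of_mem _ hx)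
  exact (Ideal.mem_bot).1 this

theorem ker_homSet_le_maximalIdeal (hres : Function.Surjective resP) {A : Art Λ k} (φ : HomSet P resP A) :
    RingHom.ker φ.1 ≤ IsLocalRing.maximalIdeal P := by
  intro x hx
  rw [maximalIdeal_eq_ker_resP hres, RingHom.mem_ker, ← homSet_res_apply φ, (RingHom.mem_ker).1 hx, map_zero]

end Groth.Agent.H61

namespace Groth.Agent.H61

open ArtFun ArtFun.Art

variable {Λ : Type u} {k : Type u} [CommRing Λ] [Field k] [Algebra Λ k]

/-- factorisation of algebra maps through a surjection -/
theorem exists_algHom_factor {P S T : Type*} [CommRing P] [CommRing S] [CommRing T] [Algebra Λ P] [Algebra Λ S]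
    [Algebra Λ T] (π : P →ₐ[Λ] S) (hs : Function.Surjective π) (ψ : P →ₐ[Λ] T)
    (h : RingHom.ker π ≤ RingHom.ker ψ) : ∃ g : S →ₐ[Λ] T, g.comp π = ψ := by
  classical
  have hwd : ∀ x y : P, π x = π y → ψ x = ψ y := by
    intro x y hxy
    have : x - y ∈ RingHom.ker π := by rw [RingHom.mem_ker, map_sub, hxy, sub_self]
    have := h this
    rw [RingHom.mem_ker, map_sub, sub_eq_zero] at this
    exact this
  let s : S → P := fun a => (hs a).choose
  have hs' : ∀ a, π (s a) = a := fun a => (hs a).choose_spec
  have hψs : ∀ x : P, ψ (s (π x)) = ψ x := fun x => hwd _ _ (hs' _)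
  refine ⟨{ toFun := fun a => ψ (s a)
            map_one' := by
              have := hψs 1
              rw [map_one, map_one] at this
              exact this
            map_mul' := fun a b => by
              have := hψs (s a * s b)
              rw [map_mul, hs', hs', map_mul] at this
              exact this
            map_zero' := by
              have := hψs 0
              rw [map_zero, map_zero] at this
              exact this
            map_add' := fun a b => by
              have := hψs (s a + s b)
              rw [map_add, hs', hs', map_add] at this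
              exact this
            commutes' := fun r => by
              have := hψs (algebraMap Λ P r)
              rw [AlgHom.commutes, AlgHom.commutes] at this
              exact this }, ?_⟩
  apply AlgHom.ext
  intro x
  exact hψs x

section Through

variable {P : Type u} [CommRing P] [Algebra Λ P] {resP : P →ₐ[Λ] k}
variable {S : Type u} [CommRing S] [Algebra Λ S] {resS : S →ₐ[Λ] k} (π : P →ₐ[Λ] S) (hπ : resS.comp π = resP)

/-- precomposition with an augmentation-compatible map -/
def homSetComp {A : Art Λ k} (φ : HomSet S resS A) : HomSet P resP A :=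
  ⟨φ.1.comp π, by rw [← AlgHom.comp_assoc, φ.2, hπ]⟩

theorem homSetComp_apply {A : Art Λ k} (φ : HomSet S resS A) (x : P) :
    (homSetComp π hπ φ).1 x = φ.1 (π x) := rfl

theorem homSetComp_map {A B : Art Λ k} (f : A ⟶ B) (φ : HomSet S resS A) :
    homSetComp π hπ (HomSet.map f φ) = HomSet.map f (homSetComp π hπ φ) := rfl

theorem homSetComp_injective (hs : Function.Surjective π) {A : Art Λ k} :
    Function.Injective (homSetComp π hπ (A := A)) := by
  intro φ φ' h
  apply Subtype.ext
  apply AlgHom.ext
  intro y
  obtain ⟨x, rfl⟩ := hs y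
  exact congrArg (fun t : HomSet P resP A => t.1 x) h

theorem exists_homSet_of_ker_le (hs : Function.Surjective π) {A : Art Λ k} (ψ : HomSet P resP A)
    (h : RingHom.ker π ≤ RingHom.ker ψ.1) : ∃ φ : HomSet S resS A, homSetComp π hπ φ = ψ := by
  obtain ⟨g, hg⟩ := exists_algHom_factor π hs ψ.1 h
  refine ⟨⟨g, ?_⟩, Subtype.ext hg⟩
  apply AlgHom.ext
  intro y
  obtain ⟨x, rfl⟩ := hs y
  have h1 : g (π x) = ψ.1 x := congrArg (fun t : P →ₐ[Λ] A => t x) hg
  have h2 : resS (π x) = resP x := congrArg (fun t : P →ₐ[Λ] k => t x) hπ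
  change A.res (g (π x)) = resS (π x)
  rw [h1, h2, homSet_res_apply]

end Through

end Groth.Agent.H61
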