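import Groth.Agent.H61.PSBasic
import Groth.Agent.H61.HomSetQuot

set_option autoImplicit false
set_option linter.style.haveILetI false
set_option linter.unusedSectionVars false
universe u v
open CategoryTheory

namespace Groth.Agent.H61
open ArtFun ArtFun.Art MvPowerSeries

variable {Λ : Type u} {k : Type u} [CommRing Λ] [Field k] [Algebra Λ k]

/-- augmentation of the power series ring -/
noncomputable def psRes (Λ : Type u) (k : Type u) [CommRing Λ] [Field k] [Algebra Λ k] (r : ℕ) :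
    MvPowerSeries (Fin r) Λ →ₐ[Λ] k :=
  { toRingHom := (algebraMap Λ k).comp (MvPowerSeries.constantCoeff (σ := Fin r) (R := Λ))
    commutes' := fun c => by
      simp [MvPowerSeries.algebraMap_apply] }

theorem psRes_apply (r : ℕ) (f : MvPowerSeries (Fin r) Λ) :
    psRes Λ k r f = algebraMap Λ k (MvPowerSeries.constantCoeff f) := rfl

theorem psRes_surjective (hk : Function.Surjective (algebraMap Λ k)) (r : ℕ) :
    Function.Surjective (psRes Λ k r) := by
  intro c
  obtain ⟨l, rfl⟩ := hk c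
  refine ⟨MvPowerSeries.C l, ?_⟩
  rw [psRes_apply, MvPowerSeries.constantCoeff_C]

theorem psRes_X (r : ℕ) (i : Fin r) : psRes Λ k r (X i) = 0 := by
  rw [psRes_apply, MvPowerSeries.constantCoeff_X, map_zero]

/-- evaluation of power series at elements of the maximal ideal of an Artinian ring -/
theorem exists_evalHom (r : ℕ) (A : Art Λ k) (a : Fin r → A) (ha : ∀ i, a i ∈ IsLocalRing.maximalIdeal A) :
    ∃ φ : HomSet (MvPowerSeries (Fin r) Λ) (psRes Λ k r) A, ∀ i, φ.1 (X i) = a i := by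
  classical
  obtain ⟨N₀, hN₀⟩ := art_maximalIdeal_pow_eq_bot A
  have hN : IsLocalRing.maximalIdeal A ^ (N₀ + 1) = ⊥ := by
    rw [pow_succ, hN₀, Ideal.bot_mul]
  let ψ₀ : MvPolynomial (Fin r) Λ →ₐ[Λ] A := MvPolynomial.aeval a
  have h₀ : ∀ q ∈ (MvPolynomial.idealOfVars (Fin r) Λ) ^ (N₀ + 1), ψ₀ q = 0 := by
    intro q hq
    have h1 : Ideal.map ψ₀ (MvPolynomial.idealOfVars (Fin r) Λ) ≤ IsLocalRing.maximalIdeal A := by
      rw [Ideal.map_span, Ideal.span_le]
      rintro _ ⟨_, ⟨i, rfl⟩, rfl⟩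
      change ψ₀ (MvPolynomial.X i) ∈ _
      rw [MvPolynomial.aeval_X]
      exact ha i
    have h2 : ψ₀ q ∈ Ideal.map ψ₀ ((MvPolynomial.idealOfVars (Fin r) Λ) ^ (N₀ + 1)) :=
      Ideal.mem_map_of_mem _ hq
    rw [Ideal.map_pow] at h2
    have h3 := Ideal.pow_right_mono h1 (N₀ + 1) h2
    rw [hN, Ideal.mem_bot] at h3
    exact h3
  let ψ₁ : (MvPolynomial (Fin r) Λ ⧸ (MvPolynomial.idealOfVars (Fin r) Λ) ^ (N₀ + 1)) →ₐ[Λ] A :=
    Ideal.Quotient.liftₐ _ ψ₀ h₀
  let τ : MvPowerSeries (Fin r) Λ →ₐ[Λ]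
      (MvPolynomial (Fin r) Λ ⧸ (MvPolynomial.idealOfVars (Fin r) Λ) ^ (N₀ + 1)) :=
    (MvPowerSeries.truncTotalAlgHom (Fin r) Λ (N₀ + 1)).restrictScalars Λ
  have hτ : ∀ f, ψ₁ (τ f) = ψ₀ (MvPowerSeries.truncTotal (N₀ + 1) f) := fun f => rfl
  have hτ' : ∀ q : MvPolynomial (Fin r) Λ, τ (q : MvPowerSeries (Fin r) Λ) =
      Ideal.Quotient.mk _ q := by
    intro q
    have := (MvPowerSeries.truncTotalAlgHom (Fin r) Λ (N₀ + 1)).commutes q
    have h5 : algebraMap (MvPolynomial (Fin r) Λ) (MvPowerSeries (Fin r) Λ) q = (q : MvPowerSeries (Fin r) Λ) := by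
      rw [MvPowerSeries.algebraMap_apply', Algebra.algebraMap_self, MvPowerSeries.map_id]
      rfl
    rw [h5] at this
    exact this
  refine ⟨⟨ψ₁.comp τ, ?_⟩, ?_⟩
  · apply AlgHom.ext
    intro f
    change A.res (ψ₁ (τ f)) = psRes Λ k r f
    rw [hτ, MvPolynomial.comp_aeval_apply]
    have h6 : (fun i => A.res (a i)) = (fun _ => (0 : k)) := by
      funext i
      exact (mem_maximalIdeal_iff A _).1 (ha i)
    rw [h6, MvPolynomial.aeval_zero', MvPowerSeries.constantCoeff_truncTotal_eq_ite, if_pos (Nat.succ_pos _)]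
    rfl
  · intro i
    change ψ₁ (τ (X i)) = a i
    rw [← MvPolynomial.coe_X, hτ']
    change ψ₀ (MvPolynomial.X i) = a i
    rw [MvPolynomial.aeval_X]

end Groth.Agent.H61

namespace Groth.Agent.H61
open ArtFun ArtFun.Art MvPowerSeries

variable {Λ : Type u} {k : Type u} [CommRing Λ] [Field k] [Algebra Λ k]

/-- `f - trunc_N f ∈ (X)^N`. -/
theorem sub_truncTotal_mem (r N : ℕ) (f : MvPowerSeries (Fin r) Λ) :
    f - ((MvPowerSeries.truncTotal N f : MvPolynomial (Fin r) Λ) : MvPowerSeries (Fin r) Λ) ∈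
      (Ideal.span (Set.range (MvPowerSeries.X : Fin r → MvPowerSeries (Fin r) Λ))) ^ N := by
  apply mem_span_X_pow_of_coeff_eq_zero
  intro α hα
  rw [map_sub, MvPolynomial.coeff_coe, MvPowerSeries.coeff_truncTotal _ hα, sub_self]

/-- Augmentation-compatible maps from the power series ring to an Artinian ring are determined by
the images of the variables. -/
theorem homSet_ext_X (r : ℕ) {A : Art Λ k} (φ φ' : HomSet (MvPowerSeries (Fin r) Λ) (psRes Λ k r) A)
    (h : ∀ i, φ.1 (X i) = φ'.1 (X i)) : φ = φ' := by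
  classical
  obtain ⟨N, hN⟩ := art_maximalIdeal_pow_eq_bot A
  have hkill : ∀ ψ : HomSet (MvPowerSeries (Fin r) Λ) (psRes Λ k r) A,
      ∀ g ∈ (Ideal.span (Set.range (MvPowerSeries.X : Fin r → MvPowerSeries (Fin r) Λ))) ^ N, ψ.1 g = 0 := by
    intro ψ g hg
    have h1 : Ideal.map ψ.1 (Ideal.span (Set.range (MvPowerSeries.X : Fin r → MvPowerSeries (Fin r) Λ))) ≤
        IsLocalRing.maximalIdeal A := by
      rw [Ideal.map_span, Ideal.span_le]
      rintro _ ⟨_, ⟨i, rfl⟩, rfl⟩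
      exact homSet_mem_maximalIdeal' ψ (psRes_X r i)
    have h2 : ψ.1 g ∈ Ideal.map ψ.1 ((Ideal.span (Set.range (MvPowerSeries.X : Fin r → MvPowerSeries (Fin r) Λ))) ^ N) :=
      Ideal.mem_map_of_mem _ hg
    rw [Ideal.map_pow] at h2
    have h3 := Ideal.pow_right_mono h1 N h2
    rw [hN, Ideal.mem_bot] at h3
    exact h3
  have hpoly : (φ.1.comp (MvPolynomial.coeToMvPowerSeries.algHom Λ)) =
      (φ'.1.comp (MvPolynomial.coeToMvPowerSeries.algHom Λ)) := by
    apply MvPolynomial.algHom_ext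
    intro i
    simp only [AlgHom.comp_apply, MvPolynomial.coeToMvPowerSeries.algHom_apply, Algebra.algebraMap_self,
      MvPowerSeries.map_id, RingHom.id_apply, MvPolynomial.coe_X]
    exact h i
  apply Subtype.ext
  apply AlgHom.ext
  intro f
  have hf : f = (f - ((MvPowerSeries.truncTotal N f : MvPolynomial (Fin r) Λ) : MvPowerSeries (Fin r) Λ)) +
      ((MvPowerSeries.truncTotal N f : MvPolynomial (Fin r) Λ) : MvPowerSeries (Fin r) Λ) := by ring
  rw [hf, map_add, map_add, hkill φ _ (sub_truncTotal_mem r N f), hkill φ' _ (sub_truncTotal_mem r N f)]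
  congr 1
  have := congrArg (fun t : MvPolynomial (Fin r) Λ →ₐ[Λ] A => t (MvPowerSeries.truncTotal N f)) hpoly
  simpa only [AlgHom.comp_apply, MvPolynomial.coeToMvPowerSeries.algHom_apply, Algebra.algebraMap_self,
      MvPowerSeries.map_id, RingHom.id_apply] using this

/-- The power series ring has the lifting property. -/
theorem ps_lifts (r : ℕ) ⦃B A : Art Λ k⦄ (μ : B ⟶ A) (hμ : Function.Surjective μ)
    (φ : HomSet (MvPowerSeries (Fin r) Λ) (psRes Λ k r) A) :
    ∃ ψ : HomSet (MvPowerSeries (Fin r) Λ) (psRes Λ k r) B, HomSet.map μ ψ = φ := by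
  classical
  choose b hb using fun i => hμ (φ.1 (X i))
  have hbm : ∀ i, b i ∈ IsLocalRing.maximalIdeal B := by
    intro i
    rw [mem_maximalIdeal_iff, ← res_app μ, hb, homSet_res_apply, psRes_X]
  obtain ⟨ψ, hψ⟩ := exists_evalHom r B b hbm
  refine ⟨ψ, ?_⟩
  apply homSet_ext_X
  intro i
  change μ (ψ.1 (X i)) = φ.1 (X i)
  rw [hψ, hb]

end Groth.Agent.H61
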