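import Mathlib
import Groth.Agent.H61.PSPresent
import Groth.Agent.H61.PSEval
import Groth.Prelude.Def_ArtFun3

/-!
# The obstruction theory of `h_R`, `R = k[[t_1..t_d]]/J`, `J ⊆ n²`, with values in `(J/nJ)^∨`
-/

set_option autoImplicit false
set_option linter.style.haveILetI false
set_option linter.unusedSectionVars false
universe u
open CategoryTheory TensorProduct

namespace Groth.Agent.H61.ObsPS
open ArtFun ArtFun.Art MvPowerSeries Groth.Agent.H61

variable {k : Type u} [Field k] {d : ℕ}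

/-- every `k`-algebra map `k[[t]] → k` is the constant coefficient. -/
theorem algHom_eq_psRes (ρ : MvPowerSeries (Fin d) k →ₐ[k] k) : ρ = psRes k k d := by
  have hid : Function.Surjective (algebraMap k k) := fun c => ⟨c, rfl⟩
  have hsurj : Function.Surjective (ρ : MvPowerSeries (Fin d) k →+* k) := fun c =>
    ⟨algebraMap k _ c, by simp⟩
  have hker : RingHom.ker (ρ : MvPowerSeries (Fin d) k →+* k) =
      IsLocalRing.maximalIdeal (MvPowerSeries (Fin d) k) :=
    IsLocalRing.ker_eq_maximalIdeal _ hsurj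
  apply AlgHom.ext
  intro f
  have hmem : f - algebraMap k _ (psRes k k d f) ∈
      IsLocalRing.maximalIdeal (MvPowerSeries (Fin d) k) := by
    rw [ps_maximalIdeal_eq_ker hid d, RingHom.mem_ker, map_sub, AlgHom.commutes]
    simp
  rw [← hker, RingHom.mem_ker] at hmem
  have h2 : ρ (f - algebraMap k _ (psRes k k d f)) = 0 := hmem
  rw [map_sub, AlgHom.commutes, sub_eq_zero] at h2
  rw [h2]
  rfl

variable (J : Ideal (MvPowerSeries (Fin d) k))
  (res : (MvPowerSeries (Fin d) k ⧸ J) →ₐ[k] k)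

/-- the composite `k[[t]] → R → C`. -/
noncomputable def toPS {C : Art k k} (u : HomSet (MvPowerSeries (Fin d) k ⧸ J) res C) :
    HomSet (MvPowerSeries (Fin d) k) (psRes k k d) C :=
  ⟨u.1.comp (Ideal.Quotient.mkₐ k J), by
    rw [← AlgHom.comp_assoc, u.2]
    exact algHom_eq_psRes _⟩

theorem toPS_apply {C : Art k k} (u : HomSet (MvPowerSeries (Fin d) k ⧸ J) res C)
    (x : MvPowerSeries (Fin d) k) : (toPS J res u).1 x = u.1 (Ideal.Quotient.mk J x) := rfl

theorem res_mk (x : MvPowerSeries (Fin d) k) : res (Ideal.Quotient.mk J x) = psRes k k d x := by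
  have := algHom_eq_psRes (res.comp (Ideal.Quotient.mkₐ k J))
  exact DFunLike.congr_fun this x

theorem toPS_map {C' C : Art k k} (p : C' ⟶ C) (u' : HomSet (MvPowerSeries (Fin d) k ⧸ J) res C') :
    HomSet.map p (toPS J res u') = toPS J res (HomSet.map p u') :=
  Subtype.ext (AlgHom.ext fun _ => rfl)

/-- a lift of `toPS u` along `p` maps `J` into the kernel of `p`. -/
theorem lift_mem_ker {C' C : Art k k} (p : C' ⟶ C)
    (u : HomSet (MvPowerSeries (Fin d) k ⧸ J) res C)
    (ψ : HomSet (MvPowerSeries (Fin d) k) (psRes k k d) C') (hψ : HomSet.map p ψ = toPS J res u)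
    (x : MvPowerSeries (Fin d) k) (hx : x ∈ J) : ψ.1 x ∈ RingHom.ker p.toAlgHom := by
  rw [RingHom.mem_ker]
  have h1 : p.toAlgHom (ψ.1 x) = (toPS J res u).1 x := by
    rw [← hψ]; rfl
  rw [h1, toPS_apply, Ideal.Quotient.eq_zero_iff_mem.2 hx, map_zero]

/-- elements of the maximal ideal of `k[[t]]` go to the maximal ideal. -/
theorem homSet_mem_maximalIdeal {C : Art k k}
    (ψ : HomSet (MvPowerSeries (Fin d) k) (psRes k k d) C) (a : MvPowerSeries (Fin d) k)
    (ha : a ∈ IsLocalRing.maximalIdeal (MvPowerSeries (Fin d) k)) :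
    ψ.1 a ∈ IsLocalRing.maximalIdeal C := by
  have hid : Function.Surjective (algebraMap k k) := fun c => ⟨c, rfl⟩
  rw [ps_maximalIdeal_eq_ker hid d, RingHom.mem_ker] at ha
  rw [mem_maximalIdeal_iff, homSet_res_apply]
  exact ha

/-- two lifts agree on `n²`. -/
theorem lift_eq_on_sq {C' C : Art k k} (p : C' ⟶ C) (hp : IsSemismallExt p)
    (ψ₁ ψ₂ : HomSet (MvPowerSeries (Fin d) k) (psRes k k d) C')
    (h : HomSet.map p ψ₁ = HomSet.map p ψ₂) (x : MvPowerSeries (Fin d) k)
    (hx : x ∈ IsLocalRing.maximalIdeal (MvPowerSeries (Fin d) k) ^ 2) : ψ₁.1 x = ψ₂.1 x := by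
  have hdiff : ∀ y : MvPowerSeries (Fin d) k, ψ₁.1 y - ψ₂.1 y ∈ RingHom.ker p.toAlgHom := by
    intro y
    rw [RingHom.mem_ker, map_sub, sub_eq_zero]
    have := congrArg (fun φ => φ.1 y) h
    exact this
  have hkill : ∀ (m : C') (_ : m ∈ IsLocalRing.maximalIdeal C') (j : C')
      (_ : j ∈ RingHom.ker p.toAlgHom), m * j = 0 := by
    intro m hm j hj
    have : m * j ∈ IsLocalRing.maximalIdeal C' * RingHom.ker p.toAlgHom := Ideal.mul_mem_mul hm hj
    rw [hp.2] at this
    exact this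
  rw [pow_two] at hx
  refine Submodule.mul_induction_on hx ?_ ?_
  · intro a ha b hb
    have e : ψ₁.1 (a * b) - ψ₂.1 (a * b) =
        ψ₁.1 a * (ψ₁.1 b - ψ₂.1 b) + ψ₂.1 b * (ψ₁.1 a - ψ₂.1 a) := by
      rw [map_mul, map_mul]; ring
    rw [← sub_eq_zero, e, hkill _ (homSet_mem_maximalIdeal ψ₁ a ha) _ (hdiff b),
      hkill _ (homSet_mem_maximalIdeal ψ₂ b hb) _ (hdiff a), add_zero]
  · intro a b ha hb
    rw [map_add, map_add, ha, hb]


/-! ### the vector space `J / nJ` -/

/-- `J / nJ` -/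
abbrev W (J : Ideal (MvPowerSeries (Fin d) k)) : Type u :=
  ↥J ⧸ (IsLocalRing.maximalIdeal (MvPowerSeries (Fin d) k) • (⊤ : Submodule (MvPowerSeries (Fin d) k) ↥J))

theorem smul_W (s : MvPowerSeries (Fin d) k) (w : W J) :
    s • w = (MvPowerSeries.constantCoeff s : k) • w := by
  have hid : Function.Surjective (algebraMap k k) := fun c => ⟨c, rfl⟩
  obtain ⟨x, rfl⟩ := Submodule.Quotient.mk_surjective _ w
  have hmem : s - algebraMap k _ (MvPowerSeries.constantCoeff s) ∈
      IsLocalRing.maximalIdeal (MvPowerSeries (Fin d) k) := by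
    rw [ps_maximalIdeal_eq_ker hid d, RingHom.mem_ker, map_sub, AlgHom.commutes, psRes_apply]
    simp
  have h0 : (s - algebraMap k _ (MvPowerSeries.constantCoeff s)) • (Submodule.Quotient.mk x : W J) = 0 := by
    rw [← Submodule.Quotient.mk_smul, Submodule.Quotient.mk_eq_zero]
    exact Submodule.smul_mem_smul hmem Submodule.mem_top
  rw [sub_smul, sub_eq_zero, algebraMap_smul] at h0
  exact h0

instance finite_W : Module.Finite k (W J) := by
  haveI : IsNoetherianRing (MvPowerSeries (Fin d) k) := MvPowerSeries.isNoetherianRing k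
  haveI : Module.Finite (MvPowerSeries (Fin d) k) (W J) := inferInstance
  obtain ⟨G, hG⟩ := (Module.finite_def (R := MvPowerSeries (Fin d) k) (M := W J)).1 inferInstance
  refine ⟨⟨G, ?_⟩⟩
  rw [eq_top_iff]
  intro w _
  have hw : w ∈ Submodule.span (MvPowerSeries (Fin d) k) (G : Set (W J)) := by rw [hG]; trivial
  refine Submodule.span_induction (p := fun w _ => w ∈ Submodule.span k (G : Set (W J))) ?_ ?_ ?_ ?_ hw
  · intro x hx
    exact Submodule.subset_span hx
  · exact Submodule.zero_mem _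
  · intro x y _ _ hx hy
    exact Submodule.add_mem _ hx hy
  · intro s x _ hx
    rw [smul_W]
    exact Submodule.smul_mem _ _ hx


/-! ### the obstruction as a linear map `J / nJ → ker p` -/

/-- restriction of a lift to `J`, with values in the kernel. -/
noncomputable def liftLin {C' C : Art k k} (p : C' ⟶ C)
    (u : HomSet (MvPowerSeries (Fin d) k ⧸ J) res C)
    (ψ : HomSet (MvPowerSeries (Fin d) k) (psRes k k d) C') (hψ : HomSet.map p ψ = toPS J res u) :
    ↥J →ₗ[k] ↥(RingHom.ker p.toAlgHom) where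
  toFun x := ⟨ψ.1 x.1, lift_mem_ker J res p u ψ hψ x.1 x.2⟩
  map_add' x y := Subtype.ext (map_add ψ.1 x.1 y.1)
  map_smul' c x := Subtype.ext (by
    change ψ.1 (c • x.1) = c • ψ.1 x.1
    rw [map_smul])

theorem liftLin_apply {C' C : Art k k} (p : C' ⟶ C)
    (u : HomSet (MvPowerSeries (Fin d) k ⧸ J) res C)
    (ψ : HomSet (MvPowerSeries (Fin d) k) (psRes k k d) C') (hψ : HomSet.map p ψ = toPS J res u)
    (x : ↥J) : ((liftLin J res p u ψ hψ x : ↥(RingHom.ker p.toAlgHom)) : C') = ψ.1 x.1 := rfl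

theorem liftLin_kills {C' C : Art k k} (p : C' ⟶ C) (hp : IsSemismallExt p)
    (u : HomSet (MvPowerSeries (Fin d) k ⧸ J) res C)
    (ψ : HomSet (MvPowerSeries (Fin d) k) (psRes k k d) C') (hψ : HomSet.map p ψ = toPS J res u)
    (y : ↥J) (hy : y ∈ IsLocalRing.maximalIdeal (MvPowerSeries (Fin d) k) •
      (⊤ : Submodule (MvPowerSeries (Fin d) k) ↥J)) : liftLin J res p u ψ hψ y = 0 := by
  refine Submodule.smul_induction_on hy ?_ ?_
  · intro a ha x _
    apply Subtype.ext
    change ψ.1 ((a • x : ↥J) : MvPowerSeries (Fin d) k) = 0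
    have e : ((a • x : ↥J) : MvPowerSeries (Fin d) k) = a * x.1 := rfl
    rw [e, map_mul]
    have : ψ.1 a * ψ.1 x.1 ∈ IsLocalRing.maximalIdeal C' * RingHom.ker p.toAlgHom :=
      Ideal.mul_mem_mul (homSet_mem_maximalIdeal ψ a ha) (lift_mem_ker J res p u ψ hψ x.1 x.2)
    rw [hp.2] at this
    exact this
  · intro a b ha hb
    rw [map_add, ha, hb, add_zero]

/-- the obstruction linear map, independent of the chosen lift. -/
theorem exists_obsLin {C' C : Art k k} (p : C' ⟶ C) (hp : IsSemismallExt p)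
    (hJ : J ≤ IsLocalRing.maximalIdeal (MvPowerSeries (Fin d) k) ^ 2)
    (u : HomSet (MvPowerSeries (Fin d) k ⧸ J) res C) :
    ∃ L : W J →ₗ[k] ↥(RingHom.ker p.toAlgHom),
      ∀ (ψ : HomSet (MvPowerSeries (Fin d) k) (psRes k k d) C') (_ : HomSet.map p ψ = toPS J res u)
        (x : ↥J), ((L (Submodule.Quotient.mk x) : ↥(RingHom.ker p.toAlgHom)) : C') = ψ.1 x.1 := by
  obtain ⟨ψ₀, hψ₀⟩ := ps_lifts d p hp.1 (toPS J res u)
  let N : Submodule (MvPowerSeries (Fin d) k) ↥J :=
    IsLocalRing.maximalIdeal (MvPowerSeries (Fin d) k) • (⊤ : Submodule (MvPowerSeries (Fin d) k) ↥J)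
  let L0 : (↥J ⧸ N.restrictScalars k) →ₗ[k] ↥(RingHom.ker p.toAlgHom) :=
    (N.restrictScalars k).liftQ (liftLin J res p u ψ₀ hψ₀) (by
      intro y hy
      rw [LinearMap.mem_ker]
      exact liftLin_kills J res p hp u ψ₀ hψ₀ y hy)
  refine ⟨L0 ∘ₗ (Submodule.Quotient.restrictScalarsEquiv k N).symm.toLinearMap, ?_⟩
  intro ψ hψ x
  have e1 : (Submodule.Quotient.restrictScalarsEquiv k N).symm (Submodule.Quotient.mk x) =
      Submodule.Quotient.mk x := rfl
  rw [LinearMap.comp_apply, LinearEquiv.coe_coe, e1]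
  change ((liftLin J res p u ψ₀ hψ₀ x : ↥(RingHom.ker p.toAlgHom)) : C') = _
  rw [liftLin_apply]
  exact lift_eq_on_sq p hp ψ₀ ψ (hψ₀.trans hψ.symm) x.1 (hJ x.2)

/-- the obstruction linear map. -/
noncomputable def obsLin {C' C : Art k k} (p : C' ⟶ C) (hp : IsSemismallExt p)
    (hJ : J ≤ IsLocalRing.maximalIdeal (MvPowerSeries (Fin d) k) ^ 2)
    (u : HomSet (MvPowerSeries (Fin d) k ⧸ J) res C) : W J →ₗ[k] ↥(RingHom.ker p.toAlgHom) :=
  (exists_obsLin J res p hp hJ u).choose

theorem obsLin_mk {C' C : Art k k} (p : C' ⟶ C) (hp : IsSemismallExt p)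
    (hJ : J ≤ IsLocalRing.maximalIdeal (MvPowerSeries (Fin d) k) ^ 2)
    (u : HomSet (MvPowerSeries (Fin d) k ⧸ J) res C)
    (ψ : HomSet (MvPowerSeries (Fin d) k) (psRes k k d) C') (hψ : HomSet.map p ψ = toPS J res u)
    (x : ↥J) :
    ((obsLin J res p hp hJ u (Submodule.Quotient.mk x) : ↥(RingHom.ker p.toAlgHom)) : C') = ψ.1 x.1 :=
  (exists_obsLin J res p hp hJ u).choose_spec ψ hψ x


/-! ### vanishing and compatibility with quotients -/

theorem obsLin_eq_zero_iff {C' C : Art k k} (p : C' ⟶ C) (hp : IsSemismallExt p)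
    (hJ : J ≤ IsLocalRing.maximalIdeal (MvPowerSeries (Fin d) k) ^ 2)
    (u : HomSet (MvPowerSeries (Fin d) k ⧸ J) res C) :
    obsLin J res p hp hJ u = 0 ↔
      ∃ u' : HomSet (MvPowerSeries (Fin d) k ⧸ J) res C', HomSet.map p u' = u := by
  constructor
  · intro h0
    obtain ⟨ψ₀, hψ₀⟩ := ps_lifts d p hp.1 (toPS J res u)
    have hkill : ∀ x ∈ J, ψ₀.1 x = 0 := by
      intro x hx
      have := obsLin_mk J res p hp hJ u ψ₀ hψ₀ ⟨x, hx⟩
      rw [h0] at this
      exact this.symm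
    refine ⟨⟨Ideal.Quotient.liftₐ J ψ₀.1 hkill, ?_⟩, ?_⟩
    · apply AlgHom.ext
      intro y
      obtain ⟨x, rfl⟩ := Ideal.Quotient.mk_surjective y
      change C'.res (ψ₀.1 x) = res (Ideal.Quotient.mk J x)
      rw [res_mk, homSet_res_apply]
    · apply Subtype.ext
      apply AlgHom.ext
      intro y
      obtain ⟨x, rfl⟩ := Ideal.Quotient.mk_surjective y
      change p.toAlgHom (ψ₀.1 x) = u.1 (Ideal.Quotient.mk J x)
      have : p.toAlgHom (ψ₀.1 x) = (toPS J res u).1 x := by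
        rw [← hψ₀]; rfl
      rw [this, toPS_apply]
  · rintro ⟨u', hu'⟩
    have hψ : HomSet.map p (toPS J res u') = toPS J res u := by
      rw [toPS_map, hu']
    apply LinearMap.ext
    intro w
    obtain ⟨x, rfl⟩ := Submodule.Quotient.mk_surjective _ w
    apply Subtype.ext
    rw [obsLin_mk J res p hp hJ u (toPS J res u') hψ x, toPS_apply,
      Ideal.Quotient.eq_zero_iff_mem.2 x.2, map_zero]
    rfl

theorem obsLin_quot {C' C : Art k k} (p : C' ⟶ C) (hp : IsSemismallExt p)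
    (hJ : J ≤ IsLocalRing.maximalIdeal (MvPowerSeries (Fin d) k) ^ 2)
    (K : Ideal C') (hK : K ≤ IsLocalRing.maximalIdeal C') (hKJ : K ≤ RingHom.ker p.toAlgHom)
    (hq : IsSemismallExt (quotFactor hK p hKJ))
    (u : HomSet (MvPowerSeries (Fin d) k ⧸ J) res C) :
    obsLin J res (quotFactor hK p hKJ) hq hJ u =
      ((kerToQuot hK p hKJ).restrictScalars k) ∘ₗ obsLin J res p hp hJ u := by
  obtain ⟨ψ₀, hψ₀⟩ := ps_lifts d p hp.1 (toPS J res u)
  have hψ' : HomSet.map (quotFactor hK p hKJ) (HomSet.map (quotMk C' K hK) ψ₀) = toPS J res u := by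
    rw [← hψ₀]
    apply Subtype.ext
    apply AlgHom.ext
    intro y
    rfl
  apply LinearMap.ext
  intro w
  obtain ⟨x, rfl⟩ := Submodule.Quotient.mk_surjective _ w
  apply Subtype.ext
  rw [obsLin_mk J res _ hq hJ u _ hψ' x, LinearMap.comp_apply]
  change Ideal.Quotient.mk K (ψ₀.1 x.1) =
    Ideal.Quotient.mk K ((obsLin J res p hp hJ u (Submodule.Quotient.mk x) : ↥(RingHom.ker p.toAlgHom)) : C')
  rw [obsLin_mk J res p hp hJ u ψ₀ hψ₀ x]

/-- the obstruction theory of `h_{S/J}` with values in `(J/nJ)^∨`. -/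
noncomputable def obsTheory (hJ : J ≤ IsLocalRing.maximalIdeal (MvPowerSeries (Fin d) k) ^ 2) :
    ObsTheory (hR (MvPowerSeries (Fin d) k ⧸ J) res) (Module.Dual k (W J)) where
  obs p hp u := (dualTensorHomEquiv k (W J) _).symm (obsLin J res p hp hJ u)
  obs_eq_zero_iff p hp u := by
    rw [LinearEquiv.map_eq_zero_iff]
    exact obsLin_eq_zero_iff J res p hp hJ u
  obs_quot p hp K hK hKJ hq u := by
    apply (dualTensorHomEquiv k (W J) _).injective
    rw [LinearEquiv.apply_symm_apply, obsLin_quot J res p hp hJ K hK hKJ hq u]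
    have h := LinearMap.congr_fun (dualTensorHom_comp_lTensor (R := k) (M := W J)
      ((kerToQuot hK p hKJ).restrictScalars k))
      ((dualTensorHomEquiv k (W J) _).symm (obsLin J res p hp hJ u))
    rw [LinearMap.comp_apply, LinearMap.comp_apply] at h
    change _ = dualTensorHom k (W J) _ _
    rw [h]
    change _ = _ ∘ₗ (dualTensorHomEquiv k (W J) _) ((dualTensorHomEquiv k (W J) _).symm _)
    rw [LinearEquiv.apply_symm_apply]

end Groth.Agent.H61.ObsPS
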