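import Groth.Agent.H61.CRingComplete

set_option autoImplicit false
universe u v

open CategoryTheory

namespace Groth.Agent.H61

open ArtFun ArtFun.Art

variable {Λ : Type u} {k : Type u} [CommRing Λ] [Field k] [Algebra Λ k]

theorem truncMap_surjective (R : CRing Λ k) (n : ℕ) : Function.Surjective (R.truncMap n) := by
  intro x
  obtain ⟨a, rfl⟩ := Ideal.Quotient.mk_surjective x
  exact ⟨Ideal.Quotient.mk _ a, rfl⟩

theorem truncMapLE_surjective (R : CRing Λ k) {n m : ℕ} (h : n ≤ m) :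
    Function.Surjective (truncMapLE R h) := by
  intro x
  obtain ⟨a, rfl⟩ := Ideal.Quotient.mk_surjective x
  exact ⟨Ideal.Quotient.mk _ a, rfl⟩

section Lift

variable (R₁ : CRing Λ k) {R₂ : Type u} [CommRing R₂] [Algebra Λ R₂] {res₂ : R₂ →ₐ[Λ] k}

theorem compatible_le (ψ : ∀ n, HomSet R₂ res₂ (R₁.trunc n))
    (hψ : ∀ n, HomSet.map (R₁.truncMap n) (ψ (n + 1)) = ψ n) {n m : ℕ} (h : n ≤ m) :
    HomSet.map (truncMapLE R₁ h) (ψ m) = ψ n := by
  induction m, h using Nat.le_induction with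
  | base => rw [truncMapLE_refl]; exact Subtype.ext (AlgHom.ext fun _ => rfl)
  | succ m h ih =>
    rw [truncMapLE_succ R₁ h, homSet_map_comp, hψ, ih]

theorem factor_factor_eq {n m : ℕ} (hle : m ≤ n) (x : (R₁.trunc n).carrier) :
    Ideal.Quotient.factorₐ Λ (Ideal.pow_le_pow_right hle)
      (Ideal.Quotient.factorₐ Λ (Ideal.pow_le_pow_right (Nat.le_succ n)) (x : R₁.carrier ⧸ R₁.mpow n)) =
    Ideal.Quotient.factorₐ Λ (Ideal.pow_le_pow_right (Nat.le_succ m))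
      (truncMapLE R₁ hle x : R₁.carrier ⧸ R₁.mpow m) := by
  obtain ⟨a, rfl⟩ := Ideal.Quotient.mk_surjective x
  rfl

theorem factor_eq_truncMap (n : ℕ) (x : (R₁.trunc (n + 1)).carrier) :
    Ideal.Quotient.factorₐ Λ (Ideal.pow_le_pow_right (Nat.le_succ (n + 1)))
      (x : R₁.carrier ⧸ R₁.mpow (n + 1)) = (R₁.truncMap n x : R₁.carrier ⧸ R₁.mpow n) := by
  obtain ⟨a, rfl⟩ := Ideal.Quotient.mk_surjective x
  rfl

/-- A compatible system of maps to the truncations of a complete ring comes from a map to the ring. -/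
theorem exists_algHom_of_compatible (ψ : ∀ n, HomSet R₂ res₂ (R₁.trunc n))
    (hψ : ∀ n, HomSet.map (R₁.truncMap n) (ψ (n + 1)) = ψ n) :
    ∃ φ : R₂ →ₐ[Λ] R₁.carrier, ∀ n, (R₁.truncHom n).1.comp φ = (ψ n).1 := by
  have := R₁.isAdicComplete
  let I := IsLocalRing.maximalIdeal R₁.carrier
  let f : (n : ℕ) → R₂ →ₐ[Λ] R₁.carrier ⧸ I ^ n := fun n =>
    (Ideal.Quotient.factorₐ Λ (Ideal.pow_le_pow_right (Nat.le_succ n))).comp (ψ n).1
  have hf : ∀ {m n : ℕ} (hle : m ≤ n),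
      (Ideal.Quotient.factorₐ Λ (Ideal.pow_le_pow_right hle)).comp (f n) = f m := by
    intro m n hle
    apply AlgHom.ext
    intro r
    have h1 := congrArg (fun t : HomSet R₂ res₂ (R₁.trunc m) => t.1 r) (compatible_le R₁ ψ hψ hle)
    change truncMapLE R₁ hle ((ψ n).1 r) = (ψ m).1 r at h1
    refine (factor_factor_eq R₁ hle ((ψ n).1 r)).trans ?_
    exact congrArg (Ideal.Quotient.factorₐ Λ (Ideal.pow_le_pow_right (Nat.le_succ m))) h1
  refine ⟨IsAdicComplete.liftAlgHom I f hf, fun n => ?_⟩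
  apply AlgHom.ext
  intro r
  have h1 : Ideal.Quotient.mk (I ^ (n + 1)) (IsAdicComplete.liftAlgHom I f hf r) = f (n + 1) r :=
    IsAdicComplete.mk_liftAlgHom I f hf (n + 1) r
  change Ideal.Quotient.mk (I ^ (n + 1)) (IsAdicComplete.liftAlgHom I f hf r) = (ψ n).1 r
  rw [h1]
  have h2 := congrArg (fun t : HomSet R₂ res₂ (R₁.trunc n) => t.1 r) (hψ n)
  change R₁.truncMap n ((ψ (n + 1)).1 r) = (ψ n).1 r at h2
  exact (factor_eq_truncMap R₁ n ((ψ (n + 1)).1 r)).trans h2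

theorem res_comp_of_trunc_zero (φ : R₂ →ₐ[Λ] R₁.carrier) (ψ0 : HomSet R₂ res₂ (R₁.trunc 0))
    (h : (R₁.truncHom 0).1.comp φ = ψ0.1) : R₁.res.comp φ = res₂ := by
  rw [← ψ0.2, ← h, ← AlgHom.comp_assoc, (R₁.truncHom 0).2]

end Lift

section Versal

variable {F₂ : Art Λ k ⥤ Type v} {R₂ : Type u} [CommRing R₂] [Algebra Λ R₂] {res₂ : R₂ →ₐ[Λ] k}

/-- Given a versal family `ξ₂` over `R₂` that is surjective on `R₁/m`, every formal element of `F₂` over a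
complete ring `R₁` is induced from `ξ₂` along a map `R₂ → R₁`. -/
theorem exists_along_toFormalElt_eq (ξ₂ : Family R₂ res₂ F₂) (hv : IsVersal ξ₂) (R₁ : CRing Λ k)
    (hs : Function.Surjective (ξ₂.app (R₁.trunc 0))) (u : FormalElt F₂ R₁) :
    ∃ (φ : R₂ →ₐ[Λ] R₁.carrier) (hφ : R₁.res.comp φ = res₂), (ξ₂.along φ hφ).toFormalElt = u := by
  have step : ∀ (n : ℕ) (ψ : {ψ : HomSet R₂ res₂ (R₁.trunc n) // ξ₂.app _ ψ = u.elt n}),
      ∃ ψ' : HomSet R₂ res₂ (R₁.trunc (n + 1)),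
        HomSet.map (R₁.truncMap n) ψ' = ψ.1 ∧ ξ₂.app _ ψ' = u.elt (n + 1) := by
    intro n ψ
    apply hv (R₁.truncMap n) (truncMap_surjective R₁ n) ψ.1 (u.elt (n + 1))
    rw [u.compat, ψ.2]
  choose nxt hnxt1 hnxt2 using step
  obtain ⟨ψ0, hψ0⟩ := hs (u.elt 0)
  let seq : ∀ n, {ψ : HomSet R₂ res₂ (R₁.trunc n) // ξ₂.app _ ψ = u.elt n} :=
    fun n => Nat.rec ⟨ψ0, hψ0⟩ (fun n ψ => ⟨nxt n ψ, hnxt2 n ψ⟩) n
  have hseq : ∀ n, HomSet.map (R₁.truncMap n) (seq (n + 1)).1 = (seq n).1 := fun n => hnxt1 n (seq n)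
  obtain ⟨φ, hφ⟩ := exists_algHom_of_compatible R₁ (fun n => (seq n).1) hseq
  have hres : R₁.res.comp φ = res₂ := res_comp_of_trunc_zero R₁ φ (seq 0).1 (hφ 0)
  refine ⟨φ, hres, ?_⟩
  apply FormalElt.ext'
  intro n
  rw [along_toFormalElt_elt, ← (seq n).2]
  congr 1
  exact Subtype.ext (hφ n)

end Versal

end Groth.Agent.H61
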