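import Mathlib
import Groth.Agent.H61.PSPresent
import Groth.Agent.H61.PSEval
import Groth.Agent.H61.PSComplete
import Groth.Agent.H61.CRingLift
import Groth.Agent.H63.CRingSurj

/-!
# Minimal presentations of complete local `k`-algebras (`Λ = k` a field)

Every `R : CRing k k` is a quotient `k[[t_1..t_d]] / J` with `J ⊆ n²`.
-/

set_option autoImplicit false
universe u v
open CategoryTheory

namespace Groth.Agent.H61
open ArtFun ArtFun.Art MvPowerSeries

variable {k : Type u} [Field k]

/-- the power series ring over a field, as a coefficient ring. -/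
noncomputable def psCRing (k : Type u) [Field k] (d : ℕ) : CRing k k where
  carrier := MvPowerSeries (Fin d) k
  res := psRes k k d
  res_surjective := psRes_surjective (fun c => ⟨c, rfl⟩) d
  isAdicComplete := by
    haveI : IsAdicComplete (IsLocalRing.maximalIdeal k) k := by
      rw [IsLocalRing.maximalIdeal_eq_bot]; infer_instance
    exact ps_isAdicComplete d

theorem exists_ps_presentation (R : CRing k k) :
    ∃ (d : ℕ) (π : MvPowerSeries (Fin d) k →ₐ[k] R.carrier), R.res.comp π = psRes k k d ∧
      Function.Surjective π ∧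
      RingHom.ker π ≤ IsLocalRing.maximalIdeal (MvPowerSeries (Fin d) k) ^ 2 := by
  have hid : Function.Surjective (algebraMap k k) := fun c => ⟨c, rfl⟩
  obtain ⟨d, p1, hp1s, hp1k⟩ := exists_presentation hid (R.trunc 1)
  have hbot : Ideal.map (algebraMap k (MvPowerSeries (Fin d) k)) (IsLocalRing.maximalIdeal k) = ⊥ := by
    rw [IsLocalRing.maximalIdeal_eq_bot, Ideal.map_bot]
  rw [hbot, sup_bot_eq] at hp1k
  -- the compatible system
  have step : ∀ (n : ℕ) (ψ : HomSet (MvPowerSeries (Fin d) k) (psRes k k d) (R.trunc (n + 1))),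
      ∃ ψ' : HomSet (MvPowerSeries (Fin d) k) (psRes k k d) (R.trunc (n + 2)),
        HomSet.map (R.truncMap (n + 1)) ψ' = ψ := fun n ψ =>
    ps_lifts d (R.truncMap (n + 1)) (truncMap_surjective R (n + 1)) ψ
  choose nxt hnxt using step
  let χ : ∀ n : ℕ, HomSet (MvPowerSeries (Fin d) k) (psRes k k d) (R.trunc (n + 1)) :=
    fun n => Nat.rec (motive := fun n => HomSet (MvPowerSeries (Fin d) k) (psRes k k d) (R.trunc (n + 1)))
      p1 (fun n prev => nxt n prev) n
  have hχ0 : χ 0 = p1 := rfl
  have hχs : ∀ n, χ (n + 1) = nxt n (χ n) := fun n => rfl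
  let ψ : ∀ n : ℕ, HomSet (MvPowerSeries (Fin d) k) (psRes k k d) (R.trunc n) := fun n =>
    match n with
    | 0 => HomSet.map (R.truncMap 0) p1
    | (m + 1) => χ m
  have hψ : ∀ n, HomSet.map (R.truncMap n) (ψ (n + 1)) = ψ n := by
    intro n
    cases n with
    | zero => rfl
    | succ m =>
      change HomSet.map (R.truncMap (m + 1)) (χ (m + 1)) = χ m
      rw [hχs, hnxt]
  obtain ⟨π, hπ⟩ := exists_algHom_of_compatible R ψ hψ
  have hres : R.res.comp π = psRes k k d := res_comp_of_trunc_zero R π (ψ 0) (hπ 0)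
  have hπ1 : ∀ s, Ideal.Quotient.mk (R.mpow 1) (π s) = p1.1 s := by
    intro s
    exact DFunLike.congr_fun (hπ 1) s
  refine ⟨d, π, hres, ?_, ?_⟩
  · apply Groth.Agent.H63.CR.surjective_of_cotangent (psCRing k d) R π hres
    apply le_antisymm
    · apply sup_le
      · exact Groth.Agent.H63.CR.map_maximalIdeal_le (psCRing k d) R π hres
      · exact Ideal.pow_le_self two_ne_zero
    · intro b hb
      obtain ⟨s, hs⟩ := hp1s (Ideal.Quotient.mk (R.mpow 1) b)
      have hsb : π s - b ∈ IsLocalRing.maximalIdeal R.carrier ^ 2 := by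
        have hs' : Ideal.Quotient.mk (R.mpow 1) (π s) = Ideal.Quotient.mk (R.mpow 1) b :=
          (hπ1 s).trans hs
        exact Ideal.Quotient.eq.1 hs'
      have hsn : s ∈ IsLocalRing.maximalIdeal (MvPowerSeries (Fin d) k) := by
        rw [ps_maximalIdeal_eq_ker hid d, RingHom.mem_ker, ← hres]
        change R.res (π s) = 0
        rw [← R.mem_maximalIdeal_iff]
        have : π s = (π s - b) + b := by ring
        rw [this]
        exact Ideal.add_mem _ (Ideal.pow_le_self two_ne_zero hsb) hb
      have : b = π s + (b - π s) := by ring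
      rw [this]
      refine Ideal.add_mem _ (Ideal.mem_sup_left (Ideal.mem_map_of_mem _ hsn)) (Ideal.mem_sup_right ?_)
      rw [← Ideal.neg_mem_iff, neg_sub]
      exact hsb
  · intro s hs
    apply hp1k
    rw [RingHom.mem_ker] at hs ⊢
    change p1.1 s = 0
    have h1 := hπ1 s
    rw [hs, map_zero] at h1
    exact h1.symm

end Groth.Agent.H61
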