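import Mathlib
import Groth.Agent.H61.PSPresentCRing
import Groth.Agent.H61.PSDim
import Groth.Agent.H63.CRingSurj
import Groth.Agent.H61.ObsPS

/-!
# Complete noetherian local `k`-algebras with residue field `k`, as coefficient rings
-/

set_option autoImplicit false
set_option linter.style.haveILetI false
universe u
open CategoryTheory

namespace Groth.Agent.H61.CLK
open ArtFun ArtFun.Art MvPowerSeries

variable (k : Type u) [Field k] (R : Type u) [CommRing R] [IsLocalRing R] [Algebra k R]

/-- the residue field is `k`. -/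
noncomputable def residueEquiv
    (hR : Function.Surjective ((IsLocalRing.residue R).comp (algebraMap k R))) :
    k ≃ₐ[k] IsLocalRing.ResidueField R :=
  AlgEquiv.ofBijective (Algebra.ofId k (IsLocalRing.ResidueField R))
    ⟨(algebraMap k (IsLocalRing.ResidueField R)).injective, by
      intro x
      obtain ⟨c, hc⟩ := hR x
      exact ⟨c, hc⟩⟩

/-- the augmentation. -/
noncomputable def res (hR : Function.Surjective ((IsLocalRing.residue R).comp (algebraMap k R))) :
    R →ₐ[k] k :=
  (residueEquiv k R hR).symm.toAlgHom.comp (IsScalarTower.toAlgHom k R (IsLocalRing.ResidueField R))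

variable {k R}

theorem res_eq_zero_iff (hR : Function.Surjective ((IsLocalRing.residue R).comp (algebraMap k R)))
    (x : R) : res k R hR x = 0 ↔ x ∈ IsLocalRing.maximalIdeal R := by
  change (residueEquiv k R hR).symm (IsLocalRing.residue R x) = 0 ↔ _
  rw [map_eq_zero_iff _ (residueEquiv k R hR).symm.injective, IsLocalRing.residue_eq_zero_iff]

/-- any `k`-algebra map to `k` is the augmentation. -/
theorem algHom_eq_res (hR : Function.Surjective ((IsLocalRing.residue R).comp (algebraMap k R)))
    (ρ : R →ₐ[k] k) : ρ = res k R hR := by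
  have hker : ∀ ρ' : R →ₐ[k] k, ∀ x ∈ IsLocalRing.maximalIdeal R, ρ' x = 0 := by
    intro ρ' x hx
    have hsurj : Function.Surjective (ρ' : R →+* k) := fun c => ⟨algebraMap k R c, by simp⟩
    have := IsLocalRing.ker_eq_maximalIdeal (ρ' : R →+* k) hsurj
    rw [← this] at hx
    exact hx
  have hval : ∀ ρ' : R →ₐ[k] k, ∀ (x : R) (c : k),
      IsLocalRing.residue R (algebraMap k R c) = IsLocalRing.residue R x → ρ' x = c := by
    intro ρ' x c hc
    have hmem : x - algebraMap k R c ∈ IsLocalRing.maximalIdeal R := by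
      rw [← IsLocalRing.residue_eq_zero_iff, map_sub, hc, sub_self]
    have := hker ρ' _ hmem
    rw [map_sub, AlgHom.commutes, sub_eq_zero] at this
    exact this
  apply AlgHom.ext
  intro x
  obtain ⟨c, hc⟩ := hR (IsLocalRing.residue R x)
  rw [hval ρ x c hc, hval (res k R hR) x c hc]

variable (k R)

/-- `R` as a coefficient ring. -/
noncomputable def toCRing [IsNoetherianRing R] [IsAdicComplete (IsLocalRing.maximalIdeal R) R]
    (hR : Function.Surjective ((IsLocalRing.residue R).comp (algebraMap k R))) : CRing k k where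
  carrier := R
  res := res k R hR
  res_surjective := fun c => ⟨algebraMap k R c, by simp⟩
  isAdicComplete := inferInstance


section PS

variable [IsNoetherianRing R]
variable {k R}
variable (hR : Function.Surjective ((IsLocalRing.residue R).comp (algebraMap k R)))
  {d : ℕ} (ψ : MvPowerSeries (Fin d) k →ₐ[k] R)
  (hψ : ∀ i : Fin d, ψ (MvPowerSeries.X i) ∈ IsLocalRing.maximalIdeal R)

include hψ in
theorem map_maximalIdeal_ps_le :
    (IsLocalRing.maximalIdeal (MvPowerSeries (Fin d) k)).map ψ ≤ IsLocalRing.maximalIdeal R := by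
  rw [maximalIdeal_ps_eq_span_X, Ideal.map_span, Ideal.span_le]
  rintro _ ⟨_, ⟨i, rfl⟩, rfl⟩
  exact hψ i

include hψ in
theorem maximalIdeal_le_map_of_span
    (hsp : Submodule.span (IsLocalRing.ResidueField R)
      (Set.range (fun i : Fin d => (IsLocalRing.maximalIdeal R).toCotangent ⟨ψ (MvPowerSeries.X i), hψ i⟩)) = ⊤) :
    IsLocalRing.maximalIdeal R ≤ (IsLocalRing.maximalIdeal (MvPowerSeries (Fin d) k)).map ψ := by
  have h1 : Submodule.span R (Set.range (fun i : Fin d =>
      (⟨ψ (MvPowerSeries.X i), hψ i⟩ : IsLocalRing.maximalIdeal R))) = ⊤ := by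
    rw [← IsLocalRing.CotangentSpace.span_image_eq_top_iff, ← Set.range_comp]
    exact hsp
  intro x hx
  have hx' : (⟨x, hx⟩ : IsLocalRing.maximalIdeal R) ∈ Submodule.span R (Set.range (fun i : Fin d =>
      (⟨ψ (MvPowerSeries.X i), hψ i⟩ : IsLocalRing.maximalIdeal R))) := by rw [h1]; trivial
  have hx'' : x ∈ Submodule.map (IsLocalRing.maximalIdeal R).subtype (Submodule.span R (Set.range
      (fun i : Fin d => (⟨ψ (MvPowerSeries.X i), hψ i⟩ : IsLocalRing.maximalIdeal R)))) :=
    ⟨⟨x, hx⟩, hx', rfl⟩
  rw [Submodule.map_span, ← Set.range_comp] at hx''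
  have hle : Submodule.span R (Set.range ((IsLocalRing.maximalIdeal R).subtype ∘
      fun i : Fin d => (⟨ψ (MvPowerSeries.X i), hψ i⟩ : IsLocalRing.maximalIdeal R))) ≤
      (IsLocalRing.maximalIdeal (MvPowerSeries (Fin d) k)).map ψ := by
    rw [Submodule.span_le]
    rintro _ ⟨i, rfl⟩
    apply Ideal.mem_map_of_mem
    exact span_X_le_maximalIdeal (Λ := k) d (Ideal.subset_span ⟨i, rfl⟩)
  exact hle hx''

include hψ in
theorem ps_surjective [IsAdicComplete (IsLocalRing.maximalIdeal R) R]
    (hres : Function.Surjective ((IsLocalRing.residue R).comp (algebraMap k R)))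
    (hsp : Submodule.span (IsLocalRing.ResidueField R)
      (Set.range (fun i : Fin d => (IsLocalRing.maximalIdeal R).toCotangent ⟨ψ (MvPowerSeries.X i), hψ i⟩)) = ⊤) :
    Function.Surjective ψ := by
  have hf : (toCRing k R hres).res.comp ψ = (psCRing k d).res :=
    ObsPS.algHom_eq_psRes _
  apply Groth.Agent.H63.CR.surjective_of_cotangent (psCRing k d) (toCRing k R hres) ψ hf
  apply le_antisymm
  · exact sup_le (map_maximalIdeal_ps_le ψ hψ) (Ideal.pow_le_self two_ne_zero)
  · exact le_sup_of_le_left (maximalIdeal_le_map_of_span ψ hψ hsp)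

include hψ in
theorem ps_ker_le_sq
    (hres : Function.Surjective ((IsLocalRing.residue R).comp (algebraMap k R)))
    (hb : LinearIndependent (IsLocalRing.ResidueField R)
      (fun i : Fin d => (IsLocalRing.maximalIdeal R).toCotangent ⟨ψ (MvPowerSeries.X i), hψ i⟩)) :
    RingHom.ker ψ ≤ IsLocalRing.maximalIdeal (MvPowerSeries (Fin d) k) ^ 2 := by
  classical
  intro f hf
  have hf0 : ψ f = 0 := (RingHom.mem_ker).1 hf
  set c₀ : k := MvPowerSeries.coeff 0 f with hc₀
  set c : Fin d → k := fun i => MvPowerSeries.coeff (Finsupp.single i 1) f with hc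
  set q := f - (MvPowerSeries.C c₀ + ∑ i, MvPowerSeries.C (c i) * MvPowerSeries.X i) with hq
  have hqmem : q ∈ IsLocalRing.maximalIdeal (MvPowerSeries (Fin d) k) ^ 2 := by
    rw [maximalIdeal_ps_eq_span_X]
    exact ps_decomp d f
  have hψq : ψ q ∈ IsLocalRing.maximalIdeal R ^ 2 := by
    have h1 : (IsLocalRing.maximalIdeal (MvPowerSeries (Fin d) k) ^ 2).map ψ ≤
        IsLocalRing.maximalIdeal R ^ 2 := by
      rw [Ideal.map_pow]
      exact Ideal.pow_right_mono (map_maximalIdeal_ps_le ψ hψ) 2
    exact h1 (Ideal.mem_map_of_mem _ hqmem)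
  have hC : ∀ a : k, ψ (MvPowerSeries.C a) = algebraMap k R a := fun a => by
    have : (MvPowerSeries.C a : MvPowerSeries (Fin d) k) = algebraMap k _ a := by
      rw [MvPowerSeries.algebraMap_apply]; rfl
    rw [this, AlgHom.commutes]
  -- the linear relation
  have hrel : algebraMap k R c₀ + ∑ i, algebraMap k R (c i) * ψ (MvPowerSeries.X i) = - ψ q := by
    have : f = q + (MvPowerSeries.C c₀ + ∑ i, MvPowerSeries.C (c i) * MvPowerSeries.X i) := by
      rw [hq]; ring
    rw [this, map_add, map_add, map_sum, hC] at hf0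
    simp only [map_mul, hC] at hf0
    linear_combination hf0
  have hsum_mem : ∑ i, algebraMap k R (c i) * ψ (MvPowerSeries.X i) ∈ IsLocalRing.maximalIdeal R :=
    Ideal.sum_mem _ fun i _ => Ideal.mul_mem_left _ _ (hψ i)
  have hc₀0 : c₀ = 0 := by
    have hmem : algebraMap k R c₀ ∈ IsLocalRing.maximalIdeal R := by
      have h1 : algebraMap k R c₀ = - ψ q - ∑ i, algebraMap k R (c i) * ψ (MvPowerSeries.X i) := by
        rw [← hrel]; ring
      rw [h1]
      exact Ideal.sub_mem _ (Ideal.neg_mem_iff _ |>.2 (Ideal.pow_le_self two_ne_zero hψq)) hsum_mem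
    have := (res_eq_zero_iff hres _).2 hmem
    rw [AlgHom.commutes] at this
    exact this
  have hsum_sq : ∑ i, algebraMap k R (c i) * ψ (MvPowerSeries.X i) ∈ IsLocalRing.maximalIdeal R ^ 2 := by
    have h1 : ∑ i, algebraMap k R (c i) * ψ (MvPowerSeries.X i) = - ψ q := by
      rw [← hrel, hc₀0, map_zero, zero_add]
    rw [h1]
    exact (Ideal.neg_mem_iff _).2 hψq
  -- in the cotangent space
  let y : IsLocalRing.maximalIdeal R :=
    ∑ i, algebraMap k R (c i) • (⟨ψ (MvPowerSeries.X i), hψ i⟩ : IsLocalRing.maximalIdeal R)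
  have hy : (y : R) = ∑ i, algebraMap k R (c i) * ψ (MvPowerSeries.X i) := by
    simp [y, Algebra.smul_def]
  have hτ : (IsLocalRing.maximalIdeal R).toCotangent y = 0 := by
    rw [Ideal.toCotangent_eq_zero, hy]
    exact hsum_sq
  have hτ' : ∑ i, (IsLocalRing.residue R (algebraMap k R (c i))) •
      (IsLocalRing.maximalIdeal R).toCotangent ⟨ψ (MvPowerSeries.X i), hψ i⟩ = 0 := by
    rw [← hτ, map_sum]
    apply Finset.sum_congr rfl
    intro i _
    rw [map_smul]
    rfl
  have hci := Fintype.linearIndependent_iff.1 hb _ hτ'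
  have hc0 : ∀ i, c i = 0 := by
    intro i
    have h1 : algebraMap k R (c i) ∈ IsLocalRing.maximalIdeal R :=
      (IsLocalRing.residue_eq_zero_iff _).1 (hci i)
    have := (res_eq_zero_iff hres _).2 h1
    rw [AlgHom.commutes] at this
    exact this
  have : f = q := by
    rw [hq, hc₀0, map_zero, zero_add]
    simp [hc0]
  rw [this]
  exact hqmem

end PS

end Groth.Agent.H61.CLK
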