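import Mathlib
import Groth.Prelude.Def_ArtFun3

/-!
# Dimension estimates from generators of the kernel of a regular presentation
-/

set_option autoImplicit false
universe u v
open CategoryTheory

namespace Groth.Agent.H61
open ArtFun ArtFun.Art

theorem exists_nat_eq_of_le {x : WithBot ℕ∞} {d : ℕ} (h0 : 0 ≤ x) (hd : x ≤ (d : WithBot ℕ∞)) :
    ∃ m : ℕ, x = (m : WithBot ℕ∞) := by
  induction x using WithBot.recBotCoe with
  | bot => simp at h0
  | coe y =>
    induction y using ENat.recTopCoe with
    | top =>
      exfalso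
      have : ((⊤ : ℕ∞) : WithBot ℕ∞) ≤ ((d : ℕ∞) : WithBot ℕ∞) := hd
      rw [WithBot.coe_le_coe] at this
      exact absurd this (by simp)
    | coe m => exact ⟨m, rfl⟩

/-- the abstract dimension count. -/
theorem dim_estimates {R : Type u} [CommRing R] [IsLocalRing R] [IsNoetherianRing R]
    {P : Type u} [CommRing P] [IsRegularLocalRing P] (π : P →+* R) (hπ : Function.Surjective π)
    (s : Finset P) (hs : Ideal.span (s : Set P) = RingHom.ker π) (c r : ℕ)
    (hcard : s.card ≤ c + r)
    (hemb : (IsLocalRing.maximalIdeal R).spanFinrank + c ≤ (IsLocalRing.maximalIdeal P).spanFinrank) :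
    ringKrullDim R ≤ (Module.finrank (IsLocalRing.ResidueField R) (IsLocalRing.CotangentSpace R) : WithBot ℕ∞) ∧
      (Module.finrank (IsLocalRing.ResidueField R) (IsLocalRing.CotangentSpace R) : WithBot ℕ∞) ≤
          ringKrullDim R + (r : WithBot ℕ∞) ∧
      (r = 0 → IsRegularLocalRing R) ∧
      (ringKrullDim R + (r : WithBot ℕ∞) =
          (Module.finrank (IsLocalRing.ResidueField R) (IsLocalRing.CotangentSpace R) : WithBot ℕ∞) →
        ∃ (P : Type u) (_ : CommRing P) (_ : IsRegularLocalRing P) (π : P →+* R) (s : Finset P),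
          Function.Surjective π ∧ Ideal.span (s : Set P) = RingHom.ker π ∧
            ringKrullDim P = ringKrullDim R + (s.card : WithBot ℕ∞)) := by
  rw [← IsLocalRing.spanFinrank_maximalIdeal_eq_finrank_cotangentSpace R]
  set d := (IsLocalRing.maximalIdeal R).spanFinrank with hd
  set n := (IsLocalRing.maximalIdeal P).spanFinrank with hn
  have h1 : ringKrullDim R ≤ (d : WithBot ℕ∞) := ringKrullDim_le_spanFinrank_maximalIdeal R
  obtain ⟨m, hm⟩ := exists_nat_eq_of_le ringKrullDim_nonneg_of_nontrivial h1
  have hP : ringKrullDim P = (n : WithBot ℕ∞) :=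
    (IsRegularLocalRing.spanFinrank_maximalIdeal (R := P)).symm
  have hsub : (s : Set P) ⊆ Ring.jacobson P := by
    rw [IsLocalRing.ringJacobson_eq_maximalIdeal]
    intro x hx
    have hx' : x ∈ RingHom.ker π := by rw [← hs]; exact Ideal.subset_span hx
    rw [SetLike.mem_coe, IsLocalRing.mem_maximalIdeal, mem_nonunits_iff]
    intro hu
    have := hu.map π
    rw [(RingHom.mem_ker).1 hx'] at this
    exact not_isUnit_zero this
  have h2 := ringKrullDim_le_ringKrullDim_quotient_add_card s hsub
  rw [hs, ringKrullDim_eq_of_ringEquiv (RingHom.quotientKerEquivOfSurjective hπ), hP, hm] at h2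
  have h2' : n ≤ m + s.card := by exact_mod_cast h2
  rw [hm]
  have hm' : m ≤ d := by exact_mod_cast (hm ▸ h1)
  refine ⟨by exact_mod_cast hm', ?_, ?_, ?_⟩
  · have : d ≤ m + r := by omega
    exact_mod_cast this
  · intro hr
    apply IsRegularLocalRing.of_spanFinrank_maximalIdeal_le
    rw [hm]
    have : d ≤ m := by omega
    exact_mod_cast this
  · intro heq
    have heq' : m + r = d := by exact_mod_cast heq
    refine ⟨P, inferInstance, inferInstance, π, s, hπ, hs, ?_⟩
    rw [hP]
    have : n = m + s.card := by omega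
    exact_mod_cast this

end Groth.Agent.H61
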