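import Groth.Agent.H61.PSComplete
import Groth.Prelude.Def_ArtFun2

set_option autoImplicit false
set_option linter.style.haveILetI false
set_option linter.unusedSectionVars false
universe u v

namespace Groth.Agent.H61

/-- Cauchy sequences: from successive differences. -/
theorem exists_limit_of_succ {R : Type*} [CommRing R] (I : Ideal R) [IsPrecomplete I R] (G : ℕ → R)
    (hG : ∀ n, G (n + 1) - G n ∈ I ^ n) : ∃ L : R, ∀ n, G n - L ∈ I ^ n := by
  have hprec : IsPrecomplete I R := inferInstance
  have hc : AdicCompletion.IsAdicCauchy I R G := by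
    rw [AdicCompletion.isAdicCauchy_iff]
    intro n
    rw [smodEq_pow_iff]
    have := Ideal.neg_mem_iff (I ^ n) |>.2 (hG n)
    rwa [neg_sub] at this
  obtain ⟨L, hL⟩ := hprec.prec (f := G) (fun {m n} hmn => hc hmn)
  exact ⟨L, fun n => (smodEq_pow_iff _ n _ _).1 (hL n)⟩

/-- A quotient of a complete noetherian local ring is complete. -/
theorem isAdicComplete_quotient {R : Type*} [CommRing R] [IsLocalRing R] [IsNoetherianRing R]
    [IsAdicComplete (IsLocalRing.maximalIdeal R) R] (J : Ideal R) [IsLocalRing (R ⧸ J)] :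
    IsAdicComplete (IsLocalRing.maximalIdeal (R ⧸ J)) (R ⧸ J) := by
  classical
  have hmap : ∀ n, (IsLocalRing.maximalIdeal R ^ n).map (Ideal.Quotient.mk J) = IsLocalRing.maximalIdeal (R ⧸ J) ^ n := by
    intro n
    rw [Ideal.map_pow, IsLocalRing.map_maximalIdeal_of_surjective _ Ideal.Quotient.mk_surjective]
  haveI : IsHausdorff (IsLocalRing.maximalIdeal (R ⧸ J)) (R ⧸ J) := inferInstance
  haveI : IsPrecomplete (IsLocalRing.maximalIdeal (R ⧸ J)) (R ⧸ J) := by
    constructor
    intro F hF
    have hF' : ∀ n, F (n + 1) - F n ∈ IsLocalRing.maximalIdeal (R ⧸ J) ^ n := by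
      intro n
      have := (smodEq_pow_iff _ n _ _).1 (hF (Nat.le_succ n))
      have := Ideal.neg_mem_iff _ |>.2 this
      rwa [neg_sub] at this
    have hd : ∀ n, ∃ d ∈ IsLocalRing.maximalIdeal R ^ n, Ideal.Quotient.mk J d = F (n + 1) - F n := by
      intro n
      have := hF' n
      rw [← hmap n] at this
      exact (Ideal.mem_map_iff_of_surjective _ Ideal.Quotient.mk_surjective).1 this
    choose d hd hd' using hd
    obtain ⟨g₀, hg₀⟩ := Ideal.Quotient.mk_surjective (F 0)
    let G : ℕ → R := fun n => g₀ + ∑ i ∈ Finset.range n, d i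
    have hGF : ∀ n, Ideal.Quotient.mk J (G n) = F n := by
      intro n
      simp only [G, map_add, map_sum, hd', hg₀, Finset.sum_range_sub]
      ring
    have hGs : ∀ n, G (n + 1) - G n ∈ IsLocalRing.maximalIdeal R ^ n := by
      intro n
      simp only [G, Finset.sum_range_succ]
      have : g₀ + (∑ i ∈ Finset.range n, d i + d n) - (g₀ + ∑ i ∈ Finset.range n, d i) = d n := by ring
      rw [this]
      exact hd n
    obtain ⟨L, hL⟩ := exists_limit_of_succ (IsLocalRing.maximalIdeal R) G hGs
    refine ⟨Ideal.Quotient.mk J L, fun n => ?_⟩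
    rw [smodEq_pow_iff, ← hGF, ← map_sub, ← hmap n]
    exact Ideal.mem_map_of_mem _ (hL n)
  exact ⟨⟩

end Groth.Agent.H61
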