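import Groth.Prelude.Def_ArtFun2
import Groth.Agent.H61.ArtBasic

set_option autoImplicit false
universe u v
open CategoryTheory

namespace Groth.Agent.H61

open ArtFun ArtFun.Art

section pure
variable (Λ : Type u) (k : Type u) [CommRing Λ] [Field k] [Algebra Λ k]

theorem tsze_ker_fstHom_ne_bot : RingHom.ker (TrivSqZeroExt.fstHom Λ k k) ≠ ⊥ := by
  intro h
  have : (TrivSqZeroExt.inr (1 : k) : TrivSqZeroExt k k) ∈ RingHom.ker (TrivSqZeroExt.fstHom Λ k k) := by
    rw [RingHom.mem_ker]; rfl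
  rw [h, Ideal.mem_bot] at this
  have h2 := congrArg TrivSqZeroExt.snd this
  simp at h2

theorem tsze_ker_fstHom_isPrincipal : (RingHom.ker (TrivSqZeroExt.fstHom Λ k k)).IsPrincipal := by
  refine ⟨⟨(TrivSqZeroExt.inr (1 : k) : TrivSqZeroExt k k), ?_⟩⟩
  apply le_antisymm
  · intro x hx
    rw [RingHom.mem_ker] at hx
    have hx' : x.fst = 0 := hx
    change x ∈ Ideal.span _
    rw [Ideal.mem_span_singleton']
    refine ⟨TrivSqZeroExt.inl x.snd, ?_⟩
    ext
    · simp [hx']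
    · simp
  · change Ideal.span _ ≤ _
    rw [Ideal.span_le]
    rintro _ ⟨rfl⟩
    change _ ∈ RingHom.ker _
    rw [RingHom.mem_ker]; rfl

theorem tsze_ker_mul_ker : RingHom.ker (TrivSqZeroExt.fstHom Λ k k) * RingHom.ker (TrivSqZeroExt.fstHom Λ k k) = ⊥ := by
  rw [eq_bot_iff]
  refine Ideal.mul_le.2 ?_
  intro a ha b hb
  rw [RingHom.mem_ker] at ha hb
  have ha' : a.fst = 0 := ha
  have hb' : b.fst = 0 := hb
  rw [Ideal.mem_bot]
  ext
  · simp [ha', hb']
  · simp [ha', hb']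

end pure

variable {Λ : Type u} {k : Type u} [CommRing Λ] [Field k] [Algebra Λ k]

theorem maximalIdeal_eq_ker_res (A : Art Λ k) :
    IsLocalRing.maximalIdeal A = RingHom.ker A.res := by
  ext a
  rw [mem_maximalIdeal_iff, RingHom.mem_ker]

/-- `k[ε] → k` is a small extension. -/
theorem isSmallExt_toBase_dual : IsSmallExt (toBase (dual Λ k)) := by
  refine ⟨(dual Λ k).res_surjective, ?_, ?_, ?_⟩
  · exact tsze_ker_fstHom_ne_bot Λ k
  · exact tsze_ker_fstHom_isPrincipal Λ k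
  · rw [maximalIdeal_eq_ker_res]
    exact tsze_ker_mul_ker Λ k

end Groth.Agent.H61
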