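import Groth.Agent.H63.ArtDefFun
import Groth.Agent.H61.SmallDual

set_option autoImplicit false
universe u v
open CategoryTheory

namespace Groth.Agent.H61

open ArtFun ArtFun.Art

variable {Λ : Type u} {k : Type u} [CommRing Λ] [Field k] [Algebra Λ k]

/-- Rim's lemma: if `a ∈ F(R)` is versal for first-order prolongations, `π₁ : R₁ → R` is a small extension,
`a₁ ↦ a`, `a' ↦ a` under `g : R' → R`, then any lift `f₀ : R' → R₁` of `g` can be corrected to one sending `a'` to `a₁`. -/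
theorem exists_map_over_of_exists [Module.Finite Λ k] (F : Art Λ k ⥤ Type v) (h1 : S1 F) (h2 : Heps F)
    {R R₁ R' : Art Λ k} (π₁ : R₁ ⟶ R) (hπ : IsSmallExt π₁) (g : R' ⟶ R)
    (a : F.obj R) (a₁ : F.obj R₁) (a' : F.obj R') (h₁ : F.map π₁ a₁ = a) (h' : F.map g a' = a)
    (hvers : ∀ b : F.obj (dual Λ k), ∃ φ : R ⟶ dual Λ k, F.map φ a = b)
    (f₀ : R' ⟶ R₁) (hf₀ : f₀ ≫ π₁ = g) :
    ∃ f : R' ⟶ R₁, f ≫ π₁ = g ∧ F.map f a' = a₁ := by
  obtain ⟨C, p₁, p₂, δ, Δ, hC₁, hC₂, hΔ₁, hΔ₂, hΔδ⟩ := Groth.Agent.H63.exists_smallData π₁ hπ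
  set b := F.map f₀ a' with hb
  have hba : F.map π₁ b = F.map π₁ a₁ := by
    rw [hb, ← Groth.Agent.H63.map_comp_apply, hf₀, h', h₁]
  obtain ⟨z, hz₁, hz₂⟩ := (Groth.Agent.H63.cmp_surjective_iff F hC₁).1 (h1 _ _ _ _ hC₁ hπ.1) b a₁ hba
  obtain ⟨φ, hφ⟩ := hvers (F.map δ z)
  obtain ⟨l, hl₁, hl₂⟩ := Groth.Agent.H63.IsFibreProd.exists_lift hC₂ f₀ (g ≫ φ)
    ((eq_toBase _).trans (eq_toBase _).symm)
  refine ⟨l ≫ p₂, ?_, ?_⟩
  · rw [Category.assoc, ← hC₁.w, ← Category.assoc, hl₁, hf₀]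
  · have hlz : F.map l a' = z := by
      apply (Groth.Agent.H63.cmp_injective_iff F hC₂).1 (h2 _ _ hC₂).1
      · rw [← Groth.Agent.H63.map_comp_apply, hl₁, hz₁]
      · rw [← Groth.Agent.H63.map_comp_apply, hl₂, Groth.Agent.H63.map_comp_apply, h', hφ]
    rw [Groth.Agent.H63.map_comp_apply, hlz, hz₂]

end Groth.Agent.H61
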