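import Groth.Agent.H61.HomSetQuot
import Groth.Agent.H61.RimLift
import Groth.Agent.H63.ArtLeast
import Groth.Agent.H63.ArtEssential

set_option autoImplicit false
set_option linter.style.haveILetI false
set_option linter.unusedSectionVars false
universe u v
open CategoryTheory

namespace Groth.Agent.H61

open ArtFun ArtFun.Art Groth.Agent.H63

variable {Λ : Type u} {k : Type u} [CommRing Λ] [Field k] [Algebra Λ k]
variable {P : Type u} [CommRing P] [Algebra Λ P] {resP : P →ₐ[Λ] k}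

/-- The lifting property of a "formally smooth" augmented algebra. -/
def HasLifts (P : Type u) [CommRing P] [Algebra Λ P] (resP : P →ₐ[Λ] k) : Prop :=
  ∀ ⦃B A : Art Λ k⦄ (μ : B ⟶ A), Function.Surjective μ → ∀ φ : HomSet P resP A,
    ∃ ψ : HomSet P resP B, HomSet.map μ ψ = φ

variable [IsLocalRing P] [IsNoetherianRing P]

/-- One step of Schlessinger's construction (Rim's "versal small prolongation"). -/
theorem step [Module.Finite Λ k] (hres : Function.Surjective resP) (hlift : HasLifts P resP)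
    {F : Art Λ k ⥤ Type v} (h1 : S1 F) (h2 : Heps F)
    {R : Art Λ k} (p : HomSet P resP R) (hp : Function.Surjective p.1) (a : F.obj R)
    (hvers : ∀ b : F.obj (dual Λ k), ∃ φ : R ⟶ dual Λ k, F.map φ a = b) :
    ∃ (R' : Art Λ k) (p' : HomSet P resP R') (q : R' ⟶ R) (a' : F.obj R'),
      Function.Surjective p'.1 ∧ HomSet.map q p' = p ∧ F.map q a' = a ∧ IsSemismallExt q ∧
      IsLocalRing.maximalIdeal P * RingHom.ker p.1 ≤ RingHom.ker p'.1 ∧
      ∀ (R₁ : Art Λ k) (π₁ : R₁ ⟶ R), IsSmallExt π₁ → ∀ a₁ : F.obj R₁, F.map π₁ a₁ = a →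
        ∃ f : R' ⟶ R₁, f ≫ π₁ = q ∧ F.map f a' = a₁ := by
  classical
  have hmP : ∀ x : P, x ∈ IsLocalRing.maximalIdeal P ↔ resP x = 0 := by
    intro x
    rw [maximalIdeal_eq_ker_resP hres, RingHom.mem_ker]
  obtain ⟨N, hN⟩ := exists_pow_le_ker_homSet hres p
  -- the universal semismall extension `B = P / (m_P J)`
  obtain ⟨B, pB, hpB, hkB⟩ := exists_artQuot (Λ := Λ) (k := k) (resP := resP) hres
    (IsLocalRing.maximalIdeal P * RingHom.ker p.1) Ideal.mul_le_left (N + 1)
    (by rw [pow_succ']; exact Ideal.mul_mono_right hN)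
  obtain ⟨β, hβ⟩ := exists_factor_homSet pB hpB p (by rw [hkB]; exact Ideal.mul_le_right)
  have hβapp : ∀ x : P, β (pB.1 x) = p.1 x := fun x =>
    congrArg (fun t : HomSet P resP R => t.1 x) hβ
  have hmB : ∀ b : B, b ∈ IsLocalRing.maximalIdeal B → ∃ x ∈ IsLocalRing.maximalIdeal P, pB.1 x = b := by
    intro b hb
    obtain ⟨x, rfl⟩ := hpB b
    refine ⟨x, ?_, rfl⟩
    rw [hmP, ← homSet_res_apply pB]
    exact (mem_maximalIdeal_iff B _).1 hb
  have hβss : IsSemismallExt β := by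
    refine ⟨?_, ?_⟩
    · intro r
      obtain ⟨x, rfl⟩ := hp r
      exact ⟨pB.1 x, hβapp x⟩
    · rw [eq_bot_iff, Ideal.mul_le]
      intro b hb c hc
      obtain ⟨x, hx, rfl⟩ := hmB b hb
      obtain ⟨y, rfl⟩ := hpB c
      have hy : y ∈ RingHom.ker p.1 := by
        rw [RingHom.mem_ker, ← hβapp]
        exact (RingHom.mem_ker).1 hc
      rw [Ideal.mem_bot, ← map_mul]
      have : x * y ∈ RingHom.ker pB.1 := by rw [hkB]; exact Ideal.mul_mem_mul hx hy
      exact (RingHom.mem_ker).1 this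
  obtain ⟨I₀, hI₀, hleast⟩ := exists_least_lifts h1 hβss a
  obtain ⟨R', q₀, g, hq₀, hq₀K, hq₀g, y, hy⟩ := hI₀
  have hgapp : ∀ b : B, g (q₀ b) = β b := fun b => congrArg (fun t : B ⟶ R => t b) hq₀g
  have hgss : IsSemismallExt g := by
    refine ⟨?_, ?_⟩
    · intro r
      obtain ⟨b, rfl⟩ := hβss.1 r
      exact ⟨q₀ b, hgapp b⟩
    · rw [eq_bot_iff, Ideal.mul_le]
      intro b' hb' c' hc'
      obtain ⟨b, hb, rfl⟩ := exists_mem_maximalIdeal_of_surjective q₀ hq₀ b' hb'
      obtain ⟨c, rfl⟩ := hq₀ c'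
      have hc : c ∈ RingHom.ker β.toAlgHom := by
        rw [RingHom.mem_ker]
        have := (RingHom.mem_ker).1 hc'
        rw [← hgapp]
        exact this
      have hbc : b * c ∈ IsLocalRing.maximalIdeal B * RingHom.ker β.toAlgHom := Ideal.mul_mem_mul hb hc
      rw [hβss.2, Ideal.mem_bot] at hbc
      rw [Ideal.mem_bot]
      change q₀ b * q₀ c = 0
      rw [← map_mul, hbc, map_zero]
  refine ⟨R', HomSet.map q₀ pB, g, y, hq₀.comp hpB, ?_, hy, hgss, ?_, ?_⟩
  · rw [← hβ, ← hq₀g]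
    rfl
  · rw [← hkB]
    intro x hx
    rw [RingHom.mem_ker] at hx ⊢
    change q₀ (pB.1 x) = 0
    rw [hx, map_zero]
  · intro R₁ π₁ hπ₁ a₁ ha₁
    suffices h : ∃ f₀ : R' ⟶ R₁, f₀ ≫ π₁ = g by
      obtain ⟨f₀, hf₀⟩ := h
      exact exists_map_over_of_exists F h1 h2 π₁ hπ₁ g a a₁ y ha₁ hy hvers f₀ hf₀
    obtain ⟨S, pr₁, pr₂, hS⟩ := exists_isFibreProd_of_surjective g π₁ hπ₁.1
    have hsm : IsSmallExt pr₁ := IsFibreProd.fst_isSmallExt hS hπ₁
    by_contra hno
    have hnosec : ¬ ∃ s : R' ⟶ S, s ≫ pr₁ = 𝟙 R' := by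
      rintro ⟨s, hs⟩
      apply hno
      refine ⟨s ≫ pr₂, ?_⟩
      rw [Category.assoc, ← hS.w, ← Category.assoc, hs, Category.id_comp]
    rw [← not_essential_iff_exists_section pr₁ hsm] at hnosec
    push_neg at hnosec
    obtain ⟨w, hw⟩ := hlift pr₁ hsm.1 (HomSet.map q₀ pB)
    have hwapp : ∀ x : P, pr₁ (w.1 x) = q₀ (pB.1 x) := fun x =>
      congrArg (fun t : HomSet P resP R' => t.1 x) hw
    have hwker : RingHom.ker pB.1 ≤ RingHom.ker w.1 := by
      rw [hkB, Ideal.mul_le]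
      intro x hx z hz
      rw [RingHom.mem_ker, map_mul]
      have hz0 : g (q₀ (pB.1 z)) = 0 := by
        rw [hgapp, hβapp]
        exact (RingHom.mem_ker).1 hz
      apply hS.inj
      · rw [map_mul, map_zero, hwapp, hwapp]
        have h1' : q₀ (pB.1 x) ∈ IsLocalRing.maximalIdeal R' := by
          have := homSet_mem_maximalIdeal' (HomSet.map q₀ pB) ((hmP x).1 hx)
          exact this
        have h2' : q₀ (pB.1 z) ∈ RingHom.ker g.toAlgHom := (RingHom.mem_ker).2 hz0
        have := Ideal.mul_mem_mul h1' h2'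
        rw [hgss.2, Ideal.mem_bot] at this
        exact this
      · rw [map_mul, map_zero]
        have h1' : pr₂ (w.1 x) ∈ IsLocalRing.maximalIdeal R₁ := by
          have := homSet_mem_maximalIdeal' (HomSet.map pr₂ w) ((hmP x).1 hx)
          exact this
        have h2' : pr₂ (w.1 z) ∈ RingHom.ker π₁.toAlgHom := by
          rw [RingHom.mem_ker]
          have := hS.w_apply (w.1 z)
          rw [hwapp, hz0] at this
          exact this.symm
        have := Ideal.mul_mem_mul h1' h2'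
        rw [hπ₁.2.2.2, Ideal.mem_bot] at this
        exact this
    obtain ⟨wbar, hwbar⟩ := exists_factor_homSet pB hpB w hwker
    have hwbarpr : wbar ≫ pr₁ = q₀ := by
      apply eq_of_homSet_map_eq pB hpB
      rw [← hw, ← hwbar]
      rfl
    have hwbars : Function.Surjective wbar := hnosec B wbar (by rw [hwbarpr]; exact hq₀)
    obtain ⟨z, hz₁, hz₂⟩ := (cmp_surjective_iff F hS).1 (h1 _ _ _ _ hS hπ₁.1) y a₁ (by rw [hy, ha₁])
    have hL : Lifts F β a (RingHom.ker wbar.toAlgHom) :=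
      ⟨S, wbar, pr₁ ≫ g, hwbars, rfl, by rw [← Category.assoc, hwbarpr, hq₀g], z, by
        rw [map_comp_apply, hz₁, hy]⟩
    have hle := hleast _ hL
    apply hsm.2.1
    rw [eq_bot_iff]
    intro s hs
    obtain ⟨b, rfl⟩ := hwbars s
    have hb : b ∈ RingHom.ker q₀.toAlgHom := by
      rw [RingHom.mem_ker]
      have := (RingHom.mem_ker).1 hs
      have h3 : (wbar ≫ pr₁) b = 0 := this
      rw [hwbarpr] at h3
      exact h3
    rw [hq₀K] at hb
    have := hle hb
    rw [Ideal.mem_bot]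
    exact (RingHom.mem_ker).1 this

end Groth.Agent.H61
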