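import Mathlib
import Groth.Agent.H61.HomSetQuot
import Groth.Agent.H61.Step

/-!
# Regular presentations of local rings essentially of finite type with a rational point

A local `k`-algebra `R`, essentially of finite type, with an augmentation `R → k` is a quotient
of the localization `P` of a polynomial ring at a `k`-rational maximal ideal; `P` is regular and has
the lifting property.
-/

set_option autoImplicit false
set_option linter.style.haveILetI false
universe u
open CategoryTheory

namespace Groth.Agent.H61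
open ArtFun ArtFun.Art

theorem exists_regular_presentation {k : Type u} [Field k] {R : Type u} [CommRing R] [IsLocalRing R]
    [Algebra k R] [Algebra.EssFiniteType k R] (res : R →ₐ[k] k) :
    ∃ (P : Type u) (_ : CommRing P) (_ : Algebra k P) (_ : IsRegularLocalRing P) (π : P →ₐ[k] R),
      Function.Surjective π ∧ HasLifts P (res.comp π) := by
  classical
  obtain ⟨σ, hσ⟩ := (Algebra.essFiniteType_iff k R).1 (inferInstance : Algebra.EssFiniteType k R)
  haveI : Finite ↥(σ : Set R) := σ.finite_toSet.to_subtype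
  let Q := MvPolynomial (↥(σ : Set R)) k
  let θ : Q →ₐ[k] R := MvPolynomial.aeval (fun i : ↥(σ : Set R) => (i : R))
  have hθ : ∀ y ∈ Algebra.adjoin k (σ : Set R), ∃ q : Q, θ q = y := by
    intro y hy
    rw [Algebra.adjoin_eq_range] at hy
    exact hy
  have hres_surj : Function.Surjective res := fun c => ⟨algebraMap k R c, by simp⟩
  have hker : RingHom.ker (res : R →+* k) = IsLocalRing.maximalIdeal R :=
    IsLocalRing.ker_eq_maximalIdeal (res : R →+* k) hres_surj
  have hunitR : ∀ x : R, res x ≠ 0 → IsUnit x := by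
    intro x hx
    by_contra hnu
    apply hx
    have : x ∈ IsLocalRing.maximalIdeal R := hnu
    rw [← hker] at this
    exact this
  let 𝔭 : Ideal Q := RingHom.ker (res.comp θ)
  haveI : 𝔭.IsPrime := RingHom.ker_isPrime _
  let P := Localization.AtPrime 𝔭
  have hunit : ∀ y : 𝔭.primeCompl, IsUnit (θ y) := by
    intro y
    apply hunitR
    intro h0
    exact y.2 ((RingHom.mem_ker).2 h0)
  let π : P →ₐ[k] R := IsLocalization.liftAlgHom (M := 𝔭.primeCompl) (f := θ) hunit
  have hπalg : ∀ q : Q, π (algebraMap Q P q) = θ q := fun q => IsLocalization.lift_eq hunit q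
  have hπsurj : Function.Surjective π := by
    intro r
    obtain ⟨t, ht, htu, hrt⟩ := hσ r
    obtain ⟨b, rfl⟩ := hθ t ht
    obtain ⟨a, ha⟩ := hθ _ hrt
    have hb : b ∈ 𝔭.primeCompl := by
      intro hb
      have h0 : res (θ b) = 0 := (RingHom.mem_ker).1 hb
      exact (htu.map res).ne_zero h0
    refine ⟨IsLocalization.mk' P a ⟨b, hb⟩, ?_⟩
    change IsLocalization.lift hunit (IsLocalization.mk' P a ⟨b, hb⟩) = r
    rw [IsLocalization.lift_mk'_spec]
    change θ a = θ b * r
    rw [ha, mul_comm]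
  refine ⟨P, inferInstance, inferInstance, inferInstance, π, hπsurj, ?_⟩
  intro B A μ hμ φ
  let φ₀ : Q →ₐ[k] A := φ.1.comp (IsScalarTower.toAlgHom k Q P)
  choose bb hbb using fun i : ↥(σ : Set R) => hμ (φ₀ (MvPolynomial.X i))
  let ψ₀ : Q →ₐ[k] B := MvPolynomial.aeval bb
  have hμψ₀ : μ.toAlgHom.comp ψ₀ = φ₀ := by
    apply MvPolynomial.algHom_ext
    intro i
    change μ (MvPolynomial.aeval bb (MvPolynomial.X i)) = φ₀ (MvPolynomial.X i)
    rw [MvPolynomial.aeval_X, hbb]
  have hμψ₀' : ∀ q : Q, μ (ψ₀ q) = φ.1 (algebraMap Q P q) := fun q =>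
    DFunLike.congr_fun hμψ₀ q
  have hunitB : ∀ y : 𝔭.primeCompl, IsUnit (ψ₀ y) := by
    intro y
    have h1 : B.res (ψ₀ y) = res (θ y) := by
      rw [← res_app μ, hμψ₀', homSet_res_apply, AlgHom.comp_apply, hπalg]
    have h2 : ψ₀ y ∉ IsLocalRing.maximalIdeal B := by
      rw [mem_maximalIdeal_iff, h1]
      intro h0
      exact y.2 ((RingHom.mem_ker).2 h0)
    exact IsLocalRing.notMem_maximalIdeal.1 h2
  let ψ : P →ₐ[k] B := IsLocalization.liftAlgHom (M := 𝔭.primeCompl) (f := ψ₀) hunitB
  have hψalg : ∀ q : Q, ψ (algebraMap Q P q) = ψ₀ q := fun q => IsLocalization.lift_eq hunitB q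
  have hμψ : μ.toAlgHom.comp ψ = φ.1 := by
    have h : (μ.toAlgHom.comp ψ : P →+* A) = (φ.1 : P →+* A) := by
      apply IsLocalization.ringHom_ext 𝔭.primeCompl
      apply RingHom.ext
      intro q
      change μ (ψ (algebraMap Q P q)) = φ.1 (algebraMap Q P q)
      rw [hψalg, hμψ₀']
    exact AlgHom.ext fun x => RingHom.congr_fun h x
  refine ⟨⟨ψ, ?_⟩, Subtype.ext hμψ⟩
  rw [← μ.res_comp, AlgHom.comp_assoc, hμψ, φ.2]

end Groth.Agent.H61
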