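import Groth.Prelude.Def_CotT2
import Mathlib

/-!
# Basic facts on the cotangent complex `L₂ → L₁ → L₀` of a presentation (prelude `CotT`)

* `one_tmul_surjective` : every element of `L₁ = B ⊗_R F` is `1 ⊗ f`;
* `toCot_surjective` : `L₁ → I/I²` is surjective;
* `ker_toCot_eq_range_d2` : `L₂ → L₁ → I/I² → 0` is exact.
-/

open TensorProduct

namespace Groth.Agent.H61

open CotT

universe u v w t m

variable {A : Type u} {B : Type v} {ι : Type w} {σ : Type t}
variable [CommRing A] [CommRing B] [Algebra A B]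
variable (P : Algebra.Presentation A B ι σ)

lemma exists_one_tmul {N : Type*} [AddCommGroup N] [Module P.toExtension.Ring N]
    (x : B ⊗[P.toExtension.Ring] N) : ∃ f : N, x = (1 : B) ⊗ₜ f := by
  induction x using TensorProduct.induction_on with
  | zero => exact ⟨0, by simp⟩
  | tmul b f =>
    obtain ⟨r, rfl⟩ := P.toExtension.algebraMap_surjective b
    refine ⟨r • f, ?_⟩
    rw [← TensorProduct.smul_tmul, Algebra.smul_def, mul_one]
  | add x y hx hy =>
    obtain ⟨f, rfl⟩ := hx
    obtain ⟨g, rfl⟩ := hy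
    exact ⟨f + g, by rw [TensorProduct.tmul_add]⟩

lemma toCot_one_tmul (f : relMod P) :
    toCot P ((1 : B) ⊗ₜ f) = Algebra.Extension.Cotangent.mk (jker P f) := by
  rw [toCot_tmul, one_smul]

lemma jker_surjective : Function.Surjective (jker P) := by
  rintro ⟨x, hx⟩
  have : x ∈ LinearMap.range (jmap P) := by rw [range_jmap]; exact hx
  obtain ⟨f, rfl⟩ := this
  exact ⟨f, rfl⟩

lemma toCot_surjective : Function.Surjective (toCot P) := by
  intro y
  obtain ⟨x, rfl⟩ := Algebra.Extension.Cotangent.mk_surjective y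
  obtain ⟨f, rfl⟩ := jker_surjective P x
  exact ⟨(1 : B) ⊗ₜ f, toCot_one_tmul P f⟩

lemma one_tmul_eq_zero_of_mem_smul_top {N : Type*} [AddCommGroup N] [Module P.toExtension.Ring N]
    (g : N) (hg : g ∈ P.toExtension.ker • (⊤ : Submodule P.toExtension.Ring N)) :
    (1 : B) ⊗ₜ[P.toExtension.Ring] g = 0 := by
  refine Submodule.smul_induction_on hg ?_ ?_
  · intro r hr n _
    rw [← TensorProduct.smul_tmul, Algebra.smul_def, mul_one]
    have : algebraMap P.toExtension.Ring B r = 0 := hr
    rw [this, TensorProduct.zero_tmul]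
  · intro x y hx hy
    rw [TensorProduct.tmul_add, hx, hy, add_zero]

lemma range_d2_le_ker_toCot : LinearMap.range (d2 P) ≤ LinearMap.ker (toCot P) := by
  rw [LinearMap.range_le_ker_iff]
  exact toCot_comp_d2 P

lemma ker_toCot_eq_range_d2 : LinearMap.ker (toCot P) = LinearMap.range (d2 P) := by
  refine le_antisymm ?_ (range_d2_le_ker_toCot P)
  intro x hx
  obtain ⟨f, rfl⟩ := exists_one_tmul P x
  rw [LinearMap.mem_ker, toCot_one_tmul, Algebra.Extension.Cotangent.mk_eq_zero_iff] at hx
  change jmap P f ∈ P.toExtension.ker ^ 2 at hx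
  -- `j (I • ⊤) = I • I`
  have hmap : Submodule.map (jmap P) (P.toExtension.ker • (⊤ : Submodule P.toExtension.Ring (relMod P))) =
      P.toExtension.ker • (P.toExtension.ker : Submodule P.toExtension.Ring P.toExtension.Ring) := by
    rw [Submodule.map_smul'', Submodule.map_top, range_jmap]
  have hx' : jmap P f ∈ Submodule.map (jmap P)
      (P.toExtension.ker • (⊤ : Submodule P.toExtension.Ring (relMod P))) := by
    rw [hmap, smul_eq_mul, ← pow_two]
    exact hx
  obtain ⟨g, hg, hgf⟩ := hx'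
  have hq : f - g ∈ relKer P := by
    change jmap P (f - g) = 0
    rw [map_sub, hgf, sub_self]
  refine ⟨Submodule.Quotient.mk ((1 : B) ⊗ₜ ⟨f - g, hq⟩), ?_⟩
  rw [d2_mk_tmul]
  change (1 : B) ⊗ₜ (f - g) = (1 : B) ⊗ₜ f
  rw [TensorProduct.tmul_sub, one_tmul_eq_zero_of_mem_smul_top P g hg, sub_zero]

end Groth.Agent.H61
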