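import Groth.Agent.H63.ArtTangent
import Groth.Agent.H63.ArtFunctor
import Groth.Agent.H61.ArtBasic
import Mathlib.LinearAlgebra.Dual.Lemmas
import Mathlib.LinearAlgebra.FiniteDimensional.Lemmas

set_option autoImplicit false
set_option linter.style.haveILetI false
set_option linter.unusedSectionVars false
universe u v
open CategoryTheory

namespace Groth.Agent.H61

open ArtFun ArtFun.Art Groth.Agent.H63

variable {Λ : Type u} {k : Type u} [CommRing Λ] [Field k] [Algebra Λ k]

section General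

variable (Λ k) in
/-- `k[M]` as an object of `Art`. -/
noncomputable def tszeArt (M : Type u) [AddCommGroup M] [Module k M] [Module kᵐᵒᵖ M] [SMulCommClass k kᵐᵒᵖ M]
    [IsCentralScalar k M] [Module Λ M] [IsScalarTower Λ k M] [IsScalarTower Λ kᵐᵒᵖ M] [Module.Finite k M] :
    Art Λ k :=
  { carrier := TrivSqZeroExt k M
    isLocalRing := isLocalRing_tsze k M
    isArtinianRing := isArtinianRing_tsze k M
    res := TrivSqZeroExt.fstHom Λ k M
    res_surjective := fun a => ⟨TrivSqZeroExt.inl a, rfl⟩ }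

variable {M N : Type u} [AddCommGroup M] [Module k M] [Module kᵐᵒᵖ M] [SMulCommClass k kᵐᵒᵖ M]
  [IsCentralScalar k M] [Module Λ M] [IsScalarTower Λ k M] [IsScalarTower Λ kᵐᵒᵖ M] [Module.Finite k M]
  [AddCommGroup N] [Module k N] [Module kᵐᵒᵖ N] [SMulCommClass k kᵐᵒᵖ N]
  [IsCentralScalar k N] [Module Λ N] [IsScalarTower Λ k N] [IsScalarTower Λ kᵐᵒᵖ N] [Module.Finite k N]

/-- the map `k[M] → k[N]` induced by a linear map -/
noncomputable def tszeHom (l : M →ₗ[k] N) : tszeArt Λ k M ⟶ tszeArt Λ k N :=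
  ⟨tszeMap l, AlgHom.ext fun _ => rfl⟩

/-- the map `k[M] → k[ε]` induced by a linear functional -/
noncomputable def tszeToDual (l : M →ₗ[k] k) : tszeArt Λ k M ⟶ dual Λ k :=
  ⟨tszeMap l, AlgHom.ext fun _ => rfl⟩

/-- the map `k[M] → k[ε₁,ε₂]` induced by a pair of linear functionals -/
noncomputable def tszeToDual2 (l : M →ₗ[k] k × k) : tszeArt Λ k M ⟶ dual2 Λ k :=
  ⟨tszeMap l, AlgHom.ext fun _ => rfl⟩

theorem tszeToDual2_pr₁ (l₁ l₂ : M →ₗ[k] k) :
    (tszeToDual2 (l₁.prod l₂) : tszeArt Λ k M ⟶ dual2 Λ k) ≫ pr₁ = tszeToDual l₁ := rfl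

theorem tszeToDual2_pr₂ (l₁ l₂ : M →ₗ[k] k) :
    (tszeToDual2 (l₁.prod l₂) : tszeArt Λ k M ⟶ dual2 Λ k) ≫ pr₂ = tszeToDual l₂ := rfl

theorem tszeToDual2_plus (l₁ l₂ : M →ₗ[k] k) :
    (tszeToDual2 (l₁.prod l₂) : tszeArt Λ k M ⟶ dual2 Λ k) ≫ plus = tszeToDual (l₁ + l₂) := rfl

theorem tszeToDual_scale (c : k) (l : M →ₗ[k] k) :
    (tszeToDual l : tszeArt Λ k M ⟶ dual Λ k) ≫ scale c = tszeToDual (c • l) := rfl

theorem tszeHom_tszeToDual (f : M →ₗ[k] N) (l : N →ₗ[k] k) :
    (tszeHom f : tszeArt Λ k M ⟶ tszeArt Λ k N) ≫ tszeToDual l = tszeToDual (l.comp f) := rfl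

/-- The characteristic map `M^* → t_F` of an element of `F(k[M])`, linear. -/
noncomputable def charMap {F : Art Λ k ⥤ Type v} [TangentStr F] (x : F.obj (tszeArt Λ k M)) :
    (M →ₗ[k] k) →ₗ[k] TangentSpace F where
  toFun l := TangentSpace.mk (F.map (tszeToDual l) x)
  map_add' l₁ l₂ := by
    have h := tangent_add_eq (F := F) (F.map (tszeToDual2 (l₁.prod l₂)) x)
    rw [← map_comp_apply, ← map_comp_apply, ← map_comp_apply, tszeToDual2_pr₁, tszeToDual2_pr₂,
      tszeToDual2_plus] at h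
    exact h.symm
  map_smul' c l := by
    rw [RingHom.id_apply, tangent_smul_eq]
    change TangentSpace.mk (F.map (tszeToDual (c • l)) x) = TangentSpace.mk (F.map (scale c) (F.map (tszeToDual l) x))
    rw [← map_comp_apply, tszeToDual_scale]

theorem charMap_apply {F : Art Λ k ⥤ Type v} [TangentStr F] (x : F.obj (tszeArt Λ k M)) (l : M →ₗ[k] k) :
    charMap x l = TangentSpace.mk (F.map (tszeToDual l) x) := rfl

end General

end Groth.Agent.H61

namespace Groth.Agent.H61

open ArtFun ArtFun.Art Groth.Agent.H63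

variable {Λ : Type u} {k : Type u} [CommRing Λ] [Field k] [Algebra Λ k]

/-- restriction to the first `n` coordinates -/
noncomputable def initL (k : Type u) [Field k] (n : ℕ) : (Fin (n + 1) → k) →ₗ[k] (Fin n → k) :=
  LinearMap.funLeft k k Fin.castSucc

theorem initL_apply (n : ℕ) (v : Fin (n + 1) → k) (j : Fin n) : initL k n v j = v j.castSucc := rfl

/-- `k[k^{n+1}] = k[k^n] ×_k k[ε]`. -/
theorem isFibreProd_tsze_succ (n : ℕ) :
    IsFibreProd (tszeHom (initL k n) : tszeArt Λ k (Fin (n + 1) → k) ⟶ tszeArt Λ k (Fin n → k))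
      (tszeToDual (LinearMap.proj (Fin.last n))) (toBase _) (toBase (dual Λ k)) where
  w := by rw [eq_toBase (_ ≫ toBase _), eq_toBase (_ ≫ toBase _)]
  inj b₁ b₂ h₁ h₂ := by
    have e₁ : b₁.fst = b₂.fst := by have e := congrArg TrivSqZeroExt.fst h₁; exact e
    have e₂ : initL k n b₁.snd = initL k n b₂.snd := by have e := congrArg TrivSqZeroExt.snd h₁; exact e
    have e₃ : b₁.snd (Fin.last n) = b₂.snd (Fin.last n) := by have e := congrArg TrivSqZeroExt.snd h₂; exact e
    refine TrivSqZeroExt.ext e₁ ?_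
    funext i
    refine Fin.lastCases e₃ (fun j => ?_) i
    exact congrFun e₂ j
  surj a' a'' h := by
    have h' : a'.fst = a''.fst := h
    refine ⟨(a'.fst, (Fin.snoc a'.snd a''.snd : Fin (n + 1) → k)), ?_, ?_⟩
    · refine TrivSqZeroExt.ext rfl ?_
      funext j
      change (Fin.snoc a'.snd a''.snd : Fin (n + 1) → k) j.castSucc = a'.snd j
      rw [Fin.snoc_castSucc]
    · refine TrivSqZeroExt.ext h' ?_
      change (Fin.snoc a'.snd a''.snd : Fin (n + 1) → k) (Fin.last n) = a''.snd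
      rw [Fin.snoc_last]

/-- the structure map `k → k[M]` -/
noncomputable def baseToTsze (M : Type u) [AddCommGroup M] [Module k M] [Module kᵐᵒᵖ M] [SMulCommClass k kᵐᵒᵖ M]
    [IsCentralScalar k M] [Module Λ M] [IsScalarTower Λ k M] [IsScalarTower Λ kᵐᵒᵖ M] [Module.Finite k M] :
    base Λ k ⟶ tszeArt Λ k M :=
  ⟨(Algebra.ofId k (TrivSqZeroExt k M)).restrictScalars Λ, AlgHom.ext fun _ => rfl⟩

/-- elements of `F(k[k^n])` with prescribed coordinates -/
theorem exists_coords {F : Art Λ k ⥤ Type v} (h0 : H0 F) (h2 : Heps F) (n : ℕ) (e : Fin n → F.obj (dual Λ k)) :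
    ∃ x : F.obj (tszeArt Λ k (Fin n → k)), ∀ i, F.map (tszeToDual (LinearMap.proj i)) x = e i := by
  haveI := h0.2
  induction n with
  | zero =>
    obtain ⟨pt⟩ := h0.1
    exact ⟨F.map (baseToTsze (Fin 0 → k)) pt, fun i => i.elim0⟩
  | succ n ih =>
    obtain ⟨x', hx'⟩ := ih (fun j => e j.castSucc)
    obtain ⟨x, hx₁, hx₂⟩ := (cmp_surjective_iff F (isFibreProd_tsze_succ (Λ := Λ) (k := k) n)).1
      (h2 _ _ (isFibreProd_tsze_succ n)).2 x' (e (Fin.last n)) (Subsingleton.elim _ _)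
    refine ⟨x, fun i => ?_⟩
    refine Fin.lastCases hx₂ (fun j => ?_) i
    have : (tszeToDual (LinearMap.proj j.castSucc) : tszeArt Λ k (Fin (n + 1) → k) ⟶ dual Λ k) =
        tszeHom (initL k n) ≫ tszeToDual (LinearMap.proj j) := rfl
    rw [this, map_comp_apply, hx₁, hx' j]

/-- The start of Schlessinger's construction: a first-order element with bijective characteristic map. -/
theorem exists_start {F : Art Λ k ⥤ Type v} [TangentStr F] (h0 : H0 F) (h2 : Heps F) (h3 : Hfin F) :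
    ∃ (n : ℕ) (a₁ : F.obj (tszeArt Λ k (Fin n → k))), Function.Bijective (charMap a₁) := by
  haveI : Module.Finite k (TangentSpace F) := h3
  let n := Module.finrank k (TangentSpace F)
  let b : Module.Basis (Fin n) k (TangentSpace F) := Module.finBasis k (TangentSpace F)
  obtain ⟨x, hx⟩ := exists_coords h0 h2 n (fun i => (b i : TangentSpace F).val)
  refine ⟨n, x, ?_⟩
  have hsurj : Function.Surjective (charMap x) := by
    rw [← LinearMap.range_eq_top, eq_top_iff, ← b.span_eq, Submodule.span_le]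
    rintro _ ⟨i, rfl⟩
    exact ⟨LinearMap.proj i, hx i⟩
  refine ⟨?_, hsurj⟩
  have hfr : Module.finrank k ((Fin n → k) →ₗ[k] k) = Module.finrank k (TangentSpace F) := by
    have h1 : Module.finrank k ((Fin n → k) →ₗ[k] k) = Module.finrank k (Fin n → k) :=
      Subspace.dual_finrank_eq
    rw [h1, Module.finrank_fin_fun]
  exact (LinearMap.injective_iff_surjective_of_finrank_eq_finrank hfr).2 hsurj

end Groth.Agent.H61
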