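import Mathlib
import Groth.Agent.H61.TszeObj
import Groth.Agent.H63.ArtPaste
import Groth.Agent.H63.ArtFinite

set_option autoImplicit false
set_option linter.style.haveILetI false
set_option linter.unusedSectionVars false

/-!
# Fibres of semismall extensions for functors of Artin rings commuting with fibre products

For a functor `F` on `Art k k` with `F(k)` a point whose comparison maps are bijective for fibre
products along surjections, every non-empty fibre of `F(C') → F(C)` over a semismall extension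
with kernel of dimension `n` is in bijection with `F(k[ε])ⁿ`.
-/

universe u v
open CategoryTheory

namespace Groth.Agent.H61.ArtTorsor

open ArtFun ArtFun.Art Groth.Agent.H63 Groth.Agent.H61

variable {k : Type u} [Field k] (F : Art k k ⥤ Type v)

/-- left exactness along surjections. -/
def LESurj : Prop :=
  ∀ ⦃B A A' A'' : Art k k⦄ (p' : B ⟶ A') (p'' : B ⟶ A'') (f' : A' ⟶ A) (f'' : A'' ⟶ A)
    (h : IsFibreProd p' p'' f' f''), Function.Surjective f'' → Function.Bijective (cmp F h)

variable {F}

theorem LESurj.heps (h : LESurj F) : Heps F := fun _ _ p' p'' hfp =>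
  h p' p'' _ _ hfp (dual k k).res_surjective

section Coords

variable (F)

/-- the coordinates of an element of `F(k[kⁿ])`. -/
noncomputable def coordsMap (n : ℕ) (x : F.obj (tszeArt k k (Fin n → k))) : Fin n → F.obj (dual k k) :=
  fun i => F.map (tszeToDual (LinearMap.proj i)) x

variable {F}

lemma toBase_baseToTsze_zero :
    toBase (tszeArt k k (Fin 0 → k)) ≫ baseToTsze (Λ := k) (k := k) (Fin 0 → k) = 𝟙 _ := by
  apply hom_ext
  apply AlgHom.ext
  intro z
  exact TrivSqZeroExt.ext rfl (Subsingleton.elim _ _)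

theorem coordsMap_injective (h0 : H0 F) (h2 : Heps F) (n : ℕ) :
    Function.Injective (coordsMap F n) := by
  haveI := h0.2
  induction n with
  | zero =>
    intro x x' _
    have e : ∀ z : F.obj (tszeArt k k (Fin 0 → k)),
        z = F.map (baseToTsze (Fin 0 → k)) (F.map (toBase _) z) := by
      intro z
      rw [← map_comp_apply, toBase_baseToTsze_zero, map_id_apply]
    rw [e x, e x', Subsingleton.elim (F.map (toBase _) x) (F.map (toBase _) x')]
  | succ n ih =>
    intro x x' hxx'
    have hfp := isFibreProd_tsze_succ (Λ := k) (k := k) n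
    apply (cmp_injective_iff F hfp).1 (h2 _ _ hfp).1
    · apply ih
      funext j
      have : (tszeToDual (LinearMap.proj j.castSucc) :
          tszeArt k k (Fin (n + 1) → k) ⟶ dual k k) =
          tszeHom (initL k n) ≫ tszeToDual (LinearMap.proj j) := rfl
      change F.map (tszeToDual (LinearMap.proj j)) (F.map (tszeHom (initL k n)) x) =
        F.map (tszeToDual (LinearMap.proj j)) (F.map (tszeHom (initL k n)) x')
      rw [← map_comp_apply, ← map_comp_apply, ← this]
      exact congrFun hxx' j.castSucc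
    · exact congrFun hxx' (Fin.last n)

theorem coordsMap_bijective (h0 : H0 F) (h2 : Heps F) (n : ℕ) :
    Function.Bijective (coordsMap F n) :=
  ⟨coordsMap_injective h0 h2 n, fun e => by
    obtain ⟨x, hx⟩ := exists_coords h0 h2 n e
    exact ⟨x, funext hx⟩⟩

end Coords

section Tsze

variable {n : ℕ}

/-- the vector part of an element of `k[kⁿ]`. -/
def sndT (z : tszeArt k k (Fin n → k)) : Fin n → k :=
  TrivSqZeroExt.snd (show TrivSqZeroExt k (Fin n → k) from z)

/-- the scalar part of an element of `k[kⁿ]`. -/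
def fstT (z : tszeArt k k (Fin n → k)) : k :=
  TrivSqZeroExt.fst (show TrivSqZeroExt k (Fin n → k) from z)

/-- an element of `k[kⁿ]` from its parts. -/
def mkT (a : k) (v : Fin n → k) : tszeArt k k (Fin n → k) :=
  (show TrivSqZeroExt k (Fin n → k) from TrivSqZeroExt.inl a + TrivSqZeroExt.inr v)

@[simp] lemma fstT_mkT (a : k) (v : Fin n → k) : fstT (mkT a v) = a := by
  change TrivSqZeroExt.fst (TrivSqZeroExt.inl a + TrivSqZeroExt.inr v) = a
  simp

@[simp] lemma sndT_mkT (a : k) (v : Fin n → k) : sndT (mkT a v) = v := by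
  change TrivSqZeroExt.snd (TrivSqZeroExt.inl a + TrivSqZeroExt.inr v) = v
  simp

lemma extT {z w : tszeArt k k (Fin n → k)} (h1 : fstT z = fstT w) (h2 : sndT z = sndT w) :
    z = w := TrivSqZeroExt.ext h1 h2

lemma sndT_one : sndT (1 : tszeArt k k (Fin n → k)) = 0 := rfl
lemma sndT_zero : sndT (0 : tszeArt k k (Fin n → k)) = 0 := rfl
lemma sndT_add (z w : tszeArt k k (Fin n → k)) : sndT (z + w) = sndT z + sndT w := rfl
lemma sndT_mul (z w : tszeArt k k (Fin n → k)) :
    sndT (z * w) = fstT z • sndT w + fstT w • sndT z := by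
  change TrivSqZeroExt.snd ((show TrivSqZeroExt k (Fin n → k) from z) *
    (show TrivSqZeroExt k (Fin n → k) from w)) = _
  rw [TrivSqZeroExt.snd_mul, op_smul_eq_smul]
  rfl
lemma sndT_algebraMap (c : k) : sndT (algebraMap k (tszeArt k k (Fin n → k)) c) = 0 := rfl
lemma fstT_eq_res (z : tszeArt k k (Fin n → k)) : fstT z = (tszeArt k k (Fin n → k)).res z := rfl

end Tsze

section Main

variable {C' C : Art k k} (p : C' ⟶ C) {n : ℕ} (ι : (Fin n → k) →ₗ[k] C')
  (hι_inj : Function.Injective ι)
  (hι_range : ∀ a : C', p a = 0 ↔ ∃ v, ι v = a)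
  (hι_mul : ∀ (a : C') (v : Fin n → k), a * ι v = C'.res a • ι v)

include hι_range in
lemma p_ι (v : Fin n → k) : p (ι v) = 0 := (hι_range _).2 ⟨v, rfl⟩

include hι_range in
lemma res_ι (v : Fin n → k) : C'.res (ι v) = 0 := by
  rw [← res_app p, p_ι p ι hι_range, map_zero]

include hι_range hι_mul in
lemma ι_mul_ι (v w : Fin n → k) : ι v * ι w = 0 := by
  rw [hι_mul, res_ι p ι hι_range, zero_smul]

variable {E' : Art k k} (r₁ : E' ⟶ C') (r₂ : E' ⟶ tszeArt k k (Fin n → k))

lemma fst_r₂ (e : E') : fstT (r₂ e) = C'.res (r₁ e) := by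
  rw [fstT_eq_res, res_app r₂ e, res_app r₁ e]

/-- the sum map `C' ×_k k[kⁿ] → C'`, `(a, v) ↦ a + ι v`. -/
noncomputable def sumHom : E' ⟶ C' where
  toAlgHom :=
    { toFun := fun e => r₁ e + ι (sndT (r₂ e))
      map_one' := by
        rw [map_one, map_one, sndT_one, map_zero, add_zero]
      map_mul' := fun e e' => by
        rw [map_mul, map_mul, sndT_mul, map_add]
        have h1 : ι (fstT (r₂ e) • sndT (r₂ e')) = r₁ e * ι (sndT (r₂ e')) := by
          rw [map_smul, hι_mul, fst_r₂ r₁ r₂]
        have h2 : ι (fstT (r₂ e') • sndT (r₂ e)) = r₁ e' * ι (sndT (r₂ e)) := by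
          rw [map_smul, hι_mul, fst_r₂ r₁ r₂]
        rw [h1, h2]
        have h3 := ι_mul_ι p ι hι_range hι_mul (sndT (r₂ e)) (sndT (r₂ e'))
        linear_combination (-1 : C') * h3
      map_zero' := by
        rw [map_zero, map_zero, sndT_zero, map_zero, add_zero]
      map_add' := fun e e' => by
        rw [map_add, map_add, sndT_add, map_add]
        ring
      commutes' := fun c => by
        have h1 : r₁ (algebraMap k E' c) = algebraMap k C' c := r₁.toAlgHom.commutes c
        have h2 : r₂ (algebraMap k E' c) = algebraMap k (tszeArt k k (Fin n → k)) c :=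
          r₂.toAlgHom.commutes c
        rw [h1, h2, sndT_algebraMap, map_zero, add_zero] }
  res_comp := by
    apply AlgHom.ext
    intro e
    change C'.res (r₁ e + ι (sndT (r₂ e))) = E'.res e
    rw [map_add, res_ι p ι hι_range, add_zero]
    exact res_app r₁ e

lemma sumHom_apply (e : E') :
    sumHom p ι hι_range hι_mul r₁ r₂ e = r₁ e + ι (sndT (r₂ e)) := rfl

include hι_inj in
/-- `C' ×_k k[kⁿ]` with the projection and the sum map is `C' ×_C C'`. -/
theorem isFibreProd_sumHom
    (hE' : IsFibreProd r₁ r₂ (toBase C') (toBase (tszeArt k k (Fin n → k)))) :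
    IsFibreProd r₁ (sumHom p ι hι_range hι_mul r₁ r₂) p p where
  w := by
    apply hom_ext
    apply AlgHom.ext
    intro e
    change p (r₁ e) = p (r₁ e + ι (sndT (r₂ e)))
    rw [map_add, p_ι p ι hι_range, add_zero]
  inj e e' h1 h2 := by
    apply hE'.inj _ _ h1
    rw [sumHom_apply, sumHom_apply, h1] at h2
    have h3 : sndT (r₂ e) = sndT (r₂ e') := hι_inj (add_left_cancel h2)
    apply extT _ h3
    rw [fst_r₂ r₁ r₂, fst_r₂ r₁ r₂, h1]
  surj a b hab := by
    have h0 : p (b - a) = 0 := by rw [map_sub, hab, sub_self]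
    obtain ⟨v, hv⟩ := (hι_range _).1 h0
    have hc : toBase C' a = toBase (tszeArt k k (Fin n → k)) (mkT (C'.res a) v) := by
      change C'.res a = fstT (mkT (C'.res a) v)
      rw [fstT_mkT]
    obtain ⟨e, he1, he2⟩ := hE'.surj a (mkT (C'.res a) v) hc
    refine ⟨e, he1, ?_⟩
    rw [sumHom_apply, he1, he2, sndT_mkT, hv]
    ring

include hι_inj hι_range hι_mul in
/-- the fibre over `u` is in bijection with `F(k[kⁿ])`. -/
theorem exists_bijective_fibre (hLE : LESurj F) (h0 : H0 F) (hp : Function.Surjective p)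
    (u : F.obj C) (v₀ : F.obj C') (hv₀ : F.map p v₀ = u) :
    ∃ Φ : F.obj (tszeArt k k (Fin n → k)) → {v : F.obj C' // F.map p v = u},
      Function.Bijective Φ := by
  haveI := h0.2
  obtain ⟨E', r₁, r₂, hE'⟩ := exists_isFibreProd_of_surjective (toBase C')
    (toBase (tszeArt k k (Fin n → k))) (tszeArt k k (Fin n → k)).res_surjective
  have hS := isFibreProd_sumHom p ι hι_inj hι_range hι_mul r₁ r₂ hE'
  set s := sumHom p ι hι_range hι_mul r₁ r₂ with hs
  have b₁ := hLE r₁ r₂ _ _ hE' (tszeArt k k (Fin n → k)).res_surjective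
  have b₂ := hLE r₁ s p p hS hp
  have ex₁ := (cmp_surjective_iff F hE').1 b₁.2
  have in₁ := (cmp_injective_iff F hE').1 b₁.1
  have ex₂ := (cmp_surjective_iff F hS).1 b₂.2
  have in₂ := (cmp_injective_iff F hS).1 b₂.1
  have hps : ∀ z : F.obj E', F.map p (F.map s z) = F.map p (F.map r₁ z) := by
    intro z
    rw [← map_comp_apply, ← map_comp_apply, hS.w]
  choose zf hz1 hz2 using fun w : F.obj (tszeArt k k (Fin n → k)) =>
    ex₁ v₀ w (Subsingleton.elim _ _)
  refine ⟨fun w => ⟨F.map s (zf w), by rw [hps, hz1, hv₀]⟩, ?_, ?_⟩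
  · intro w w' hww'
    have h1 : F.map s (zf w) = F.map s (zf w') := congrArg Subtype.val hww'
    have h2 : zf w = zf w' := in₂ _ _ (by rw [hz1, hz1]) h1
    rw [← hz2 w, ← hz2 w', h2]
  · rintro ⟨v, hv⟩
    obtain ⟨z, hz, hz'⟩ := ex₂ v₀ v (by rw [hv₀, hv])
    refine ⟨F.map r₂ z, ?_⟩
    apply Subtype.ext
    change F.map s (zf (F.map r₂ z)) = v
    have : zf (F.map r₂ z) = z := in₁ _ _ (by rw [hz1, hz]) (hz2 _)
    rw [this, hz']

end Main

section Semismall

variable {C' C : Art k k} (p : C' ⟶ C)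

/-- the linear data attached to a semismall extension. -/
theorem exists_ι (hp : IsSemismallExt p) :
    ∃ (ι : (Fin (Module.finrank k (RingHom.ker p.toAlgHom)) → k) →ₗ[k] C'),
      Function.Injective ι ∧ (∀ a : C', p a = 0 ↔ ∃ v, ι v = a) ∧
        (∀ (a : C') (v : Fin (Module.finrank k (RingHom.ker p.toAlgHom)) → k),
          a * ι v = C'.res a • ι v) := by
  set J : Ideal C' := RingHom.ker p.toAlgHom with hJ
  haveI : IsNoetherian k C' := isNoetherian_obj C'
  haveI : Module.Finite k ↥J := by
    have : Module.Finite k ↥(J.restrictScalars k) := inferInstance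
    exact this
  let b := Module.finBasis k ↥J
  let ι : (Fin (Module.finrank k ↥J) → k) →ₗ[k] C' :=
    (J.subtype.restrictScalars k).comp b.equivFun.symm.toLinearMap
  have hιJ : ∀ v, ι v ∈ J := fun v => (b.equivFun.symm v).2
  refine ⟨ι, ?_, ?_, ?_⟩
  · exact Subtype.val_injective.comp b.equivFun.symm.injective
  · intro a
    constructor
    · intro ha
      have ha' : a ∈ J := ha
      refine ⟨b.equivFun ⟨a, ha'⟩, ?_⟩
      change ((b.equivFun.symm (b.equivFun ⟨a, ha'⟩) : ↥J) : C') = a
      rw [LinearEquiv.symm_apply_apply]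
    · rintro ⟨v, rfl⟩
      exact hιJ v
  · intro a v
    have h1 : a - algebraMap k C' (C'.res a) ∈ IsLocalRing.maximalIdeal C' := by
      rw [mem_maximalIdeal_iff, map_sub, AlgHom.commutes, sub_eq_zero]
      rfl
    have h2 : (a - algebraMap k C' (C'.res a)) * ι v = 0 := by
      have := Ideal.mul_mem_mul h1 (hιJ v)
      rw [hp.2, Ideal.mem_bot] at this
      exact this
    rw [Algebra.smul_def]
    linear_combination h2

/-- **non-empty fibres of a semismall extension are in bijection with `F(k[ε])ⁿ`.** -/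
theorem nonempty_fibre_equiv (hLE : LESurj F) (h0 : H0 F) (hp : IsSemismallExt p)
    (u : F.obj C) (hne : ∃ v : F.obj C', F.map p v = u) :
    Nonempty ({v : F.obj C' // F.map p v = u} ≃
      (Fin (Module.finrank k (RingHom.ker p.toAlgHom)) → F.obj (dual k k))) := by
  obtain ⟨ι, h1, h2, h3⟩ := exists_ι p hp
  obtain ⟨v₀, hv₀⟩ := hne
  obtain ⟨Φ, hΦ⟩ := exists_bijective_fibre p ι h1 h2 h3 hLE h0 hp.1 u v₀ hv₀
  exact ⟨(Equiv.ofBijective Φ hΦ).symm.trans
    (Equiv.ofBijective _ (coordsMap_bijective h0 hLE.heps _))⟩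

end Semismall

end Groth.Agent.H61.ArtTorsor
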