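import Groth.Agent.H61.FormalFamily

set_option autoImplicit false
universe u v

open CategoryTheory

namespace Groth.Agent.H61

open ArtFun ArtFun.Art

variable {Λ : Type u} {k : Type u} [CommRing Λ] [Field k] [Algebra Λ k]

theorem cring_eq_of_forall_mem_mpow (S : CRing Λ k) {x y : S.carrier}
    (h : ∀ n, x - y ∈ S.mpow n) : x = y := by
  have := S.isAdicComplete
  have hH : IsHausdorff (IsLocalRing.maximalIdeal S.carrier) S.carrier := inferInstance
  rw [← sub_eq_zero]
  apply hH.haus'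
  intro n
  rw [SModEq.zero, smul_eq_mul, Ideal.mul_top]
  exact Ideal.pow_le_pow_right (Nat.le_succ n) (h n)

theorem algHom_eq_of_trunc_eq (S : CRing Λ k) {R' : Type u} [CommRing R'] [Algebra Λ R']
    (g₁ g₂ : R' →ₐ[Λ] S.carrier)
    (h : ∀ n, (S.truncHom n).1.comp g₁ = (S.truncHom n).1.comp g₂) : g₁ = g₂ := by
  apply AlgHom.ext
  intro r
  apply cring_eq_of_forall_mem_mpow S
  intro n
  have := congrArg (fun t : R' →ₐ[Λ] (S.trunc n) => t r) (h n)
  change Ideal.Quotient.mk (S.mpow n) (g₁ r) = Ideal.Quotient.mk (S.mpow n) (g₂ r) at this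
  rwa [Ideal.Quotient.eq] at this

theorem along_toFormalElt_elt {R' : Type u} [CommRing R'] [Algebra Λ R'] {resR : R' →ₐ[Λ] k}
    {F : Art Λ k ⥤ Type v} (ξ : Family R' resR F) (S : CRing Λ k) (g : R' →ₐ[Λ] S.carrier)
    (hg : S.res.comp g = resR) (n : ℕ) :
    (ξ.along g hg).toFormalElt.elt n =
      ξ.app (S.trunc n) ⟨(S.truncHom n).1.comp g, by
        rw [← AlgHom.comp_assoc, (S.truncHom n).2, hg]⟩ := rfl

/-- Two maps inducing the same formal element under a family injective on all objects are equal. -/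
theorem algHom_eq_of_along_eq {R' : Type u} [CommRing R'] [Algebra Λ R'] {resR : R' →ₐ[Λ] k}
    {F : Art Λ k ⥤ Type v} (ξ : Family R' resR F) (hinj : ∀ A, Function.Injective (ξ.app A))
    (S : CRing Λ k) (g₁ g₂ : R' →ₐ[Λ] S.carrier)
    (hg₁ : S.res.comp g₁ = resR) (hg₂ : S.res.comp g₂ = resR)
    (h : (ξ.along g₁ hg₁).toFormalElt = (ξ.along g₂ hg₂).toFormalElt) : g₁ = g₂ := by
  apply algHom_eq_of_trunc_eq S
  intro n
  have h1 := congrArg (fun u => u.elt n) h
  simp only [along_toFormalElt_elt] at h1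
  have h2 := hinj _ h1
  exact congrArg Subtype.val h2

end Groth.Agent.H61
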