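import Groth.Agent.H61.QuotComplete
import Groth.Agent.H61.HomSetQuot

set_option autoImplicit false
set_option linter.style.haveILetI false
set_option linter.unusedSectionVars false
universe u v
open CategoryTheory

namespace Groth.Agent.H61

open ArtFun ArtFun.Art

variable {Λ : Type u} {k : Type u} [CommRing Λ] [Field k] [Algebra Λ k]
variable {P : Type u} [CommRing P] [Algebra Λ P] {resP : P →ₐ[Λ] k}
variable [IsLocalRing P] [IsNoetherianRing P] [IsAdicComplete (IsLocalRing.maximalIdeal P) P]

/-- Quotients of a complete local noetherian augmented algebra, as objects of `CRing`. -/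
theorem exists_cring_quot (hres : Function.Surjective resP) (J : Ideal P)
    (hJ : J ≤ IsLocalRing.maximalIdeal P) :
    ∃ (S : CRing Λ k) (π : P →ₐ[Λ] S.carrier), S.res.comp π = resP ∧ Function.Surjective π ∧
      RingHom.ker π = J := by
  have hJtop : J ≠ ⊤ := fun h => (IsLocalRing.maximalIdeal.isMaximal P).ne_top (top_le_iff.1 (h ▸ hJ))
  haveI : Nontrivial (P ⧸ J) := Ideal.Quotient.nontrivial_iff.mpr hJtop
  haveI : IsLocalRing (P ⧸ J) := IsLocalRing.of_surjective' (Ideal.Quotient.mk J) Ideal.Quotient.mk_surjective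
  have hJker : ∀ x ∈ J, resP x = 0 := by
    intro x hx
    have := hJ hx
    rw [maximalIdeal_eq_ker_resP hres] at this
    exact this
  let res' : (P ⧸ J) →ₐ[Λ] k := Ideal.Quotient.liftₐ J resP hJker
  have hres' : Function.Surjective res' := by
    intro c
    obtain ⟨x, rfl⟩ := hres c
    exact ⟨Ideal.Quotient.mk J x, rfl⟩
  refine ⟨{ carrier := P ⧸ J, res := res', res_surjective := hres',
            isAdicComplete := isAdicComplete_quotient J }, Ideal.Quotient.mkₐ Λ J, ?_, ?_, ?_⟩
  · apply AlgHom.ext
    intro x
    rfl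
  · exact Ideal.Quotient.mk_surjective
  · ext x
    rw [RingHom.mem_ker]
    exact Ideal.Quotient.eq_zero_iff_mem

end Groth.Agent.H61
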