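import Groth.Agent.H61.QuotComplete
import Mathlib.RingTheory.HopkinsLevitzki

set_option autoImplicit false
set_option linter.style.haveILetI false
set_option linter.unusedSectionVars false
universe u v

namespace Groth.Agent.H61

variable {R : Type*} [CommRing R] [IsLocalRing R] [IsNoetherianRing R]

theorem isArtinianRing_quotient_of_pow_le (I : Ideal R) (hI : I ≠ ⊤) (N : ℕ)
    (hN : IsLocalRing.maximalIdeal R ^ N ≤ I) : IsArtinianRing (R ⧸ I) := by
  haveI : Nontrivial (R ⧸ I) := Ideal.Quotient.nontrivial_iff.mpr hI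
  haveI : IsLocalRing (R ⧸ I) := IsLocalRing.of_surjective' (Ideal.Quotient.mk I) Ideal.Quotient.mk_surjective
  have hmap : (IsLocalRing.maximalIdeal R).map (Ideal.Quotient.mk I) = IsLocalRing.maximalIdeal (R ⧸ I) :=
    IsLocalRing.map_maximalIdeal_of_surjective _ Ideal.Quotient.mk_surjective
  rw [isArtinianRing_iff_isNilpotent_maximalIdeal]
  refine ⟨N, ?_⟩
  rw [← hmap, ← Ideal.map_pow, Ideal.zero_eq_bot, Ideal.map_eq_bot_iff_le_ker, Ideal.mk_ker]
  exact hN

/-- stabilisation of decreasing chains modulo a power of the maximal ideal -/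
theorem exists_stable (J : ℕ → Ideal R) (hJ : Antitone J) (N : ℕ) :
    ∃ Q, ∀ q, Q ≤ q → J q ⊔ IsLocalRing.maximalIdeal R ^ N = J Q ⊔ IsLocalRing.maximalIdeal R ^ N := by
  set K := IsLocalRing.maximalIdeal R ^ N with hK
  by_cases hKtop : K = ⊤
  · exact ⟨0, fun q _ => by rw [hKtop, sup_top_eq, sup_top_eq]⟩
  haveI : IsArtinianRing (R ⧸ K) := isArtinianRing_quotient_of_pow_le K hKtop N le_rfl
  let f : ℕ →o (Submodule (R ⧸ K) (R ⧸ K))ᵒᵈ :=
    { toFun := fun q => OrderDual.toDual ((J q).map (Ideal.Quotient.mk K))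
      monotone' := fun a b hab => OrderDual.toDual_le_toDual.2 (Ideal.map_mono (hJ hab)) }
  obtain ⟨Q, hQ⟩ := IsArtinian.monotone_stabilizes f
  refine ⟨Q, fun q hq => ?_⟩
  have h1 : (J Q).map (Ideal.Quotient.mk K) = (J q).map (Ideal.Quotient.mk K) := by
    have := hQ q hq
    exact OrderDual.toDual.injective this
  have h2 : ∀ I : Ideal R, Ideal.comap (Ideal.Quotient.mk K) (I.map (Ideal.Quotient.mk K)) = I ⊔ K := by
    intro I
    rw [Ideal.comap_map_of_surjective _ Ideal.Quotient.mk_surjective, ← RingHom.ker_eq_comap_bot, Ideal.mk_ker]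
  rw [← h2, ← h2, h1]

/-- Chevalley's lemma (in the form needed): a decreasing chain of open ideals in a complete local noetherian
ring is cofinal with the powers of the maximal ideal modulo its intersection. -/
theorem chevalley [IsAdicComplete (IsLocalRing.maximalIdeal R) R] (J : ℕ → Ideal R) (hJ : Antitone J)
    (hJN : ∀ q, ∃ N, IsLocalRing.maximalIdeal R ^ N ≤ J q) (n : ℕ) :
    ∃ q, J q ≤ (⨅ q, J q) ⊔ IsLocalRing.maximalIdeal R ^ n := by
  classical
  -- stabilisation indices
  choose Q₀ hQ₀ using fun j : ℕ => exists_stable J hJ (n + j)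
  -- make them monotone and ≥ j
  let Q : ℕ → ℕ := fun j => (Finset.range (j + 1)).sup Q₀ + j
  have hQmono : Monotone Q := by
    intro a b hab
    apply Nat.add_le_add _ hab
    apply Finset.sup_mono
    intro x hx
    rw [Finset.mem_range] at hx ⊢
    omega
  have hQge : ∀ j, Q₀ j ≤ Q j := fun j =>
    (Finset.le_sup (f := Q₀) (Finset.mem_range.2 (Nat.lt_succ_self j))).trans (Nat.le_add_right _ _)
  have hQj : ∀ j, j ≤ Q j := fun j => Nat.le_add_left _ _
  have hstab : ∀ j q, Q j ≤ q → J q ⊔ IsLocalRing.maximalIdeal R ^ (n + j) =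
      J (Q j) ⊔ IsLocalRing.maximalIdeal R ^ (n + j) := by
    intro j q hq
    rw [hQ₀ j q ((hQge j).trans hq), hQ₀ j (Q j) (hQge j)]
  refine ⟨Q 0, fun x hx => ?_⟩
  -- build the sequence
  have hstep : ∀ j (y : R), y ∈ J (Q j) → ∃ y' ∈ J (Q (j + 1)), y - y' ∈ IsLocalRing.maximalIdeal R ^ (n + j) := by
    intro j y hy
    have h1 : y ∈ J (Q (j + 1)) ⊔ IsLocalRing.maximalIdeal R ^ (n + j) := by
      rw [hstab j (Q (j + 1)) (hQmono (Nat.le_succ j))]
      exact Ideal.mem_sup_left hy
    obtain ⟨y', hy', w, hw, hyw⟩ := Submodule.mem_sup.1 h1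
    refine ⟨y', hy', ?_⟩
    rw [← hyw, add_sub_cancel_left]
    exact hw
  choose! nxt hnxt hnxt' using hstep
  let Y : ℕ → R := fun j => Nat.rec x (fun j y => nxt j y) j
  have hY0 : Y 0 = x := rfl
  have hYs : ∀ j, Y (j + 1) = nxt j (Y j) := fun j => rfl
  have hYmem : ∀ j, Y j ∈ J (Q j) := by
    intro j
    induction j with
    | zero => exact hx
    | succ j ih => rw [hYs]; exact hnxt j _ ih
  have hYdiff : ∀ j, Y j - Y (j + 1) ∈ IsLocalRing.maximalIdeal R ^ (n + j) := by
    intro j
    rw [hYs]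
    exact hnxt' j _ (hYmem j)
  -- shifted Cauchy sequence
  let G : ℕ → R := fun i => Y (i - n)
  have hGs : ∀ i, G (i + 1) - G i ∈ IsLocalRing.maximalIdeal R ^ i := by
    intro i
    by_cases hi : i < n
    · have h1 : i + 1 - n = 0 := by omega
      have h2 : i - n = 0 := by omega
      simp only [G, h1, h2, sub_self]
      exact Ideal.zero_mem _
    · have h1 : i + 1 - n = (i - n) + 1 := by omega
      simp only [G, h1]
      have := hYdiff (i - n)
      have h3 : n + (i - n) = i := by omega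
      rw [h3] at this
      have := Ideal.neg_mem_iff _ |>.2 this
      rwa [neg_sub] at this
  obtain ⟨L, hL⟩ := exists_limit_of_succ (IsLocalRing.maximalIdeal R) G hGs
  -- x - L ∈ m^n
  have hxL : x - L ∈ IsLocalRing.maximalIdeal R ^ n := by
    have := hL n
    simp only [G, Nat.sub_self] at this
    exact this
  -- L ∈ J q for all q
  have hLJ : L ∈ ⨅ q, J q := by
    rw [Ideal.mem_iInf]
    intro q
    obtain ⟨N, hN⟩ := hJN q
    -- choose i ≥ N with i - n ≥ q
    set i := n + N + q with hi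
    have h1 : G i - L ∈ J q := hN (Ideal.pow_le_pow_right (by omega) (hL i))
    have h2 : G i ∈ J q := by
      have := hYmem (i - n)
      exact hJ ((by omega : q ≤ i - n).trans (hQj (i - n))) this
    have : L = G i - (G i - L) := by ring
    rw [this]
    exact Ideal.sub_mem _ h2 h1
  have : x = L + (x - L) := by ring
  rw [this]
  exact Ideal.add_mem _ (Ideal.mem_sup_left hLJ) (Ideal.mem_sup_right hxL)

end Groth.Agent.H61
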