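import Mathlib

/-!
# Coherent modules (finite, with every f.g. submodule finitely presented)
-/

namespace Groth.Agent.H61

universe u v

variable {R : Type u} [CommRing R]

/-- coherent: finite and every finitely generated submodule is finitely presented. -/
def IsCoh (R : Type u) [CommRing R] (M : Type v) [AddCommGroup M] [Module R M] : Prop :=
  Module.Finite R M ∧ ∀ P : Submodule R M, P.FG → Module.FinitePresentation R P

variable {M : Type v} [AddCommGroup M] [Module R M] {N : Type v} [AddCommGroup N] [Module R N]

/-- a f.g. submodule of a coherent module is coherent. -/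
lemma IsCoh.submodule (hM : IsCoh R M) (Q : Submodule R M) (hQ : Q.FG) : IsCoh R Q := by
  refine ⟨Module.Finite.iff_fg.2 hQ, fun P hP => ?_⟩
  have h1 : (P.map Q.subtype).FG := hP.map _
  have := hM.2 _ h1
  exact Module.FinitePresentation.of_equiv
    (Submodule.equivMapOfInjective Q.subtype Q.injective_subtype P).symm

/-- the kernel of a map from a finite module to a coherent module is f.g. -/
lemma IsCoh.ker_fg [Module.Finite R N] (hM : IsCoh R M) (φ : N →ₗ[R] M) : (LinearMap.ker φ).FG := by
  have h1 : (LinearMap.range φ).FG := by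
    rw [LinearMap.range_eq_map]
    exact (Module.Finite.fg_top).map φ
  have := hM.2 _ h1
  have h2 := Module.FinitePresentation.fg_ker φ.rangeRestrict φ.surjective_rangeRestrict
  rwa [LinearMap.ker_rangeRestrict] at h2

/-- a f.g. submodule of a quotient is the image of a f.g. submodule. -/
lemma exists_fg_map_mkQ (Q : Submodule R M) (P' : Submodule R (M ⧸ Q)) (hP' : P'.FG) :
    ∃ P₀ : Submodule R M, P₀.FG ∧ P₀.map Q.mkQ = P' := by
  classical
  obtain ⟨s, rfl⟩ := hP'
  choose! lift hlift using fun x : M ⧸ Q => Q.mkQ_surjective x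
  refine ⟨Submodule.span R (s.image lift), ⟨s.image lift, rfl⟩, ?_⟩
  rw [Submodule.map_span, Finset.coe_image, Set.image_image]
  congr 1
  ext x
  simp [hlift]

/-- the quotient of a coherent module by a f.g. submodule is coherent. -/
lemma IsCoh.quotient (hM : IsCoh R M) (Q : Submodule R M) (hQ : Q.FG) : IsCoh R (M ⧸ Q) := by
  have := hM.1
  refine ⟨inferInstance, fun P' hP' => ?_⟩
  obtain ⟨P₀, hP₀, rfl⟩ := exists_fg_map_mkQ Q P' hP'
  -- `P = Q ⊔ P₀` is f.g., hence finitely presented
  let P : Submodule R M := Q ⊔ P₀
  have hP : P.FG := hQ.sup hP₀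
  have hfp : Module.FinitePresentation R P := hM.2 P hP
  have hmap : P.map Q.mkQ = P₀.map Q.mkQ := by
    rw [Submodule.map_sup, Submodule.mkQ_map_self, bot_sup_eq]
  -- the restriction of `mkQ` to `P → P₀.map mkQ`
  let l : P →ₗ[R] (P₀.map Q.mkQ) :=
    (Q.mkQ.comp P.subtype).codRestrict (P₀.map Q.mkQ) (fun x => by
      rw [← hmap]
      exact Submodule.mem_map_of_mem x.2)
  have hl : Function.Surjective l := by
    rintro ⟨y, hy⟩
    rw [← hmap] at hy
    obtain ⟨x, hx, rfl⟩ := hy
    exact ⟨⟨x, hx⟩, rfl⟩
  have hker : LinearMap.ker l = Q.comap P.subtype := by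
    ext x
    simp only [l, LinearMap.mem_ker, Submodule.mem_comap, Submodule.coe_subtype]
    rw [← Submodule.Quotient.mk_eq_zero Q (x := (x : M))]
    constructor
    · intro h
      exact congrArg Subtype.val h
    · intro h
      exact Subtype.ext h
  have hkerfg : (LinearMap.ker l).FG := by
    rw [hker]
    have hle : Q ≤ P := le_sup_left
    have : Module.Finite R Q := Module.Finite.iff_fg.2 hQ
    have : Module.Finite R (Q.comap P.subtype) :=
      Module.Finite.equiv (Submodule.comapSubtypeEquivOfLe hle).symm
    exact Module.Finite.iff_fg.1 this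
  exact Module.finitePresentation_of_surjective l hl hkerfg

end Groth.Agent.H61
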