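import Mathlib

/-!
# Roofs with bounds in the derived category, stated on `HomotopyCategory`
-/

open CategoryTheory Limits Pretriangulated

namespace Groth.Agent.H61

universe w v u

variable {A : Type u} [Category.{v} A] [Abelian A] [HasDerivedCategory.{w} A]

/-- `Qh (quotient X) ≅ Q X`. -/
noncomputable def eQ (X : CochainComplex A ℤ) :
    DerivedCategory.Qh.obj ((HomotopyCategory.quotient A (.up ℤ)).obj X) ≅ DerivedCategory.Q.obj X :=
  (DerivedCategory.quotientCompQhIso A).app X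

lemma eQ_nat {X Y : CochainComplex A ℤ} (g : X ⟶ Y) :
    DerivedCategory.Qh.map ((HomotopyCategory.quotient A (.up ℤ)).map g) ≫ (eQ Y).hom =
      (eQ X).hom ≫ DerivedCategory.Q.map g :=
  (DerivedCategory.quotientCompQhIso A).hom.naturality g

lemma quasiIso_quotient_map_of_isIso {X Y : CochainComplex A ℤ} (s : X ⟶ Y)
    (h : IsIso (DerivedCategory.Q.map s)) :
    HomotopyCategory.quasiIso A (.up ℤ) ((HomotopyCategory.quotient A (.up ℤ)).map s) := by
  rw [HomotopyCategory.quotient_map_mem_quasiIso_iff, HomologicalComplex.mem_quasiIso_iff]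
  rwa [DerivedCategory.isIso_Q_map_iff_quasiIso] at h

/-- left fractions with two-sided bounds, on `HomotopyCategory`. -/
theorem exists_left_fac (X Y : CochainComplex A ℤ) (a b : ℤ)
    [X.IsStrictlyLE b] [Y.IsStrictlyGE a] [Y.IsStrictlyLE b]
    (φ : DerivedCategory.Qh.obj ((HomotopyCategory.quotient A (.up ℤ)).obj X) ⟶
      DerivedCategory.Qh.obj ((HomotopyCategory.quotient A (.up ℤ)).obj Y)) :
    ∃ (Y' : CochainComplex A ℤ) (_ : Y'.IsStrictlyGE a) (_ : Y'.IsStrictlyLE b)
      (g : X ⟶ Y') (s : Y ⟶ Y'), QuasiIso s ∧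
      φ ≫ DerivedCategory.Qh.map ((HomotopyCategory.quotient A (.up ℤ)).map s) =
        DerivedCategory.Qh.map ((HomotopyCategory.quotient A (.up ℤ)).map g) := by
  obtain ⟨Y', h1, h2, g, s, hs, fac⟩ :=
    DerivedCategory.left_fac_of_isStrictlyLE_of_isStrictlyGE a b
      ((eQ X).inv ≫ φ ≫ (eQ Y).hom)
  refine ⟨Y', h1, h2, g, s, (DerivedCategory.isIso_Q_map_iff_quasiIso (φ := s)).1 hs, ?_⟩
  rw [← cancel_mono (eQ Y').hom, Category.assoc, eQ_nat, eQ_nat]
  have : φ ≫ (eQ Y).hom = (eQ X).hom ≫ DerivedCategory.Q.map g ≫ inv (DerivedCategory.Q.map s) := by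
    rw [← fac, Iso.hom_inv_id_assoc]
  rw [reassoc_of% this, IsIso.inv_hom_id, Category.comp_id]

/-- right fractions with an upper bound, on `HomotopyCategory`. -/
theorem exists_right_fac (X Y : CochainComplex A ℤ) (n : ℤ) [X.IsStrictlyLE n]
    (φ : DerivedCategory.Qh.obj ((HomotopyCategory.quotient A (.up ℤ)).obj X) ⟶
      DerivedCategory.Qh.obj ((HomotopyCategory.quotient A (.up ℤ)).obj Y)) :
    ∃ (X' : CochainComplex A ℤ) (_ : X'.IsStrictlyLE n) (s : X' ⟶ X) (g : X' ⟶ Y), QuasiIso s ∧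
      DerivedCategory.Qh.map ((HomotopyCategory.quotient A (.up ℤ)).map s) ≫ φ =
        DerivedCategory.Qh.map ((HomotopyCategory.quotient A (.up ℤ)).map g) := by
  obtain ⟨X', h1, s, hs, g, fac⟩ :=
    DerivedCategory.right_fac_of_isStrictlyLE ((eQ X).inv ≫ φ ≫ (eQ Y).hom) n
  refine ⟨X', h1, s, g, (DerivedCategory.isIso_Q_map_iff_quasiIso (φ := s)).1 hs, ?_⟩
  rw [← cancel_mono (eQ Y).hom, Category.assoc, eQ_nat]
  have : φ ≫ (eQ Y).hom = (eQ X).hom ≫ inv (DerivedCategory.Q.map s) ≫ DerivedCategory.Q.map g := by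
    rw [← fac, Iso.hom_inv_id_assoc]
  rw [this, ← Category.assoc, eQ_nat, Category.assoc, IsIso.hom_inv_id_assoc]

end Groth.Agent.H61

namespace Groth.Agent.H61

universe w v u

variable {A : Type u} [Category.{v} A] [Abelian A]

lemma isStrictlyLE_mappingCone {K L : CochainComplex A ℤ} (f : K ⟶ L)
    (n₁ n₂ n : ℤ) [K.IsStrictlyLE n₁] [L.IsStrictlyLE n₂] (hn₁ : n₁ ≤ n + 1) (hn₂ : n₂ ≤ n) :
    (CochainComplex.mappingCone f).IsStrictlyLE n := by
  rw [CochainComplex.isStrictlyLE_iff]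
  intro i hi
  simp only [CochainComplex.mappingCone.isZero_X_iff]
  exact ⟨K.isZero_of_isStrictlyLE n₁ _ (by lia), L.isZero_of_isStrictlyLE n₂ _ (by lia)⟩

variable [HasDerivedCategory.{w} A]

/-- faithfulness half, with two-sided bounds: if `f₁ f₂ : X ⟶ Y` become equal in `D(A)` with
`X` strictly `≤ b` and `Y` strictly in `[a, b]`, there is a quasi-isomorphism `t : Y ⟶ Y'`, with
`Y'` strictly in `[a, b]`, equalizing them in `K(A)`. -/
theorem exists_postcomp_eq (X Y : CochainComplex A ℤ) (a b : ℤ)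
    [X.IsStrictlyLE b] [Y.IsStrictlyGE a] [Y.IsStrictlyLE b] (φ₁ φ₂ : X ⟶ Y)
    (h : DerivedCategory.Qh.map ((HomotopyCategory.quotient A (.up ℤ)).map φ₁) =
      DerivedCategory.Qh.map ((HomotopyCategory.quotient A (.up ℤ)).map φ₂)) :
    ∃ (Y' : CochainComplex A ℤ) (_ : Y'.IsStrictlyGE a) (_ : Y'.IsStrictlyLE b) (t : Y ⟶ Y'),
      QuasiIso t ∧
      (HomotopyCategory.quotient A (.up ℤ)).map φ₁ ≫ (HomotopyCategory.quotient A (.up ℤ)).map t =
        (HomotopyCategory.quotient A (.up ℤ)).map φ₂ ≫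
          (HomotopyCategory.quotient A (.up ℤ)).map t := by
  let φ := φ₁ - φ₂
  have hCb : (CochainComplex.mappingCone φ).IsStrictlyLE b :=
    isStrictlyLE_mappingCone φ b b b (by lia) le_rfl
  have hT := HomotopyCategory.mappingCone_triangleh_distinguished φ
  have hTD := DerivedCategory.Qh.map_distinguished _ hT
  have h0 : (DerivedCategory.Qh.mapTriangle.obj (CochainComplex.mappingCone.triangleh φ)).mor₁ = 0 := by
    change DerivedCategory.Qh.map ((HomotopyCategory.quotient A (.up ℤ)).map (φ₁ - φ₂)) = 0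
    rw [Functor.map_sub, Functor.map_sub, h, sub_self]
  obtain ⟨r, hr'⟩ : ∃ r : DerivedCategory.Qh.obj ((HomotopyCategory.quotient A (.up ℤ)).obj
      (CochainComplex.mappingCone φ)) ⟶
        DerivedCategory.Qh.obj ((HomotopyCategory.quotient A (.up ℤ)).obj Y),
      DerivedCategory.Qh.map ((HomotopyCategory.quotient A (.up ℤ)).map
        (CochainComplex.mappingCone.inr φ)) ≫ r = 𝟙 _ := by
    obtain ⟨r, hr⟩ := Triangle.yoneda_exact₂ _ hTD (𝟙 _) (by rw [h0, zero_comp])
    exact ⟨r, hr.symm⟩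
  obtain ⟨Y', h1, h2, g, s, hs, fac⟩ := exists_left_fac (CochainComplex.mappingCone φ) Y a b r
  refine ⟨Y', h1, h2, CochainComplex.mappingCone.inr φ ≫ g, ?_, ?_⟩
  · have e : DerivedCategory.Qh.map ((HomotopyCategory.quotient A (.up ℤ)).map
        (CochainComplex.mappingCone.inr φ ≫ g)) =
        DerivedCategory.Qh.map ((HomotopyCategory.quotient A (.up ℤ)).map s) := by
      rw [Functor.map_comp, Functor.map_comp, ← fac, ← Category.assoc, hr', Category.id_comp]
    have hs' : HomotopyCategory.quasiIso A (.up ℤ) ((HomotopyCategory.quotient A (.up ℤ)).map s) := by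
      rw [HomotopyCategory.quotient_map_mem_quasiIso_iff, HomologicalComplex.mem_quasiIso_iff]
      exact hs
    rw [← DerivedCategory.isIso_Qh_map_iff] at hs'
    have : HomotopyCategory.quasiIso A (.up ℤ) ((HomotopyCategory.quotient A (.up ℤ)).map
        (CochainComplex.mappingCone.inr φ ≫ g)) := by
      rw [← DerivedCategory.isIso_Qh_map_iff, e]
      exact hs'
    rw [HomotopyCategory.quotient_map_mem_quasiIso_iff, HomologicalComplex.mem_quasiIso_iff] at this
    exact this
  · have hz : (HomotopyCategory.quotient A (.up ℤ)).map φ ≫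
        (HomotopyCategory.quotient A (.up ℤ)).map (CochainComplex.mappingCone.inr φ) = 0 :=
      comp_distTriang_mor_zero₁₂ _ hT
    rw [← sub_eq_zero, ← Preadditive.sub_comp, ← Functor.map_sub, Functor.map_comp,
      reassoc_of% hz, zero_comp]

end Groth.Agent.H61
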