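import Groth.Agent.H61.CRingLift
import Mathlib.LinearAlgebra.Dual.Lemmas

set_option autoImplicit false
universe u v

open CategoryTheory

namespace Groth.Agent.H61

open ArtFun ArtFun.Art

variable {k : Type u} [Field k]

section Sep

variable (T : Art k k)

theorem art_res_algebraMap (a : k) : T.res (algebraMap k T a) = a := by
  rw [AlgHom.commutes]; rfl

theorem art_sub_mem_maximalIdeal (s : T) : s - algebraMap k T (T.res s) ∈ IsLocalRing.maximalIdeal T := by
  rw [Art.mem_maximalIdeal_iff, map_sub, art_res_algebraMap, sub_self]

/-- The map `T → k[ε]`, `s ↦ (res s, l (s - res s))` attached to a functional, for `m_T² = 0`. -/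
noncomputable def tangentMap (hT : IsLocalRing.maximalIdeal T ^ 2 = ⊥) (l : T →ₗ[k] k) : T ⟶ dual k k :=
  ⟨{ toFun := fun s => (T.res s, l (s - algebraMap k T (T.res s)))
     map_one' := by
       apply TrivSqZeroExt.ext
       · change T.res 1 = 1
         exact map_one _
       · change l (1 - algebraMap k T (T.res 1)) = 0
         rw [map_one, map_one, sub_self, map_zero]
     map_mul' := fun s s' => by
       apply TrivSqZeroExt.ext
       · change T.res (s * s') = T.res s * T.res s'
         exact map_mul _ _ _
       · change l (s * s' - algebraMap k T (T.res (s * s'))) =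
           T.res s • l (s' - algebraMap k T (T.res s')) +
             MulOpposite.op (T.res s') • l (s - algebraMap k T (T.res s))
         have hxx : (s - algebraMap k T (T.res s)) * (s' - algebraMap k T (T.res s')) = 0 := by
           have : (s - algebraMap k T (T.res s)) * (s' - algebraMap k T (T.res s')) ∈
               IsLocalRing.maximalIdeal T ^ 2 := by
             rw [pow_two]
             exact Ideal.mul_mem_mul (art_sub_mem_maximalIdeal T s) (art_sub_mem_maximalIdeal T s')
           rw [hT] at this
           exact this
         have key : s * s' - algebraMap k T (T.res (s * s')) =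
             T.res s • (s' - algebraMap k T (T.res s')) + T.res s' • (s - algebraMap k T (T.res s)) := by
           rw [Algebra.smul_def, Algebra.smul_def, map_mul, map_mul]
           linear_combination hxx
         rw [key, map_add, map_smul, map_smul, op_smul_eq_smul]
     map_zero' := by
       apply TrivSqZeroExt.ext
       · change T.res 0 = 0
         exact map_zero _
       · change l (0 - algebraMap k T (T.res 0)) = 0
         rw [map_zero, map_zero, sub_self, map_zero]
     map_add' := fun s s' => by
       apply TrivSqZeroExt.ext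
       · change T.res (s + s') = T.res s + T.res s'
         exact map_add _ _ _
       · change l (s + s' - algebraMap k T (T.res (s + s'))) =
           l (s - algebraMap k T (T.res s)) + l (s' - algebraMap k T (T.res s'))
         rw [← map_add, map_add T.res, map_add (algebraMap k T)]
         congr 1
         ring
     commutes' := fun c => by
       apply TrivSqZeroExt.ext
       · change T.res (algebraMap k T c) = c
         exact art_res_algebraMap T c
       · change l (algebraMap k T c - algebraMap k T (T.res (algebraMap k T c))) = 0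
         rw [art_res_algebraMap, sub_self, map_zero] }, by
    apply AlgHom.ext
    intro s
    rfl⟩

theorem tangentMap_apply_snd (hT : IsLocalRing.maximalIdeal T ^ 2 = ⊥) (l : T →ₗ[k] k) (s : T) :
    TrivSqZeroExt.snd (tangentMap T hT l s) = l (s - algebraMap k T (T.res s)) := rfl

/-- Maps to the dual numbers separate points of the maximal ideal when `m_T² = 0`. -/
theorem exists_tangentMap_ne (hT : IsLocalRing.maximalIdeal T ^ 2 = ⊥) {t : T}
    (ht : t ∈ IsLocalRing.maximalIdeal T) (ht0 : t ≠ 0) : ∃ π : T ⟶ dual k k, π t ≠ 0 := by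
  have : ¬ ∀ l : Module.Dual k T, l t = 0 := fun h => ht0 ((Module.forall_dual_apply_eq_zero_iff k t).1 h)
  obtain ⟨l, hl⟩ := not_forall.1 this
  refine ⟨tangentMap T hT l, fun h => hl ?_⟩
  have h1 := congrArg TrivSqZeroExt.snd h
  rw [tangentMap_apply_snd] at h1
  rw [Art.mem_maximalIdeal_iff] at ht
  rw [ht, map_zero, sub_zero] at h1
  exact h1

end Sep

section TruncOne

variable {Λ : Type u} [CommRing Λ] [Algebra Λ k]

theorem trunc_maximalIdeal_pow (S : CRing Λ k) (n : ℕ) :
    IsLocalRing.maximalIdeal (S.trunc n) ^ (n + 1) = ⊥ := by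
  rw [← le_bot_iff]
  calc IsLocalRing.maximalIdeal (S.carrier ⧸ S.mpow n) ^ (n + 1)
      ≤ ((IsLocalRing.maximalIdeal S.carrier).map (Ideal.Quotient.mk (S.mpow n))) ^ (n + 1) :=
        Ideal.pow_right_mono (CRing.maximalIdeal_quot_le S n) _
    _ = (S.mpow n).map (Ideal.Quotient.mk (S.mpow n)) := by rw [← Ideal.map_pow]
    _ = ⊥ := Ideal.map_quotient_self _
    _ ≤ ⊥ := le_rfl

end TruncOne

/-- If two maps into an object with `m² = 0` agree after every map to the dual numbers, they agree. -/
theorem homSet_eq_of_forall_tangentMap {R : Type u} [CommRing R] [Algebra k R] {resR : R →ₐ[k] k}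
    (T : Art k k) (hT : IsLocalRing.maximalIdeal T ^ 2 = ⊥) (φ₁ φ₂ : HomSet R resR T)
    (h : ∀ π : T ⟶ dual k k, HomSet.map π φ₁ = HomSet.map π φ₂) : φ₁ = φ₂ := by
  apply homSet_ext
  intro r
  by_contra hne
  have hmem : φ₁.1 r - φ₂.1 r ∈ IsLocalRing.maximalIdeal T := by
    rw [Art.mem_maximalIdeal_iff, map_sub]
    have e1 : T.res (φ₁.1 r) = resR r := congrArg (fun t : R →ₐ[k] k => t r) φ₁.2
    have e2 : T.res (φ₂.1 r) = resR r := congrArg (fun t : R →ₐ[k] k => t r) φ₂.2
    rw [e1, e2, sub_self]
  obtain ⟨π, hπ⟩ := exists_tangentMap_ne T hT hmem (sub_ne_zero.2 hne)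
  apply hπ
  have := congrArg (fun t : HomSet R resR (dual k k) => t.1 r) (h π)
  change π (φ₁.1 r) = π (φ₂.1 r) at this
  change π.toAlgHom (φ₁.1 r - φ₂.1 r) = 0
  rw [map_sub, this, sub_self]

end Groth.Agent.H61
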