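import Groth.Agent.H61.TangentGen
import Groth.Agent.H61.Tangent
import Mathlib.RingTheory.Nakayama
import Mathlib.RingTheory.AdicCompletion.Functoriality
import Mathlib.RingTheory.AdicCompletion.Noetherian

set_option autoImplicit false
universe u v

open CategoryTheory

namespace Groth.Agent.H61

open ArtFun ArtFun.Art

/-- A surjective ring endomorphism of a Noetherian ring is injective. -/
theorem injective_of_surjective_endo {R : Type*} [CommRing R] [IsNoetherianRing R] (α : R →+* R)
    (hα : Function.Surjective α) : Function.Injective α := by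
  let K : ℕ →o Ideal R :=
    { toFun := fun n => RingHom.ker (α ^ n)
      monotone' := by
        intro n m hnm x hx
        rw [RingHom.mem_ker] at hx ⊢
        obtain ⟨d, rfl⟩ := Nat.exists_eq_add_of_le hnm
        rw [add_comm, pow_add]
        change (α ^ d) ((α ^ n) x) = 0
        rw [hx, map_zero] }
  obtain ⟨n, hn⟩ := monotone_stabilizes_iff_noetherian.mpr (inferInstance : IsNoetherian R R) K
  rw [injective_iff_map_eq_zero]
  intro x hx
  have hsurj : Function.Surjective (α ^ n) := by
    induction n with
    | zero => exact fun y => ⟨y, rfl⟩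
    | succ m ih =>
      have ihm := ih
      intro y
      rw [pow_succ]
      have h1 : Function.Surjective (α ^ m) := by
        clear ih ihm hn
        induction m with
        | zero => exact fun y => ⟨y, rfl⟩
        | succ j ihj =>
          intro y
          obtain ⟨z, hz⟩ := ihj y
          obtain ⟨w, hw⟩ := hα z
          exact ⟨w, by rw [pow_succ]; change (α ^ j) (α w) = y; rw [hw, hz]⟩
      obtain ⟨z, hz⟩ := h1 y
      obtain ⟨w, hw⟩ := hα z
      exact ⟨w, by change (α ^ m) (α w) = y; rw [hw, hz]⟩
  obtain ⟨y, rfl⟩ := hsurj x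
  have hy : y ∈ K (n + 1) := by
    change y ∈ RingHom.ker (α ^ (n + 1))
    rw [RingHom.mem_ker, pow_succ']
    exact hx
  rw [← hn (n + 1) (Nat.le_succ n)] at hy
  exact hy

variable {Λ : Type u} {k : Type u} [CommRing Λ] [Field k] [Algebra Λ k]

/-- An endomorphism of a complete local noetherian `Λ`-algebra with residue field `k` that fixes
all tangent vectors is an automorphism. -/
theorem endo_bijective_of_tangent_fixed (hk : Function.Surjective (algebraMap Λ k)) (R : CRing Λ k)
    (α : R.carrier →ₐ[Λ] R.carrier) (hα : R.res.comp α = R.res)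
    (hfix : ∀ ψ : HomSet R.carrier R.res (dual Λ k), ψ.1.comp α = ψ.1) :
    Function.Bijective α := by
  set m := IsLocalRing.maximalIdeal R.carrier with hm
  have hαm : ∀ x ∈ m, α x ∈ m := by
    intro x hx
    rw [hm, CRing.mem_maximalIdeal_iff] at hx ⊢
    have : R.res (α x) = R.res x := congrArg (fun t : R.carrier →ₐ[Λ] k => t x) hα
    rw [this, hx]
  have hT : IsLocalRing.maximalIdeal (R.trunc 1) ^ 2 = ⊥ := trunc_maximalIdeal_pow R 1
  set J₀ : Ideal R.carrier := (RingHom.ker (algebraMap Λ k)).map (algebraMap Λ R.carrier) with hJ₀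
  -- Step 2
  have step2 : ∀ x ∈ m, x - α x ∈ J₀ ⊔ m ^ 2 := by
    intro x hx
    by_contra hcon
    have ht : (R.truncHom 1).1 (x - α x) ∈ IsLocalRing.maximalIdeal (R.trunc 1) := by
      have := homSet_mem_maximalIdeal R (R.truncHom 1) (Ideal.sub_mem _ hx (hαm x hx))
      exact this
    have ht0 : (R.truncHom 1).1 (x - α x) ∉
        (RingHom.ker (algebraMap Λ k)).map (algebraMap Λ (R.trunc 1)) := by
      intro hmem
      apply hcon
      have h1 : (RingHom.ker (algebraMap Λ k)).map (algebraMap Λ (R.trunc 1)) =
          J₀.map (Ideal.Quotient.mk (R.mpow 1)) := by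
        rw [hJ₀, Ideal.map_map]
        rfl
      rw [h1] at hmem
      have h2 : x - α x ∈ (J₀.map (Ideal.Quotient.mk (R.mpow 1))).comap (Ideal.Quotient.mk (R.mpow 1)) :=
        hmem
      rw [Ideal.comap_map_of_surjective _ Ideal.Quotient.mk_surjective, ← RingHom.ker_eq_comap_bot,
        Ideal.mk_ker] at h2
      exact h2
    obtain ⟨π, hπ⟩ := exists_tangentMapGen_ne (R.trunc 1) hk hT ht ht0
    apply hπ
    have h3 := congrArg (fun t : R.carrier →ₐ[Λ] (dual Λ k) => t x) (hfix (HomSet.map π (R.truncHom 1)))
    change π ((R.truncHom 1).1 (α x)) = π ((R.truncHom 1).1 x) at h3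
    change π.toAlgHom ((R.truncHom 1).1 (x - α x)) = 0
    rw [map_sub, map_sub, h3, sub_self]
  -- Step 3
  have hJ₀le : J₀ ≤ m.map α.toRingHom := by
    rw [hJ₀, Ideal.map_le_iff_le_comap]
    intro c hc
    rw [Ideal.mem_comap]
    have h1 : algebraMap Λ R.carrier c ∈ m := by
      rw [hm, CRing.mem_maximalIdeal_iff, AlgHom.commutes]
      exact hc
    have h2 : α (algebraMap Λ R.carrier c) = algebraMap Λ R.carrier c := α.commutes c
    rw [← h2]
    exact Ideal.mem_map_of_mem _ h1
  have hmle : m ≤ m.map α.toRingHom ⊔ m • m := by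
    intro x hx
    have h1 := step2 x hx
    have h2 : x = α x + (x - α x) := by ring
    rw [h2]
    refine Ideal.add_mem _ (Ideal.mem_sup_left (Ideal.mem_map_of_mem _ hx)) ?_
    rw [smul_eq_mul, ← pow_two]
    exact (sup_le_sup_right hJ₀le _) h1
  have hmle' : m ≤ m.map α.toRingHom :=
    Submodule.le_of_le_smul_of_le_jacobson_bot (IsNoetherian.noetherian m)
      (IsLocalRing.jacobson_eq_maximalIdeal _ bot_ne_top).ge hmle
  have hmeq : m.map α.toRingHom = m := by
    refine le_antisymm ?_ hmle'
    rw [Ideal.map_le_iff_le_comap]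
    exact fun x hx => hαm x hx
  -- surjectivity
  have hsurj : Function.Surjective α.toRingHom := by
    have := R.isAdicComplete
    have : IsHausdorff (m.map α.toRingHom) R.carrier := by
      rw [hmeq]; infer_instance
    apply surjective_of_mk_map_comp_surjective (I := m) α.toRingHom
    intro y
    obtain ⟨r₀, rfl⟩ := Ideal.Quotient.mk_surjective y
    obtain ⟨c, hc⟩ := hk (R.res r₀)
    refine ⟨algebraMap Λ R.carrier c, ?_⟩
    change Ideal.Quotient.mk _ (α (algebraMap Λ R.carrier c)) = Ideal.Quotient.mk _ r₀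
    rw [α.commutes, Ideal.Quotient.eq, hmeq, hm, CRing.mem_maximalIdeal_iff, map_sub, AlgHom.commutes,
      hc, sub_self]
  exact ⟨injective_of_surjective_endo α.toRingHom hsurj, hsurj⟩

end Groth.Agent.H61
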