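import Groth.Agent.H61.CRingBasic

set_option autoImplicit false
universe u v

open CategoryTheory

namespace Groth.Agent.H61

open ArtFun ArtFun.Art

variable {Λ : Type u} {k : Type u} [CommRing Λ] [Field k] [Algebra Λ k]

theorem family_ext {R : Type u} [CommRing R] [Algebra Λ R] {resR : R →ₐ[Λ] k} {F : Art Λ k ⥤ Type v}
    {ξ ξ' : Family R resR F} (h : ∀ A φ, ξ.app A φ = ξ'.app A φ) : ξ = ξ' := by
  cases ξ; cases ξ'
  congr
  funext A φ
  exact h A φ

variable {R : CRing Λ k} {F : Art Λ k ⥤ Type v}

theorem homSet_map_comp {R' : Type u} [CommRing R'] [Algebra Λ R'] {resR : R' →ₐ[Λ] k}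
    {A B C : Art Λ k} (f : A ⟶ B) (g : B ⟶ C) (φ : HomSet R' resR A) :
    HomSet.map (f ≫ g) φ = HomSet.map g (HomSet.map f φ) :=
  Subtype.ext (AlgHom.ext fun _ => rfl)

theorem family_app_factor (ξ : Family R.carrier R.res F) {A : Art Λ k} (n : ℕ) (f : R.trunc n ⟶ A) :
    ξ.app A (HomSet.map f (R.truncHom n)) = F.map f (ξ.toFormalElt.elt n) :=
  ξ.natural f (R.truncHom n)

theorem toFormalElt_injective :
    Function.Injective (fun ξ : Family R.carrier R.res F => ξ.toFormalElt) := by
  intro ξ ξ' h
  apply family_ext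
  intro A φ
  obtain ⟨n, f, rfl⟩ := exists_factor_trunc R φ
  rw [family_app_factor, family_app_factor]
  have : ξ.toFormalElt = ξ'.toFormalElt := h
  rw [this]

theorem formalElt_map_eq (u : FormalElt F R) {A : Art Λ k} {n n' : ℕ} (f : R.trunc n ⟶ A)
    (f' : R.trunc n' ⟶ A)
    (h : HomSet.map f (R.truncHom n) = HomSet.map f' (R.truncHom n')) :
    F.map f (u.elt n) = F.map f' (u.elt n') := by
  have h1 : truncMapLE R (le_max_left n n') ≫ f = truncMapLE R (le_max_right n n') ≫ f' := by
    apply trunc_hom_ext R (max n n')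
    rw [homSet_map_comp, homSet_map_comp, truncMapLE_truncHom, truncMapLE_truncHom, h]
  have h2 : F.map f (u.elt n) = F.map (truncMapLE R (le_max_left n n') ≫ f) (u.elt (max n n')) := by
    rw [F.map_comp]
    change _ = F.map f (F.map (truncMapLE R (le_max_left n n')) (u.elt (max n n')))
    rw [formalElt_compat_le]
  have h3 : F.map f' (u.elt n') = F.map (truncMapLE R (le_max_right n n') ≫ f') (u.elt (max n n')) := by
    rw [F.map_comp]
    change _ = F.map f' (F.map (truncMapLE R (le_max_right n n')) (u.elt (max n n')))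
    rw [formalElt_compat_le]
  rw [h2, h3, h1]

/-- The family attached to a formal element. -/
noncomputable def ofFormalElt (u : FormalElt F R) : Family R.carrier R.res F where
  app A φ := F.map (exists_factor_trunc R φ).choose_spec.choose (u.elt (exists_factor_trunc R φ).choose)
  natural {A B} g φ := by
    have h1 := (exists_factor_trunc R φ).choose_spec.choose_spec
    have h2 := (exists_factor_trunc R (HomSet.map g φ)).choose_spec.choose_spec
    set f := (exists_factor_trunc R φ).choose_spec.choose
    set f' := (exists_factor_trunc R (HomSet.map g φ)).choose_spec.choose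
    have : F.map g (F.map f (u.elt _)) = F.map (f ≫ g) (u.elt _) := by
      rw [F.map_comp]; rfl
    rw [this]
    apply formalElt_map_eq
    rw [h2, homSet_map_comp, h1]

theorem ofFormalElt_app (u : FormalElt F R) {A : Art Λ k} (n : ℕ) (f : R.trunc n ⟶ A) :
    (ofFormalElt u).app A (HomSet.map f (R.truncHom n)) = F.map f (u.elt n) := by
  change F.map _ (u.elt _) = _
  apply formalElt_map_eq
  exact (exists_factor_trunc R (HomSet.map f (R.truncHom n))).choose_spec.choose_spec

theorem toFormalElt_ofFormalElt (u : FormalElt F R) : (ofFormalElt u).toFormalElt = u := by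
  apply FormalElt.ext'
  intro n
  change (ofFormalElt u).app _ (R.truncHom n) = u.elt n
  have : R.truncHom n = HomSet.map (𝟙 (R.trunc n)) (R.truncHom n) :=
    Subtype.ext (AlgHom.ext fun _ => rfl)
  rw [this, ofFormalElt_app]
  simp

theorem toFormalElt_bijective :
    Function.Bijective (fun ξ : Family R.carrier R.res F => ξ.toFormalElt) :=
  ⟨toFormalElt_injective, fun u => ⟨ofFormalElt u, toFormalElt_ofFormalElt u⟩⟩

end Groth.Agent.H61
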