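import Mathlib.CategoryTheory.Limits.FunctorCategory.Basic
import Mathlib.CategoryTheory.Limits.Types.Pullbacks
import Mathlib.CategoryTheory.Limits.Types.Products
import Mathlib.CategoryTheory.Limits.Preserves.Shapes.Pullbacks
import Mathlib.CategoryTheory.Limits.Shapes.Pullback.IsPullback.Basic
import Mathlib.CategoryTheory.Limits.Preserves.Shapes.BinaryProducts

set_option autoImplicit false
universe w v u

open CategoryTheory CategoryTheory.Limits

namespace Groth.Agent.H61

variable {C : Type u} [Category.{w} C]

section Pullback

variable {F G H : C ⥤ Type v} (η : F ⟶ G) (θ : H ⟶ G)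

theorem isPullback_app (A : C) :
    IsPullback ((pullback.fst η θ).app A) ((pullback.snd η θ).app A) (η.app A) (θ.app A) :=
  Functor.map_isPullback ((evaluation C (Type v)).obj A) (IsPullback.of_hasPullback η θ)

theorem pullback_app_ext (A : C) {q q' : (pullback η θ).obj A}
    (h₁ : (pullback.fst η θ).app A q = (pullback.fst η θ).app A q')
    (h₂ : (pullback.snd η θ).app A q = (pullback.snd η θ).app A q') : q = q' :=
  Types.ext_of_isPullback (isPullback_app η θ A) h₁ h₂

theorem pullback_app_exists (A : C) (x : F.obj A) (y : H.obj A) (h : η.app A x = θ.app A y) :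
    ∃ q : (pullback η θ).obj A, (pullback.fst η θ).app A q = x ∧ (pullback.snd η θ).app A q = y :=
  Types.exists_of_isPullback (isPullback_app η θ A) x y h

end Pullback

section Prod

variable (F G : C ⥤ Type v)

theorem prod_app_bijective (A : C) :
    Function.Bijective (fun w : (F ⨯ G).obj A =>
      ((prod.fst (X := F) (Y := G)).app A w, (prod.snd (X := F) (Y := G)).app A w)) := by
  let E := (evaluation C (Type v)).obj A
  let e : (F ⨯ G).obj A ≅ F.obj A × G.obj A :=
    PreservesLimitPair.iso E F G ≪≫ Types.binaryProductIso (F.obj A) (G.obj A)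
  have he : ∀ w, e.hom w = ((prod.fst (X := F) (Y := G)).app A w, (prod.snd (X := F) (Y := G)).app A w) := by
    intro w
    apply Prod.ext
    · change (e.hom ≫ (↾(_root_.Prod.fst : F.obj A × G.obj A → F.obj A))) w = _
      have : e.hom ≫ (↾(_root_.Prod.fst : F.obj A × G.obj A → F.obj A)) = (prod.fst (X := F) (Y := G)).app A := by
        simp only [e, Iso.trans_hom, Category.assoc, PreservesLimitPair.iso_hom]
        rw [Types.binaryProductIso_hom_comp_fst]
        erw [prodComparison_fst]
        rfl
      rw [this]
    · change (e.hom ≫ (↾(_root_.Prod.snd : F.obj A × G.obj A → G.obj A))) w = _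
      have : e.hom ≫ (↾(_root_.Prod.snd : F.obj A × G.obj A → G.obj A)) = (prod.snd (X := F) (Y := G)).app A := by
        simp only [e, Iso.trans_hom, Category.assoc, PreservesLimitPair.iso_hom]
        rw [Types.binaryProductIso_hom_comp_snd]
        erw [prodComparison_snd]
        rfl
      rw [this]
  have hb : Function.Bijective e.hom := (isIso_iff_bijective e.hom).1 inferInstance
  convert hb using 1
  funext w
  exact (he w).symm

end Prod

end Groth.Agent.H61
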