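import Mathlib

set_option linter.style.haveILetI false
set_option linter.unusedSectionVars false

/-! Glueing complex for a flat ring map `R → S` and a finitely generated ideal `I` with
`R/I ≅ S/IS` (S7090). -/

universe u

open TensorProduct

namespace Groth.Agent.H61.GlueComplex

variable {R S : Type u} [CommRing R] [CommRing S] [Algebra R S]

section torsion

variable (I : Ideal R)
  (hq : Function.Bijective
      (Ideal.quotientMap (Ideal.map (algebraMap R S) I) (algebraMap R S) Ideal.le_comap_map))

include hq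

/-- elements of `IS` kill `- ⊗ t` for `I`-torsion `t`. -/
lemma tmul_eq_zero_of_mem_map {T : Type u} [AddCommGroup T] [Module R T]
    (hT : ∀ a ∈ I, ∀ t : T, a • t = 0) (w : S) (hw : w ∈ Ideal.map (algebraMap R S) I) (t : T) :
    w ⊗ₜ[R] t = 0 := by
  unfold Ideal.map at hw
  induction hw using Submodule.span_induction with
  | mem x hx =>
    obtain ⟨a, ha, rfl⟩ := hx
    rw [Algebra.algebraMap_eq_smul_one, TensorProduct.smul_tmul, hT a ha, tmul_zero]
  | zero => rw [zero_tmul]
  | add x y _ _ hx hy => rw [add_tmul, hx, hy, add_zero]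
  | smul s x _ hx =>
    rw [smul_eq_mul, ← smul_eq_mul, ← TensorProduct.smul_tmul', hx, smul_zero]

/-- For an `I`-torsion module `T`, the map `T → S ⊗ T` is bijective. -/
theorem mk_bijective_of_torsion_one {T : Type u} [AddCommGroup T] [Module R T]
    (hT : ∀ a ∈ I, ∀ t : T, a • t = 0) :
    Function.Bijective (TensorProduct.mk R S T 1) := by
  constructor
  · rw [injective_iff_map_eq_zero]
    intro t ht
    -- the `R`-linear bijection `R/I → S/IS`
    let L : (R ⧸ I) →ₗ[R] (S ⧸ Ideal.map (algebraMap R S) I) :=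
      { toFun := Ideal.quotientMap (Ideal.map (algebraMap R S) I) (algebraMap R S) Ideal.le_comap_map
        map_add' := map_add _
        map_smul' := by
          intro r x
          obtain ⟨y, rfl⟩ := Ideal.Quotient.mk_surjective x
          rw [RingHom.id_apply, Algebra.smul_def, Ideal.Quotient.algebraMap_eq, ← map_mul,
            Ideal.quotientMap_mk, Ideal.quotientMap_mk, map_mul, Algebra.smul_def,
            IsScalarTower.algebraMap_apply R S (S ⧸ _), Ideal.Quotient.algebraMap_eq, map_mul] }
    let Le : (R ⧸ I) ≃ₗ[R] (S ⧸ Ideal.map (algebraMap R S) I) := LinearEquiv.ofBijective L hq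
    let q : S →ₗ[R] (S ⧸ Ideal.map (algebraMap R S) I) :=
      (Ideal.Quotient.mkₐ R (Ideal.map (algebraMap R S) I)).toLinearMap
    have h1 : (LinearMap.rTensor T q) ((1 : S) ⊗ₜ[R] t) = 0 := by
      have : (1 : S) ⊗ₜ[R] t = 0 := ht
      rw [this, map_zero]
    rw [LinearMap.rTensor_tmul] at h1
    have h2 : q 1 = Le (Ideal.Quotient.mk I 1) := by
      change Ideal.Quotient.mk _ 1 = Ideal.quotientMap (Ideal.map (algebraMap R S) I) (algebraMap R S)
        Ideal.le_comap_map (Ideal.Quotient.mk I 1)
      rw [Ideal.quotientMap_mk]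
      simp only [map_one]
    rw [h2] at h1
    have h3 : (LinearEquiv.rTensor T Le) ((Ideal.Quotient.mk I 1) ⊗ₜ[R] t) = 0 := by
      rw [LinearEquiv.rTensor_tmul]
      exact h1
    have h4 : (Ideal.Quotient.mk I 1) ⊗ₜ[R] t = (0 : (R ⧸ I) ⊗[R] T) := by
      apply (LinearEquiv.rTensor T Le).injective
      rw [h3, map_zero]
    have h5 := congrArg (TensorProduct.quotTensorEquivQuotSMul T I) h4
    rw [TensorProduct.quotTensorEquivQuotSMul_mk_tmul, map_zero, one_smul,
      Submodule.Quotient.mk_eq_zero] at h5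
    have h6 : (I • (⊤ : Submodule R T)) = ⊥ := by
      rw [eq_bot_iff]
      intro y hy
      refine Submodule.smul_induction_on hy ?_ ?_
      · intro a ha t _
        rw [hT a ha]; exact Submodule.zero_mem _
      · intro x y hx hy
        exact Submodule.add_mem _ hx hy
    rw [h6] at h5
    exact h5
  · intro y
    induction y using TensorProduct.induction_on with
    | zero => exact ⟨0, map_zero _⟩
    | tmul s t =>
      obtain ⟨rbar, hr⟩ := hq.2 (Ideal.Quotient.mk _ s)
      obtain ⟨r, rfl⟩ := Ideal.Quotient.mk_surjective rbar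
      rw [Ideal.quotientMap_mk, Ideal.Quotient.eq] at hr
      refine ⟨r • t, ?_⟩
      have h1 := tmul_eq_zero_of_mem_map I hq hT _ hr t
      rw [sub_tmul, sub_eq_zero] at h1
      rw [← h1, TensorProduct.mk_apply, Algebra.algebraMap_eq_smul_one, TensorProduct.smul_tmul]
    | add x y hx hy =>
      obtain ⟨a, rfl⟩ := hx
      obtain ⟨b, rfl⟩ := hy
      exact ⟨a + b, map_add _ _ _⟩

/-- For an `I^n`-torsion module `T` and flat `S`, the map `T → S ⊗ T` is bijective. -/
theorem mk_bijective_of_torsion_pow [Module.Flat R S] (n : ℕ) :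
    ∀ (T : Type u) [AddCommGroup T] [Module R T], (∀ a ∈ I ^ n, ∀ t : T, a • t = 0) →
      Function.Bijective (TensorProduct.mk R S T 1) := by
  induction n with
  | zero =>
    intro T _ _ hT
    have h0 : ∀ t : T, t = 0 := by
      intro t
      have := hT 1 (by rw [pow_zero, Ideal.one_eq_top]; trivial) t
      rwa [one_smul] at this
    constructor
    · intro a b _
      rw [h0 a, h0 b]
    · intro y
      refine ⟨0, ?_⟩
      rw [map_zero]
      induction y using TensorProduct.induction_on with
      | zero => rfl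
      | tmul s t => rw [h0 t, tmul_zero]
      | add x y hx hy => rw [← hx, ← hy, add_zero]
  | succ n ih =>
    intro T _ _ hT
    let T' : Submodule R T := I • (⊤ : Submodule R T)
    have hT' : ∀ a ∈ I ^ n, ∀ t : T', a • t = 0 := by
      intro a ha t
      apply Subtype.ext
      rw [Submodule.coe_smul, Submodule.coe_zero]
      obtain ⟨t, ht⟩ := t
      change a • t = 0
      refine Submodule.smul_induction_on ht ?_ ?_
      · intro b hb t _
        rw [← mul_smul]
        exact hT _ (by rw [pow_succ]; exact Ideal.mul_mem_mul ha hb) t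
      · intro x y hx hy
        rw [smul_add, hx, hy, add_zero]
    have hQ : ∀ a ∈ I, ∀ t : T ⧸ T', a • t = 0 := by
      intro a ha t
      obtain ⟨t, rfl⟩ := Submodule.Quotient.mk_surjective _ t
      rw [← Submodule.Quotient.mk_smul, Submodule.Quotient.mk_eq_zero]
      exact Submodule.smul_mem_smul ha (Submodule.mem_top (R := R) (M := T))
    have b1 := ih T' hT'
    have b2 := mk_bijective_of_torsion_one I hq hQ
    have hex : Function.Exact (LinearMap.lTensor S T'.subtype) (LinearMap.lTensor S T'.mkQ) :=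
      lTensor_exact S (LinearMap.exact_subtype_mkQ T') (Submodule.mkQ_surjective T')
    have hinj : Function.Injective (LinearMap.lTensor S T'.subtype) :=
      Module.Flat.lTensor_preserves_injective_linearMap _ T'.subtype_injective
    constructor
    · rw [injective_iff_map_eq_zero]
      intro t ht
      have h1 : (TensorProduct.mk R S (T ⧸ T') 1) (T'.mkQ t) = 0 := by
        have : (LinearMap.lTensor S T'.mkQ) ((1 : S) ⊗ₜ[R] t) = 0 := by
          have h : (1 : S) ⊗ₜ[R] t = 0 := ht
          rw [h, map_zero]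
        rwa [LinearMap.lTensor_tmul] at this
      have h2 : T'.mkQ t = 0 := by
        apply b2.1
        rw [h1, map_zero]
      rw [Submodule.mkQ_apply, Submodule.Quotient.mk_eq_zero] at h2
      have h3 : (TensorProduct.mk R S T' 1) ⟨t, h2⟩ = 0 := by
        apply hinj
        rw [map_zero, TensorProduct.mk_apply, LinearMap.lTensor_tmul]
        exact ht
      have h4 : (⟨t, h2⟩ : T') = 0 := by
        apply b1.1
        rw [h3, map_zero]
      exact congrArg Subtype.val h4
    · intro y
      obtain ⟨tq, htq⟩ := b2.2 (LinearMap.lTensor S T'.mkQ y)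
      obtain ⟨t, rfl⟩ := Submodule.Quotient.mk_surjective _ tq
      have h1 : (LinearMap.lTensor S T'.mkQ) (y - (1 : S) ⊗ₜ[R] t) = 0 := by
        rw [map_sub, ← htq, LinearMap.lTensor_tmul]
        exact sub_self _
      obtain ⟨z, hz⟩ := (hex _).1 h1
      obtain ⟨t', rfl⟩ := b1.2 z
      refine ⟨t + t', ?_⟩
      rw [map_add, TensorProduct.mk_apply, TensorProduct.mk_apply]
      rw [TensorProduct.mk_apply, LinearMap.lTensor_tmul] at hz
      rw [Submodule.subtype_apply] at hz
      rw [hz]
      abel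

end torsion

section main

variable (I : Ideal R)
  (hq : Function.Bijective
      (Ideal.quotientMap (Ideal.map (algebraMap R S) I) (algebraMap R S) Ideal.le_comap_map))

lemma smul_eq_zero_of_mem_span {t : ℕ} (d : Fin t → R) {M : Type u} [AddCommGroup M] [Module R M]
    (m : M) (h : ∀ i, d i • m = 0) (a : R) (ha : a ∈ Ideal.span (Set.range d)) : a • m = 0 := by
  unfold Ideal.span at ha
  induction ha using Submodule.span_induction with
  | mem x hx => obtain ⟨i, rfl⟩ := hx; exact h i
  | zero => rw [zero_smul]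
  | add x y _ _ hx hy => rw [add_smul, hx, hy, add_zero]
  | smul r x _ hx => rw [smul_eq_mul, mul_smul, hx, smul_zero]

lemma exists_pow_le {t : ℕ} (f : Fin t → R) (e : ℕ) :
    ∃ n, (Ideal.span (Set.range f)) ^ n ≤ Ideal.span (Set.range fun i => f i ^ e) := by
  apply Ideal.exists_pow_le_of_le_radical_of_fg
  · rw [Ideal.span_le]
    rintro _ ⟨i, rfl⟩
    exact ⟨e, Ideal.subset_span ⟨i, rfl⟩⟩
  · exact Submodule.fg_span (Set.finite_range f)

include hq

/-- injectivity part of the glueing complex -/
theorem eq_zero_of_tmul_eq_zero [Module.Flat R S] {t : ℕ} (d : Fin t → R) (n : ℕ)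
    (hn : I ^ n ≤ Ideal.span (Set.range d)) {M : Type u} [AddCommGroup M] [Module R M] (m : M)
    (h1 : (1 : S) ⊗ₜ[R] m = 0) (h2 : ∀ i, d i • m = 0) : m = 0 := by
  let T : Submodule R M := Submodule.span R {m}
  have hT : ∀ a ∈ I ^ n, ∀ y : T, a • y = 0 := by
    intro a ha y
    apply Subtype.ext
    rw [Submodule.coe_smul, Submodule.coe_zero]
    obtain ⟨y, hy⟩ := y
    obtain ⟨r, rfl⟩ := Submodule.mem_span_singleton.1 hy
    change a • r • m = 0
    rw [smul_comm, smul_eq_zero_of_mem_span d m h2 a (hn ha), smul_zero]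
  have b := mk_bijective_of_torsion_pow I hq n T hT
  have hinj : Function.Injective (LinearMap.lTensor S T.subtype) :=
    Module.Flat.lTensor_preserves_injective_linearMap _ T.subtype_injective
  have hm : m ∈ T := Submodule.mem_span_singleton_self m
  have h3 : (TensorProduct.mk R S T 1) ⟨m, hm⟩ = 0 := by
    apply hinj
    rw [map_zero, TensorProduct.mk_apply, LinearMap.lTensor_tmul]
    exact h1
  have h4 : (⟨m, hm⟩ : T) = 0 := by
    apply b.1
    rw [h3, map_zero]
  exact congrArg Subtype.val h4

/-- The core of the exactness in the middle. -/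
theorem exists_of_compatible [Module.Flat R S] {t : ℕ} (d : Fin t → R) (n : ℕ)
    (hn : I ^ n ≤ Ideal.span (Set.range d)) {M : Type u} [AddCommGroup M] [Module R M]
    (m' : Fin t → M) (hc : ∀ i j, d j • m' i = d i • m' j) (x : S ⊗[R] M)
    (hx : ∀ i, d i • x = (1 : S) ⊗ₜ[R] m' i) :
    ∃ μ : M, (1 : S) ⊗ₜ[R] μ = x ∧ ∀ i, d i • μ = m' i := by
  classical
  -- the universal extension
  let W : Submodule R (M × R) := Submodule.span R (Set.range fun j => (-(m' j), d j))
  let inl : M →ₗ[R] (M × R) ⧸ W := W.mkQ ∘ₗ LinearMap.inl R M R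
  let e : (M × R) ⧸ W := W.mkQ (0, 1)
  have he : ∀ j, d j • e = inl (m' j) := by
    intro j
    change d j • W.mkQ (0, 1) = W.mkQ (m' j, 0)
    rw [← map_smul, ← sub_eq_zero, ← map_sub, Submodule.mkQ_apply, Submodule.Quotient.mk_eq_zero]
    apply Submodule.subset_span
    refine ⟨j, ?_⟩
    ext <;> simp
  have hgen : ∀ ε : (M × R) ⧸ W, ∃ (m : M) (r : R), ε = inl m + r • e := by
    intro ε
    obtain ⟨⟨m, r⟩, rfl⟩ := Submodule.Quotient.mk_surjective _ ε
    refine ⟨m, r, ?_⟩
    change W.mkQ (m, r) = W.mkQ (m, 0) + r • W.mkQ (0, 1)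
    rw [← map_smul, ← map_add]
    congr 1
    ext <;> simp
  -- the map to `S ⊗ M`
  let ρ₀' : (M × R) →ₗ[R] S ⊗[R] M :=
    LinearMap.coprod (TensorProduct.mk R S M 1) (LinearMap.toSpanSingleton R _ x)
  have hW : W ≤ LinearMap.ker ρ₀' := by
    rw [Submodule.span_le]
    rintro _ ⟨j, rfl⟩
    change ρ₀' (-(m' j), d j) = 0
    rw [LinearMap.coprod_apply, LinearMap.toSpanSingleton_apply, hx, map_neg, TensorProduct.mk_apply]
    exact neg_add_cancel _
  let ρ₀ : (M × R) ⧸ W →ₗ[R] S ⊗[R] M := W.liftQ ρ₀' hW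
  have hρ₀inl : ∀ m, ρ₀ (inl m) = (1 : S) ⊗ₜ[R] m := by
    intro m
    change ρ₀' (m, 0) = _
    rw [LinearMap.coprod_apply, map_zero, add_zero, TensorProduct.mk_apply]
  -- `inl` is injective
  have hinl : Function.Injective inl := by
    rw [injective_iff_map_eq_zero]
    intro k hk
    have h1 : (1 : S) ⊗ₜ[R] k = 0 := by rw [← hρ₀inl, hk, map_zero]
    have h2 : ∀ i, d i • k = 0 := by
      intro i
      have hk' : (k, (0 : R)) ∈ W := by
        rw [← Submodule.Quotient.mk_eq_zero]
        exact hk
      obtain ⟨c, hc'⟩ := (Submodule.mem_span_range_iff_exists_fun R).1 hk'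
      have hc1 : ∑ j, c j • (-(m' j)) = k := by
        have := congrArg Prod.fst hc'
        simpa [Prod.fst_sum] using this
      have hc2 : ∑ j, c j * d j = 0 := by
        have := congrArg Prod.snd hc'
        simpa [Prod.snd_sum] using this
      rw [← hc1, Finset.smul_sum]
      have : ∀ j, d i • c j • (-(m' j)) = -((c j * d j) • m' i) := by
        intro j
        rw [smul_neg, smul_neg, smul_comm, hc j i, mul_smul]
      simp_rw [this]
      rw [Finset.sum_neg_distrib, ← Finset.sum_smul, hc2, zero_smul, neg_zero]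
    exact eq_zero_of_tmul_eq_zero I hq d n hn k h1 h2
  -- base change
  let ι : S ⊗[R] M →ₗ[R] S ⊗[R] ((M × R) ⧸ W) := LinearMap.lTensor S inl
  let ρ : S ⊗[R] ((M × R) ⧸ W) →ₗ[S] S ⊗[R] M := LinearMap.liftBaseChange S ρ₀
  have hρι : ∀ y, ρ (ι y) = y := by
    intro y
    induction y using TensorProduct.induction_on with
    | zero => rw [map_zero, map_zero]
    | tmul s m =>
      change ρ (s ⊗ₜ[R] inl m) = _
      rw [LinearMap.liftBaseChange_tmul, hρ₀inl, TensorProduct.smul_tmul', smul_eq_mul, mul_one]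
    | add a b ha hb => rw [map_add, map_add, ha, hb]
  let z : S ⊗[R] ((M × R) ⧸ W) := (1 : S) ⊗ₜ[R] e - ι x
  have hz : ∀ j, d j • z = 0 := by
    intro j
    change d j • ((1 : S) ⊗ₜ[R] e - ι x) = 0
    rw [smul_sub, ← map_smul, hx, TensorProduct.smul_tmul', TensorProduct.smul_tmul, he]
    change (1 : S) ⊗ₜ[R] inl (m' j) - (1 : S) ⊗ₜ[R] inl (m' j) = 0
    exact sub_self _
  -- `z` comes from the `d`-torsion of `E`
  let δ : ((M × R) ⧸ W) →ₗ[R] (Fin t → (M × R) ⧸ W) :=
    LinearMap.pi (fun j => d j • LinearMap.id)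
  have hδz : (LinearMap.lTensor S δ) z = 0 := by
    apply (TensorProduct.piRight R R S (fun _ : Fin t => (M × R) ⧸ W)).injective
    rw [map_zero]
    funext j
    have key : ∀ w : S ⊗[R] ((M × R) ⧸ W),
        (TensorProduct.piRight R R S (fun _ : Fin t => (M × R) ⧸ W))
          ((LinearMap.lTensor S δ) w) j = d j • w := by
      intro w
      induction w using TensorProduct.induction_on with
      | zero => simp
      | tmul s ε =>
        rw [LinearMap.lTensor_tmul, TensorProduct.piRight_apply, TensorProduct.piRightHom_tmul]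
        change s ⊗ₜ[R] (d j • ε) = _
        rw [TensorProduct.tmul_smul]
      | add a b ha hb =>
        rw [map_add, map_add, Pi.add_apply, ha, hb, smul_add]
    rw [key, hz]
    rfl
  have hex := Module.Flat.lTensor_exact S (LinearMap.exact_subtype_ker_map δ)
  obtain ⟨z', hz'⟩ := (hex z).1 hδz
  have hEJ : ∀ a ∈ I ^ n, ∀ y : LinearMap.ker δ, a • y = 0 := by
    intro a ha y
    apply Subtype.ext
    rw [Submodule.coe_smul, Submodule.coe_zero]
    obtain ⟨y, hy⟩ := y
    refine smul_eq_zero_of_mem_span d y ?_ a (hn ha)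
    intro i
    have := congrFun (LinearMap.mem_ker.1 hy) i
    exact this
  obtain ⟨e'', he''⟩ := (mk_bijective_of_torsion_pow I hq n _ hEJ).2 z'
  have hze : z = (1 : S) ⊗ₜ[R] (e'' : (M × R) ⧸ W) := by
    rw [← hz', ← he'', TensorProduct.mk_apply, LinearMap.lTensor_tmul]
    rfl
  have hde'' : ∀ i, d i • (e'' : (M × R) ⧸ W) = 0 := by
    intro i
    exact congrFun (LinearMap.mem_ker.1 e''.2) i
  -- the quotient `E / M`
  let T := ((M × R) ⧸ W) ⧸ LinearMap.range inl
  have hTt : ∀ a ∈ I ^ n, ∀ τ : T, a • τ = 0 := by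
    intro a ha τ
    obtain ⟨ε, rfl⟩ := Submodule.Quotient.mk_surjective _ τ
    obtain ⟨m, r, rfl⟩ := hgen ε
    rw [← Submodule.Quotient.mk_smul, Submodule.Quotient.mk_eq_zero]
    have hae' : ∀ b ∈ Ideal.span (Set.range d), b • e ∈ LinearMap.range inl := by
      intro b hb
      unfold Ideal.span at hb
      induction hb using Submodule.span_induction with
      | mem x hx => obtain ⟨i, rfl⟩ := hx; rw [he]; exact ⟨_, rfl⟩
      | zero => rw [zero_smul]; exact Submodule.zero_mem _
      | add x y _ _ hx hy => rw [add_smul]; exact Submodule.add_mem _ hx hy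
      | smul r x _ hx => rw [smul_eq_mul, mul_smul]; exact Submodule.smul_mem _ _ hx
    have hae : a • e ∈ LinearMap.range inl := hae' a (hn ha)
    rw [smul_add, smul_comm]
    exact Submodule.add_mem _ ⟨a • m, map_smul _ _ _⟩ (Submodule.smul_mem _ _ hae)
  have hTinj := (mk_bijective_of_torsion_pow I hq n T hTt).1
  have hdiff : (1 : S) ⊗ₜ[R] (e - (e'' : (M × R) ⧸ W)) = ι x := by
    rw [tmul_sub, ← hze]
    change (1 : S) ⊗ₜ[R] e - ((1 : S) ⊗ₜ[R] e - ι x) = ι x
    abel
  have hq0 : (LinearMap.range inl).mkQ (e - (e'' : (M × R) ⧸ W)) = 0 := by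
    apply hTinj
    rw [map_zero, TensorProduct.mk_apply]
    have h1 : (LinearMap.lTensor S (LinearMap.range inl).mkQ) (ι x) = 0 := by
      change (LinearMap.lTensor S (LinearMap.range inl).mkQ) ((LinearMap.lTensor S inl) x) = 0
      rw [← LinearMap.comp_apply, ← LinearMap.lTensor_comp]
      have : (LinearMap.range inl).mkQ ∘ₗ inl = 0 := by
        ext m
        simp
      rw [this, LinearMap.lTensor_zero, LinearMap.zero_apply]
    rw [← hdiff, LinearMap.lTensor_tmul] at h1
    exact h1
  rw [Submodule.mkQ_apply, Submodule.Quotient.mk_eq_zero] at hq0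
  obtain ⟨μ, hμ⟩ := hq0
  refine ⟨μ, ?_, ?_⟩
  · have h1 : ι ((1 : S) ⊗ₜ[R] μ) = ι x := by
      change (1 : S) ⊗ₜ[R] inl μ = ι x
      rw [hμ, hdiff]
    have := congrArg ρ h1
    rwa [hρι, hρι] at this
  · intro i
    apply hinl
    rw [map_smul, hμ, smul_sub, he, hde'', sub_zero]

end main

end Groth.Agent.H61.GlueComplex
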