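import Groth.Agent.H61.GlueFlatMap
import Groth.Agent.H53.GlueFT
import Mathlib

set_option linter.style.haveILetI false

/-! Glueing pairs detect flat + finitely presented ring maps (S10723). -/

universe u

open TensorProduct

namespace Groth.Agent.H61

/-- The kernel of a surjective ring map `p : B → C` is finitely generated as soon as `p ∘ g` is
finitely presented for some map `g : A → B` of finite type. -/
lemma ker_fg_of_comp {A B C : Type*} [CommRing A] [CommRing B] [CommRing C]
    (g : A →+* B) (p : B →+* C) (hp : Function.Surjective p) (hg : g.FiniteType)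
    (hpg : (p.comp g).FinitePresentation) : (RingHom.ker p).FG := by
  have hpfp : p.FinitePresentation := RingHom.FinitePresentation.of_comp_finiteType g hpg hg
  letI := p.toAlgebra
  haveI : Algebra.FinitePresentation B C := hpfp
  exact Algebra.FinitePresentation.ker_fG_of_surjective (Algebra.ofId B C) hp

variable {R R' : Type u} [CommRing R] [CommRing R'] [Algebra R R'] {f : R}

/-- Step A: the `f`-localization of an ideal is finitely generated => there is a finitely generated
sub-ideal with `f`-power torsion quotient. -/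
lemma exists_finset_pow_smul_mem {P : Type u} [CommRing P] [Algebra R P] (I : Ideal P)
    (hI : (I.map (algebraMap P (Localization.Away (algebraMap R P f)))).FG) :
    ∃ s₁ : Finset I, ∀ b : I, ∃ k : ℕ, f ^ k • b ∈
      (Submodule.span P (s₁ : Set I)).restrictScalars R := by
  classical
  haveI : Module.Finite (Localization.Away (algebraMap R P f))
      (I.map (algebraMap P (Localization.Away (algebraMap R P f)))) := Module.Finite.iff_fg.2 hI
  obtain ⟨t, ht⟩ := (inferInstance : Module.Finite (Localization.Away (algebraMap R P f))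
      (I.map (algebraMap P (Localization.Away (algebraMap R P f))))).fg_top
  refine ⟨IsLocalizedModule.finsetIntegerMultiple (Submonoid.powers (algebraMap R P f))
    (Algebra.idealMap (Localization.Away (algebraMap R P f)) I) t, fun b => ?_⟩
  obtain ⟨⟨_, n₁, rfl⟩, hn₁⟩ := multiple_mem_span_of_mem_localization_span
    (Submonoid.powers (algebraMap R P f)) (Localization.Away (algebraMap R P f))
    (t : Set (I.map (algebraMap P (Localization.Away (algebraMap R P f)))))
    (Algebra.idealMap (Localization.Away (algebraMap R P f)) I b) (by rw [ht]; trivial)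
  rw [Submonoid.smul_def, ← map_smul] at hn₁
  obtain ⟨⟨_, n₂, rfl⟩, hn₂⟩ := IsLocalizedModule.smul_mem_finsetIntegerMultiple_span
    (Submonoid.powers (algebraMap R P f))
    (Algebra.idealMap (Localization.Away (algebraMap R P f)) I) _ t hn₁
  rw [Submonoid.smul_def] at hn₂
  refine ⟨n₂ + n₁, ?_⟩
  have e : f ^ (n₂ + n₁) • b = (algebraMap R P f) ^ n₂ • ((algebraMap R P f) ^ n₁ • b) := by
    rw [← mul_smul, ← pow_add, ← map_pow, algebraMap_smul]
  rw [e]
  exact hn₂

lemma map_ker_fg {P B : Type u} [CommRing P] [Algebra R P] [CommRing B] [Algebra R B]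
    [Algebra.FiniteType R P] (π : P →ₐ[R] B) (hπ : Function.Surjective π)
    (h1 : (Localization.awayMap (algebraMap R B) f).FinitePresentation) :
    ((RingHom.ker π.toRingHom).map
      (algebraMap P (Localization.Away (algebraMap R P f)))).FG := by
  have hT : Submonoid.map π.toRingHom (Submonoid.powers (algebraMap R P f)) =
      Submonoid.powers (algebraMap R B f) := by
    rw [Submonoid.map_powers]
    congr 1
    exact π.commutes f
  rw [← IsLocalization.ker_map (Localization.Away (algebraMap R B f)) π.toRingHom hT]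
  refine ker_fg_of_comp (Localization.awayMap (algebraMap R P) f) _ ?_ ?_ ?_
  · haveI : IsLocalization (Submonoid.map π.toRingHom (Submonoid.powers (algebraMap R P f)))
        (Localization.Away (algebraMap R B f)) := by
      rw [hT]; infer_instance
    exact IsLocalization.map_surjective_of_surjective _ _ _ hπ
  · exact RingHom.finiteType_localizationPreserves.away (algebraMap R P) f _ _
      (RingHom.finiteType_algebraMap.2 inferInstance)
  · convert h1 using 1
    apply IsLocalization.ringHom_ext (Submonoid.powers f)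
    ext r
    simp [Localization.awayMap, IsLocalization.Away.map, IsLocalization.map_eq]

/-- Core: the kernel of a surjection from a finitely presented, projective-as-module algebra onto a
flat algebra is finitely generated, if it is so after inverting `f` and after `R' ⊗ -`. -/
theorem ker_fg_of_glue (hq : EtGlue.QuotPowBijective R R' f) {P B : Type u} [CommRing P]
    [Algebra R P] [CommRing B] [Algebra R B] [Algebra.FinitePresentation R P]
    [Module.Projective R P] [Module.Flat R B] (π : P →ₐ[R] B) (hπ : Function.Surjective π)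
    (h1 : (Localization.awayMap (algebraMap R B) f).FinitePresentation)
    (h2 : Algebra.FinitePresentation R' (R' ⊗[R] B)) : (RingHom.ker π.toRingHom).FG := by
  classical
  have hA := exists_finset_pow_smul_mem (f := f) (RingHom.ker π.toRingHom)
    (map_ker_fg π hπ h1)
  set I : Ideal P := RingHom.ker π.toRingHom with hI
  obtain ⟨s₁, hs₁⟩ := hA
  -- the tensor map
  let π' : R' ⊗[R] P →ₐ[R'] R' ⊗[R] B := Algebra.TensorProduct.map (AlgHom.id R' R') π
  have hπ'l : ∀ t, π' t = LinearMap.lTensor R' π.toLinearMap t := by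
    intro t
    induction t using TensorProduct.induction_on with
    | zero => simp
    | tmul r' p => simp [π']
    | add x y hx hy => rw [map_add, map_add, hx, hy]
  have hπ' : Function.Surjective π' := by
    intro y
    obtain ⟨t, ht⟩ := LinearMap.lTensor_surjective R' (show Function.Surjective π.toLinearMap from hπ) y
    exact ⟨t, (hπ'l t).trans ht⟩
  obtain ⟨T, hT⟩ := Algebra.FinitePresentation.ker_fG_of_surjective π' hπ'
  -- `ι : R' ⊗ I → R' ⊗ P`
  let ι : R' ⊗[R] I →ₗ[R] R' ⊗[R] P := LinearMap.lTensor R' (I.subtype.restrictScalars R)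
  have hι : Function.Injective ι := by
    have h0 := (Groth.Agent.H9.isZero_tor_one_iff_of_surjective R' π.toLinearMap hπ).1
      (Groth.Agent.H9.isZero_tor_one_of_flat_right R' B)
    let e : I ≃ₗ[R] LinearMap.ker π.toLinearMap :=
      { toFun := fun x => ⟨x.1, x.2⟩
        invFun := fun x => ⟨x.1, x.2⟩
        map_add' := fun _ _ => rfl
        map_smul' := fun _ _ => rfl
        left_inv := fun _ => rfl
        right_inv := fun _ => rfl }
    have hcomp : ι = (LinearMap.lTensor R' (LinearMap.ker π.toLinearMap).subtype) ∘ₗ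
        (LinearEquiv.lTensor R' e).toLinearMap := by
      apply TensorProduct.ext'
      intro r' x
      rfl
    rw [hcomp]
    exact h0.comp (LinearEquiv.lTensor R' e).injective
  have hex : ∀ t : R' ⊗[R] P, π' t = 0 → t ∈ LinearMap.range ι := by
    intro t ht
    rw [hπ'l] at ht
    have hexact : Function.Exact (I.subtype.restrictScalars R) π.toLinearMap := by
      intro y
      constructor
      · intro hy
        exact ⟨⟨y, hy⟩, rfl⟩
      · rintro ⟨x, rfl⟩
        exact x.2
    exact (lTensor_exact R' hexact hπ t).1 ht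
  -- the submodules
  let sp : Finset I → Submodule R I := fun s => (Submodule.span P (s : Set I)).restrictScalars R
  have sp_mono : ∀ s s' : Finset I, s ⊆ s' → sp s ≤ sp s' := by
    intro s s' hss x hx
    exact Submodule.span_mono (by exact_mod_cast hss) hx
  let V : Submodule R I → Submodule R (R' ⊗[R] P) :=
    fun N => LinearMap.range (ι ∘ₗ LinearMap.lTensor R' N.subtype)
  have V_tmul : ∀ (N : Submodule R I) (r' : R') (b : I), b ∈ N → r' ⊗ₜ[R] (b : P) ∈ V N :=
    fun N r' b hb => ⟨r' ⊗ₜ ⟨b, hb⟩, rfl⟩
  have V_le : ∀ (N : Submodule R I) (T : Submodule R (R' ⊗[R] P)),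
      (∀ (r' : R') (b : I), b ∈ N → r' ⊗ₜ[R] (b : P) ∈ T) → V N ≤ T := by
    rintro N T hT _ ⟨y, rfl⟩
    induction y using TensorProduct.induction_on with
    | zero => simp
    | tmul r' b => exact hT r' b.1 b.2
    | add x y hx hy => rw [map_add]; exact T.add_mem hx hy
  have V_mono : ∀ N N' : Submodule R I, N ≤ N' → V N ≤ V N' :=
    fun N N' h => V_le N _ (fun r' b hb => V_tmul N' r' b (h hb))
  have hb1 : ∀ t : R' ⊗[R] I, ∃ s : Finset I, ι t ∈ V (sp s) := by
    intro t
    induction t using TensorProduct.induction_on with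
    | zero => exact ⟨∅, by simp⟩
    | tmul r' b => exact ⟨{b}, V_tmul _ r' b (Submodule.subset_span (by simp))⟩
    | add x y hx hy =>
      obtain ⟨s, hs⟩ := hx
      obtain ⟨s', hs'⟩ := hy
      refine ⟨s ∪ s', ?_⟩
      rw [map_add]
      exact add_mem (V_mono _ _ (sp_mono _ _ Finset.subset_union_left) hs)
        (V_mono _ _ (sp_mono _ _ Finset.subset_union_right) hs')
  have hb2 : ∀ T : Finset (R' ⊗[R] P), (∀ t ∈ T, t ∈ LinearMap.range ι) →
      ∃ s : Finset I, ∀ t ∈ T, t ∈ V (sp s) := by
    intro T
    induction T using Finset.induction_on with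
    | empty => exact fun _ => ⟨∅, by simp⟩
    | insert t T _ ih =>
      intro hT
      obtain ⟨s, hs⟩ := ih (fun x hx => hT x (Finset.mem_insert_of_mem hx))
      obtain ⟨y, hy⟩ := hT t (Finset.mem_insert_self _ _)
      obtain ⟨s', hs'⟩ := hb1 y
      rw [hy] at hs'
      refine ⟨s ∪ s', fun x hx => ?_⟩
      rcases Finset.mem_insert.1 hx with rfl | hx
      · exact V_mono _ _ (sp_mono _ _ Finset.subset_union_right) hs'
      · exact V_mono _ _ (sp_mono _ _ Finset.subset_union_left) (hs x hx)
  have hTker : ∀ t ∈ T, π' t = 0 := by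
    intro t ht
    have : t ∈ RingHom.ker π'.toRingHom := by rw [← hT]; exact Submodule.subset_span ht
    exact this
  obtain ⟨s₂, hs₂⟩ := hb2 T (fun t ht => hex t (hTker t ht))
  -- `V (sp s)` is stable under multiplication
  have hVmul : ∀ (s : Finset I) (c x : R' ⊗[R] P), x ∈ V (sp s) → c * x ∈ V (sp s) := by
    intro s c x hx
    induction c using TensorProduct.induction_on with
    | zero => simp
    | add c c' hc hc' => rw [add_mul]; exact add_mem hc hc'
    | tmul r' a =>
      obtain ⟨y, rfl⟩ := hx
      induction y using TensorProduct.induction_on with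
      | zero => simp
      | add y y' hy hy' =>
        rw [map_add, mul_add]
        exact add_mem hy hy'
      | tmul r'' n =>
        have e : (r' ⊗ₜ[R] a) * (ι ∘ₗ LinearMap.lTensor R' (sp s).subtype) (r'' ⊗ₜ[R] n) =
            (r' * r'') ⊗ₜ[R] (((a • (n : I) : I)) : P) := by
          show (r' ⊗ₜ[R] a) * (r'' ⊗ₜ[R] ((n : I) : P)) = _
          rw [Algebra.TensorProduct.tmul_mul_tmul]
          rfl
        rw [e]
        exact V_tmul _ _ _ ((Submodule.span P (s : Set I)).smul_mem a n.2)
  have hkerV : ∀ x : R' ⊗[R] P, π' x = 0 → x ∈ V (sp (s₁ ∪ s₂)) := by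
    intro x hx0
    have hx : x ∈ Ideal.span (T : Set (R' ⊗[R] P)) := by rw [hT]; exact hx0
    clear hx0
    induction hx using Submodule.span_induction with
    | mem x hx => exact V_mono _ _ (sp_mono _ _ Finset.subset_union_right) (hs₂ x hx)
    | zero => exact zero_mem _
    | add x y _ _ hx hy => exact add_mem hx hy
    | smul c x _ hx => exact hVmul _ c x hx
  have key : sp (s₁ ∪ s₂) = ⊤ := by
    apply Groth.Agent.H53.submodule_eq_top_of_glue hq
    · intro b
      obtain ⟨n, hn⟩ := hs₁ b
      exact ⟨n, sp_mono _ _ Finset.subset_union_left hn⟩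
    · intro b
      have hb0 : π' ((1 : R') ⊗ₜ[R] (b : P)) = 0 := by
        rw [hπ'l, LinearMap.lTensor_tmul]
        have : π.toLinearMap (b : P) = 0 := b.2
        rw [this, tmul_zero]
      obtain ⟨y, hy⟩ := hkerV _ hb0
      refine ⟨y, hι ?_⟩
      exact hy
  have htop : Submodule.span P ((s₁ ∪ s₂ : Finset I) : Set I) = ⊤ := by
    rw [eq_top_iff]
    intro b _
    have hb : b ∈ sp (s₁ ∪ s₂) := by rw [key]; trivial
    exact hb
  exact (Submodule.fg_top I).1 ⟨s₁ ∪ s₂, htop⟩

theorem fp_core (hq : EtGlue.QuotPowBijective R R' f) (B : Type u) [CommRing B] [Algebra R B]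
    [Module.Flat R B] [Algebra.FiniteType R B]
    (h1 : (Localization.awayMap (algebraMap R B) f).FinitePresentation)
    (h2 : Algebra.FinitePresentation R' (R' ⊗[R] B)) : Algebra.FinitePresentation R B := by
  obtain ⟨n, π, hπ⟩ := Algebra.FiniteType.iff_quotient_mvPolynomial''.1 ‹Algebra.FiniteType R B›
  exact Algebra.FinitePresentation.of_surjective hπ (ker_fg_of_glue hq π hπ h1 h2)

attribute [local instance] Algebra.TensorProduct.rightAlgebra in
theorem fp_of_glue (hq : EtGlue.QuotPowBijective R R' f) {A B : Type u} [CommRing A] [Algebra R A]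
    [CommRing B] [Algebra R B] (φ : A →ₐ[R] B) (hfl : φ.toRingHom.Flat)
    (h1 : (Localization.awayMap φ.toRingHom (algebraMap R A f)).FinitePresentation)
    (h2 : (Algebra.TensorProduct.map (AlgHom.id R R') φ).toRingHom.FinitePresentation) :
    φ.toRingHom.FinitePresentation := by
  classical
  have hft : φ.toRingHom.FiniteType :=
    Groth.Agent.H53.finiteType_of_glue hq φ (RingHom.FiniteType.of_finitePresentation h1)
      (RingHom.FiniteType.of_finitePresentation h2)
  letI : Algebra A B := φ.toRingHom.toAlgebra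
  haveI : IsScalarTower R A B := IsScalarTower.of_algebraMap_eq (fun r => (φ.commutes r).symm)
  haveI : Module.Flat A B := hfl
  haveI : Algebra.FiniteType A B := hft
  have hq' := quotPowBijective_tensor hq A
  have hbc : Algebra.FinitePresentation (R' ⊗[R] A) ((R' ⊗[R] A) ⊗[A] B) := by
    letI : Algebra (R' ⊗[R] A) (R' ⊗[R] B) :=
      (Algebra.TensorProduct.map (AlgHom.id R R') φ).toRingHom.toAlgebra
    letI : Algebra A (R' ⊗[R] B) := ((algebraMap B (R' ⊗[R] B)).comp (algebraMap A B)).toAlgebra
    haveI : IsScalarTower A B (R' ⊗[R] B) := IsScalarTower.of_algebraMap_eq (fun _ => rfl)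
    haveI : IsScalarTower A (R' ⊗[R] A) (R' ⊗[R] B) := IsScalarTower.of_algebraMap_eq (fun a => by
      show (1 : R') ⊗ₜ[R] φ a = Algebra.TensorProduct.map (AlgHom.id R R') φ ((1 : R') ⊗ₜ[R] a)
      simp)
    haveI : IsScalarTower R (R' ⊗[R] A) (R' ⊗[R] B) := IsScalarTower.of_algebraMap_eq (fun r => by
      show algebraMap R (R' ⊗[R] B) r = Algebra.TensorProduct.map (AlgHom.id R R') φ (algebraMap R _ r)
      simp)
    haveI : IsScalarTower R' (R' ⊗[R] A) (R' ⊗[R] B) := IsScalarTower.of_algebraMap_eq (fun r => by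
      show algebraMap R' (R' ⊗[R] B) r = Algebra.TensorProduct.map (AlgHom.id R R') φ (algebraMap R' _ r)
      simp [Algebra.TensorProduct.algebraMap_apply])
    haveI hpo : Algebra.IsPushout A B (R' ⊗[R] A) (R' ⊗[R] B) :=
      (Algebra.IsPushout.comp_iff R A R' (S' := R' ⊗[R] A) (T := B) (T' := R' ⊗[R] B)).1 inferInstance
    haveI hpo' : Algebra.IsPushout A (R' ⊗[R] A) B (R' ⊗[R] B) := hpo.symm
    haveI : Algebra.FinitePresentation (R' ⊗[R] A) (R' ⊗[R] B) := h2
    exact Algebra.FinitePresentation.equiv
      (Algebra.IsPushout.equiv A (R' ⊗[R] A) B (R' ⊗[R] B)).symm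
  exact fp_core hq' B h1 hbc

theorem glue_flat_fp_iff (h : EtGlue.IsGlueingPair R R' f) {A B : Type u} [CommRing A]
    [Algebra R A] [CommRing B] [Algebra R B] (hA : EtGlue.IsGlueable R R' f A) (φ : A →ₐ[R] B) :
    (φ.toRingHom.Flat ∧ φ.toRingHom.FinitePresentation) ↔
      ((Localization.awayMap φ.toRingHom (algebraMap R A f)).Flat ∧
        (Localization.awayMap φ.toRingHom (algebraMap R A f)).FinitePresentation) ∧
      ((Algebra.TensorProduct.map (AlgHom.id R R') φ).toRingHom.Flat ∧
        (Algebra.TensorProduct.map (AlgHom.id R R') φ).toRingHom.FinitePresentation) := by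
  constructor
  · rintro ⟨hfl, hfp⟩
    have hfl' := (glue_flat_iff h hA φ).1 hfl
    exact ⟨⟨hfl'.1, RingHom.finitePresentation_localizationPreserves.away _ _ _ _ hfp⟩,
      ⟨hfl'.2, Groth.Agent.H53.tensorMap_of_isStableUnderBaseChange
        RingHom.finitePresentation_isStableUnderBaseChange φ hfp⟩⟩
  · rintro ⟨⟨hfl1, hfp1⟩, ⟨hfl2, hfp2⟩⟩
    have hfl := (glue_flat_iff h hA φ).2 ⟨hfl1, hfl2⟩
    exact ⟨hfl, fp_of_glue h.1 φ hfl hfp1 hfp2⟩

attribute [local instance] Algebra.TensorProduct.rightAlgebra in
theorem formallyUnramified_of_glue (hq : EtGlue.QuotPowBijective R R' f) {A B : Type u} [CommRing A]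
    [Algebra R A] [CommRing B] [Algebra R B] (φ : A →ₐ[R] B)
    (h1 : (Localization.awayMap φ.toRingHom (algebraMap R A f)).FormallyUnramified)
    (h2 : (Algebra.TensorProduct.map (AlgHom.id R R') φ).toRingHom.FormallyUnramified) :
    φ.toRingHom.FormallyUnramified := by
  classical
  letI : Algebra A B := φ.toRingHom.toAlgebra
  haveI : IsScalarTower R A B := IsScalarTower.of_algebraMap_eq (fun r => (φ.commutes r).symm)
  show Algebra.FormallyUnramified A B
  -- torsion
  have htors : ∀ ω : Ω[B⁄A], ∃ n : ℕ, (algebraMap R B f) ^ n • ω = 0 := by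
    letI : Algebra (Localization.Away (algebraMap R A f))
        (Localization.Away (φ.toRingHom (algebraMap R A f))) :=
      (Localization.awayMap φ.toRingHom (algebraMap R A f)).toAlgebra
    haveI : IsScalarTower A (Localization.Away (algebraMap R A f))
        (Localization.Away (φ.toRingHom (algebraMap R A f))) :=
      IsScalarTower.of_algebraMap_eq (fun a => by
        have e : (Localization.awayMap φ.toRingHom (algebraMap R A f)).comp (algebraMap A _) =
          (algebraMap B (Localization.Away (φ.toRingHom (algebraMap R A f)))).comp φ.toRingHom :=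
          IsLocalization.map_comp _
        exact (RingHom.congr_fun e a).symm)
    haveI : Algebra.FormallyUnramified (Localization.Away (algebraMap R A f))
        (Localization.Away (φ.toRingHom (algebraMap R A f))) := h1
    haveI : IsLocalization (Algebra.algebraMapSubmonoid B (Submonoid.powers (algebraMap R A f)))
        (Localization.Away (φ.toRingHom (algebraMap R A f))) := by
      have e : Algebra.algebraMapSubmonoid B (Submonoid.powers (algebraMap R A f)) =
          Submonoid.powers (φ.toRingHom (algebraMap R A f)) := by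
        show Submonoid.map (algebraMap A B) _ = _
        rw [Submonoid.map_powers]
        rfl
      rw [e]
      exact (inferInstance : IsLocalization.Away (φ.toRingHom (algebraMap R A f))
        (Localization.Away (φ.toRingHom (algebraMap R A f))))
    intro ω
    have h0 : (KaehlerDifferential.map A (Localization.Away (algebraMap R A f)) B
        (Localization.Away (φ.toRingHom (algebraMap R A f)))).restrictScalars A ω = 0 :=
      Subsingleton.elim _ _
    obtain ⟨⟨_, n, rfl⟩, hc⟩ := (IsLocalizedModule.eq_zero_iff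
      (Submonoid.powers (algebraMap R A f)) _).1 h0
    refine ⟨n, ?_⟩
    rw [Submonoid.smul_def] at hc
    rw [← hc, IsScalarTower.algebraMap_apply R A B, ← map_pow, algebraMap_smul]
  -- base change
  have hbc : Subsingleton ((R' ⊗[R] B) ⊗[B] Ω[B⁄A]) := by
    letI : Algebra (R' ⊗[R] A) (R' ⊗[R] B) :=
      (Algebra.TensorProduct.map (AlgHom.id R R') φ).toRingHom.toAlgebra
    letI : Algebra A (R' ⊗[R] B) := ((algebraMap B (R' ⊗[R] B)).comp (algebraMap A B)).toAlgebra
    haveI : IsScalarTower A B (R' ⊗[R] B) := IsScalarTower.of_algebraMap_eq (fun _ => rfl)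
    haveI : IsScalarTower A (R' ⊗[R] A) (R' ⊗[R] B) := IsScalarTower.of_algebraMap_eq (fun a => by
      show (1 : R') ⊗ₜ[R] φ a = Algebra.TensorProduct.map (AlgHom.id R R') φ ((1 : R') ⊗ₜ[R] a)
      simp)
    haveI : IsScalarTower R (R' ⊗[R] A) (R' ⊗[R] B) := IsScalarTower.of_algebraMap_eq (fun r => by
      show algebraMap R (R' ⊗[R] B) r = Algebra.TensorProduct.map (AlgHom.id R R') φ (algebraMap R _ r)
      simp)
    haveI : IsScalarTower R' (R' ⊗[R] A) (R' ⊗[R] B) := IsScalarTower.of_algebraMap_eq (fun r => by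
      show algebraMap R' (R' ⊗[R] B) r = Algebra.TensorProduct.map (AlgHom.id R R') φ (algebraMap R' _ r)
      simp [Algebra.TensorProduct.algebraMap_apply])
    haveI hpo : Algebra.IsPushout A B (R' ⊗[R] A) (R' ⊗[R] B) :=
      (Algebra.IsPushout.comp_iff R A R' (S' := R' ⊗[R] A) (T := B) (T' := R' ⊗[R] B)).1 inferInstance
    haveI hpo' : Algebra.IsPushout A (R' ⊗[R] A) B (R' ⊗[R] B) := hpo.symm
    haveI : Algebra.FormallyUnramified (R' ⊗[R] A) (R' ⊗[R] B) := h2
    exact (KaehlerDifferential.tensorKaehlerEquiv A (R' ⊗[R] A) B (R' ⊗[R] B)).toEquiv.subsingleton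
  have hbij := Groth.Agent.H9.glue_tmul_bijective (quotPowBijective_tensor hq B) Ω[B⁄A] htors
  exact ⟨⟨fun x y => hbij.1 (Subsingleton.elim _ _)⟩⟩

theorem glue_etale_iff (h : EtGlue.IsGlueingPair R R' f) {A B : Type u} [CommRing A]
    [Algebra R A] [CommRing B] [Algebra R B] (hA : EtGlue.IsGlueable R R' f A) (φ : A →ₐ[R] B) :
    φ.toRingHom.Etale ↔ (Localization.awayMap φ.toRingHom (algebraMap R A f)).Etale ∧
      (Algebra.TensorProduct.map (AlgHom.id R R') φ).toRingHom.Etale := by
  constructor
  · intro he
    exact ⟨RingHom.Etale.propertyIsLocal.localizationAwayPreserves _ _ _ _ he,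
      Groth.Agent.H53.tensorMap_of_isStableUnderBaseChange RingHom.Etale.isStableUnderBaseChange φ he⟩
  · rintro ⟨he1, he2⟩
    rw [RingHom.Etale.iff_flat_and_formallyUnramified] at he1 he2 ⊢
    obtain ⟨hfl, hfp⟩ := (glue_flat_fp_iff h hA φ).2 ⟨⟨he1.1, he1.2.2⟩, ⟨he2.1, he2.2.2⟩⟩
    exact ⟨hfl, formallyUnramified_of_glue h.1 φ he1.2.1 he2.2.1, hfp⟩

end Groth.Agent.H61
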