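import Groth.Agent.H53.GluePair

set_option linter.style.haveILetI false

/-! Glueing pairs detect finite ring maps (S12187). -/

universe u

open TensorProduct

namespace Groth.Agent.H61

variable {R R' : Type u} [CommRing R] [CommRing R'] [Algebra R R'] {f : R}
  {A B : Type u} [CommRing A] [Algebra R A] [CommRing B] [Algebra R B]

theorem finite_of_glue (hRR' : EtGlue.QuotPowBijective R R' f) (φ : A →ₐ[R] B)
    (h1 : (Localization.awayMap φ.toRingHom (algebraMap R A f)).Finite)
    (h2 : (Algebra.TensorProduct.map (AlgHom.id R R') φ).toRingHom.Finite) :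
    φ.toRingHom.Finite := by
  classical
  letI : Algebra A B := φ.toRingHom.toAlgebra
  haveI : IsScalarTower R A B := IsScalarTower.of_algebraMap_eq (fun r => (φ.commutes r).symm)
  -- step a
  have ha : ∃ s₁ : Finset B, ∀ b : B, ∃ n : ℕ,
      (algebraMap R A f) ^ n • b ∈ Submodule.span A (s₁ : Set B) := by
    letI : Algebra (Localization.Away (algebraMap R A f))
        (Localization.Away (φ.toRingHom (algebraMap R A f))) :=
      (Localization.awayMap φ.toRingHom (algebraMap R A f)).toAlgebra
    haveI : IsScalarTower A (Localization.Away (algebraMap R A f))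
        (Localization.Away (φ.toRingHom (algebraMap R A f))) :=
      IsScalarTower.of_algebraMap_eq (fun a => by
        have e : (Localization.awayMap φ.toRingHom (algebraMap R A f)).comp (algebraMap A _) =
          (algebraMap B (Localization.Away (φ.toRingHom (algebraMap R A f)))).comp φ.toRingHom :=
          IsLocalization.map_comp _
        exact (RingHom.congr_fun e a).symm)
    have hfin : Module.Finite (Localization.Away (algebraMap R A f))
        (Localization.Away (φ.toRingHom (algebraMap R A f))) := h1
    obtain ⟨t, ht⟩ := hfin.fg_top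
    haveI : IsLocalization ((Submonoid.powers (algebraMap R A f)).map (algebraMap A B))
        (Localization.Away (φ.toRingHom (algebraMap R A f))) := by
      rw [Submonoid.map_powers]
      exact (inferInstance : IsLocalization.Away (φ.toRingHom (algebraMap R A f))
        (Localization.Away (φ.toRingHom (algebraMap R A f))))
    refine ⟨IsLocalization.finsetIntegerMultiple
      ((Submonoid.powers (algebraMap R A f)).map (algebraMap A B)) t, fun b => ?_⟩
    obtain ⟨⟨_, n₁, rfl⟩, hn₁⟩ := multiple_mem_span_of_mem_localization_span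
      (Submonoid.powers (algebraMap R A f)) (Localization.Away (algebraMap R A f))
      (t : Set (Localization.Away (φ.toRingHom (algebraMap R A f))))
      (algebraMap B _ b) (by rw [ht]; trivial)
    rw [Submonoid.smul_def] at hn₁
    have e1 : (algebraMap R A f) ^ n₁ • algebraMap B (Localization.Away (φ.toRingHom (algebraMap R A f))) b
        = algebraMap B _ ((algebraMap R A f) ^ n₁ • b) := by
      rw [Algebra.smul_def, Algebra.smul_def, map_mul, ← IsScalarTower.algebraMap_apply]
    rw [e1] at hn₁
    obtain ⟨⟨_, n₂, rfl⟩, hn₂⟩ := IsLocalization.smul_mem_finsetIntegerMultiple_span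
      (Submonoid.powers (algebraMap R A f))
      (Localization.Away (φ.toRingHom (algebraMap R A f))) _ t hn₁
    rw [Submonoid.smul_def] at hn₂
    refine ⟨n₂ + n₁, ?_⟩
    rw [pow_add, mul_smul]
    exact hn₂
  -- step b
  let sp : Finset B → Submodule R B := fun s => (Submodule.span A (s : Set B)).restrictScalars R
  have sp_mono : ∀ s s' : Finset B, s ⊆ s' → sp s ≤ sp s' := by
    intro s s' hss x hx
    exact Submodule.span_mono (by exact_mod_cast hss) hx
  let W : Submodule R B → Submodule R (R' ⊗[R] B) :=
    fun N => LinearMap.range (LinearMap.lTensor R' N.subtype)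
  have W_tmul : ∀ (N : Submodule R B) (r' : R') (b : B), b ∈ N → r' ⊗ₜ[R] b ∈ W N :=
    fun N r' b hb => ⟨r' ⊗ₜ ⟨b, hb⟩, by simp⟩
  have W_le : ∀ (N : Submodule R B) (T : Submodule R (R' ⊗[R] B)),
      (∀ r' b, b ∈ N → r' ⊗ₜ[R] b ∈ T) → W N ≤ T := by
    rintro N T hT _ ⟨y, rfl⟩
    induction y using TensorProduct.induction_on with
    | zero => simp
    | tmul r' b => simpa using hT r' b b.2
    | add x y hx hy => rw [map_add]; exact T.add_mem hx hy
  have W_mono : ∀ N N' : Submodule R B, N ≤ N' → W N ≤ W N' :=
    fun N N' h => W_le N _ (fun r' b hb => W_tmul N' r' b (h hb))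
  have hb1 : ∀ t : R' ⊗[R] B, ∃ s : Finset B, t ∈ W (sp s) := by
    intro t
    induction t using TensorProduct.induction_on with
    | zero => exact ⟨∅, zero_mem _⟩
    | tmul r' b => exact ⟨{b}, W_tmul _ r' b (Submodule.subset_span (by simp))⟩
    | add x y hx hy =>
      obtain ⟨s, hs⟩ := hx
      obtain ⟨s', hs'⟩ := hy
      exact ⟨s ∪ s', add_mem (W_mono _ _ (sp_mono _ _ Finset.subset_union_left) hs)
        (W_mono _ _ (sp_mono _ _ Finset.subset_union_right) hs')⟩
  have hb2 : ∀ T : Finset (R' ⊗[R] B), ∃ s : Finset B, ∀ t ∈ T, t ∈ W (sp s) := by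
    intro T
    induction T using Finset.induction_on with
    | empty => exact ⟨∅, by simp⟩
    | insert t T _ ih =>
      obtain ⟨s, hs⟩ := ih
      obtain ⟨s', hs'⟩ := hb1 t
      refine ⟨s ∪ s', fun x hx => ?_⟩
      rcases Finset.mem_insert.1 hx with rfl | hx
      · exact W_mono _ _ (sp_mono _ _ Finset.subset_union_right) hs'
      · exact W_mono _ _ (sp_mono _ _ Finset.subset_union_left) (hs x hx)
  obtain ⟨s₁, hs₁⟩ := ha
  letI algT : Algebra (R' ⊗[R] A) (R' ⊗[R] B) :=
    (Algebra.TensorProduct.map (AlgHom.id R R') φ).toRingHom.toAlgebra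
  obtain ⟨T, hT⟩ := (h2 : Module.Finite (R' ⊗[R] A) (R' ⊗[R] B)).fg_top
  obtain ⟨s₂, hs₂⟩ := hb2 T
  -- `W (sp s)` is stable under `R' ⊗ A`
  have hWsmul : ∀ (s : Finset B) (c : R' ⊗[R] A) (x : R' ⊗[R] B), x ∈ W (sp s) →
      c • x ∈ W (sp s) := by
    intro s c x hx
    have hcx : c • x = Algebra.TensorProduct.map (AlgHom.id R R') φ c * x := rfl
    rw [hcx]
    clear hcx
    induction c using TensorProduct.induction_on with
    | zero => simp
    | add c c' hc hc' => rw [map_add, add_mul]; exact add_mem hc hc'
    | tmul r' a =>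
      obtain ⟨y, rfl⟩ := hx
      induction y using TensorProduct.induction_on with
      | zero => simp
      | add y y' hy hy' =>
        rw [map_add, mul_add]
        exact add_mem hy hy'
      | tmul r'' n =>
        have e : Algebra.TensorProduct.map (AlgHom.id R R') φ (r' ⊗ₜ[R] a) *
            (LinearMap.lTensor R' (sp s).subtype) (r'' ⊗ₜ[R] n) =
            (r' * r'') ⊗ₜ[R] (a • (n : B)) := by
          simp [Algebra.smul_def]
          rfl
        rw [e]
        exact W_tmul _ _ _ ((Submodule.span A (s : Set B)).smul_mem a n.2)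
  have hWtop : ∀ x : R' ⊗[R] B, x ∈ W (sp (s₁ ∪ s₂)) := by
    intro x
    have hx : x ∈ Submodule.span (R' ⊗[R] A) (T : Set (R' ⊗[R] B)) := by rw [hT]; trivial
    induction hx using Submodule.span_induction with
    | mem x hx => exact W_mono _ _ (sp_mono _ _ Finset.subset_union_right) (hs₂ x hx)
    | zero => exact zero_mem _
    | add x y _ _ hx hy => exact add_mem hx hy
    | smul c x _ hx => exact hWsmul _ c x hx
  have key : sp (s₁ ∪ s₂) = ⊤ := by
    apply Groth.Agent.H53.submodule_eq_top_of_glue hRR'
    · intro b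
      obtain ⟨n, hn⟩ := hs₁ b
      refine ⟨n, ?_⟩
      have e : f ^ n • b = (algebraMap R A f) ^ n • b := by
        rw [← map_pow, algebraMap_smul]
      rw [e]
      exact sp_mono _ _ Finset.subset_union_left hn
    · intro b
      exact hWtop ((1 : R') ⊗ₜ[R] b)
  refine ⟨⟨s₁ ∪ s₂, ?_⟩⟩
  rw [eq_top_iff]
  intro b _
  have hb : b ∈ sp (s₁ ∪ s₂) := by rw [key]; trivial
  exact hb

attribute [local instance] Algebra.TensorProduct.rightAlgebra in
theorem glue_finite_iff (hRR' : EtGlue.QuotPowBijective R R' f) (φ : A →ₐ[R] B) :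
    φ.toRingHom.Finite ↔ (Localization.awayMap φ.toRingHom (algebraMap R A f)).Finite ∧
      (Algebra.TensorProduct.map (AlgHom.id R R') φ).toRingHom.Finite :=
  ⟨fun h => ⟨RingHom.finite_localizationPreserves.away _ _ _ _ h,
    Groth.Agent.H53.tensorMap_of_isStableUnderBaseChange RingHom.finite_isStableUnderBaseChange φ h⟩,
    fun h => finite_of_glue hRR' φ h.1 h.2⟩

end Groth.Agent.H61
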