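import Groth.Agent.H9.GlueFlat
import Groth.Agent.H53.GluePair
import Groth.Agent.S2004
import Groth.Agent.S2005

set_option linter.style.haveILetI false

/-! Glueing pairs: base change of a glueing pair along a glueable algebra; flat maps (S12188). -/

universe u

open TensorProduct

namespace Groth.Agent.H61

attribute [local instance] Algebra.TensorProduct.rightAlgebra

variable {R R' : Type u} [CommRing R] [CommRing R'] [Algebra R R'] {f : R}

lemma tensor_algebraMap_pow_mul (A : Type u) [CommRing A] [Algebra R A] (n : ℕ) (w : R' ⊗[R] A) :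
    algebraMap A (R' ⊗[R] A) (algebraMap R A f ^ n) * w = f ^ n • w := by
  rw [← map_pow, ← IsScalarTower.algebraMap_apply, ← Algebra.smul_def]

theorem quotPowBijective_tensor (hq : EtGlue.QuotPowBijective R R' f) (A : Type u) [CommRing A]
    [Algebra R A] : EtGlue.QuotPowBijective A (R' ⊗[R] A) (algebraMap R A f) := by
  intro n hn
  have hJ : ∀ w : R' ⊗[R] A, f ^ n • w ∈
      Ideal.map (algebraMap A (R' ⊗[R] A)) (Ideal.span {algebraMap R A f ^ n}) := by
    intro w
    rw [← tensor_algebraMap_pow_mul]
    exact Ideal.mul_mem_right _ _ (Ideal.mem_map_of_mem _ (Ideal.mem_span_singleton_self _))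
  constructor
  · rw [injective_iff_map_eq_zero]
    intro x hx
    obtain ⟨a, rfl⟩ := Ideal.Quotient.mk_surjective x
    rw [Ideal.quotientMap_mk, Ideal.Quotient.eq_zero_iff_mem, Ideal.map_span, Set.image_singleton,
      Ideal.mem_span_singleton'] at hx
    obtain ⟨y, hy⟩ := hx
    rw [mul_comm, tensor_algebraMap_pow_mul] at hy
    have hQ : ∀ q : A ⧸ Ideal.span {algebraMap R A f ^ n}, f ^ n • q = 0 := by
      intro q
      obtain ⟨b, rfl⟩ := Ideal.Quotient.mk_surjective q
      rw [Algebra.smul_def, IsScalarTower.algebraMap_apply R A (A ⧸ _), Ideal.Quotient.algebraMap_eq,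
        ← map_mul, Ideal.Quotient.eq_zero_iff_mem, map_pow]
      exact Ideal.mul_mem_right _ _ (Ideal.mem_span_singleton_self _)
    have hQ' : ∀ z : R' ⊗[R] (A ⧸ Ideal.span {algebraMap R A f ^ n}), f ^ n • z = 0 := by
      intro z
      induction z using TensorProduct.induction_on with
      | zero => simp
      | tmul r' q => rw [TensorProduct.smul_tmul', TensorProduct.smul_tmul, hQ, tmul_zero]
      | add x y hx hy => rw [smul_add, hx, hy, add_zero]
    have hinj := (Groth.Agent.H9.glue_tmul_bijective hq (A ⧸ Ideal.span {algebraMap R A f ^ n})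
      (fun q => ⟨n, hQ q⟩)).1
    apply hinj
    show (1 : R') ⊗ₜ[R] (Ideal.Quotient.mk _ a) = (1 : R') ⊗ₜ[R] (0 : A ⧸ _)
    rw [tmul_zero]
    have e : (1 : R') ⊗ₜ[R] (Ideal.Quotient.mk (Ideal.span {algebraMap R A f ^ n}) a) =
        LinearMap.lTensor R' ((Ideal.Quotient.mkₐ R (Ideal.span {algebraMap R A f ^ n})).toLinearMap)
          (algebraMap A (R' ⊗[R] A) a) := rfl
    rw [e, ← hy, map_smul, hQ']
  · intro x
    obtain ⟨y, rfl⟩ := Ideal.Quotient.mk_surjective x
    suffices h : ∃ a : A, y - algebraMap A (R' ⊗[R] A) a ∈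
        Ideal.map (algebraMap A (R' ⊗[R] A)) (Ideal.span {algebraMap R A f ^ n}) by
      obtain ⟨a, ha⟩ := h
      refine ⟨Ideal.Quotient.mk _ a, ?_⟩
      rw [Ideal.quotientMap_mk]
      exact (Ideal.Quotient.eq.2 ha).symm
    induction y using TensorProduct.induction_on with
    | zero => exact ⟨0, by simp⟩
    | tmul r' a =>
      obtain ⟨r, s', hr⟩ := Groth.Agent.H9.glue_exists_lift hq hn r'
      refine ⟨r • a, ?_⟩
      have e : r' ⊗ₜ[R] a - algebraMap A (R' ⊗[R] A) (r • a) = f ^ n • (s' ⊗ₜ[R] a) := by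
        rw [Algebra.TensorProduct.right_algebraMap_apply, hr, add_tmul, ← Algebra.smul_def,
          Algebra.algebraMap_eq_smul_one, TensorProduct.smul_tmul, TensorProduct.smul_tmul']
        abel
      rw [e]
      exact hJ _
    | add x y hx hy =>
      obtain ⟨a, ha⟩ := hx
      obtain ⟨b, hb⟩ := hy
      refine ⟨a + b, ?_⟩
      have e : x + y - algebraMap A (R' ⊗[R] A) (a + b) =
          (x - algebraMap A (R' ⊗[R] A) a) + (y - algebraMap A (R' ⊗[R] A) b) := by
        rw [map_add]; abel
      rw [e]
      exact add_mem ha hb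

theorem isGlueingPair_tensor (h : EtGlue.IsGlueingPair R R' f) (A : Type u) [CommRing A]
    [Algebra R A] (hA : EtGlue.IsGlueable R R' f A) :
    EtGlue.IsGlueingPair A (R' ⊗[R] A) (algebraMap R A f) := by
  rw [Groth.Agent.S2004.result A (R' ⊗[R] A) (algebraMap R A f) (quotPowBijective_tensor h.1 A)]
  obtain ⟨h1, h2⟩ := ((Groth.Agent.S2005.result R R' f h.1 A).1).1 hA
  refine ⟨?_, ?_⟩
  · rintro x ⟨n, hn⟩ hx
    refine h1 x ⟨n, ?_⟩ hx
    rw [Algebra.smul_def, map_pow]
    exact hn
  · rintro x' ⟨n, hn⟩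
    rw [← map_pow, tensor_algebraMap_pow_mul] at hn
    obtain ⟨m, ⟨k, hk⟩, hm⟩ := h2 x' ⟨n, hn⟩
    refine ⟨m, ⟨k, ?_⟩, hm⟩
    rw [← map_pow, ← Algebra.smul_def]
    exact hk

theorem flat_of_glue (h : EtGlue.IsGlueingPair R R' f) {A B : Type u} [CommRing A] [Algebra R A]
    [CommRing B] [Algebra R B] (hA : EtGlue.IsGlueable R R' f A) (φ : A →ₐ[R] B)
    (h1 : (Localization.awayMap φ.toRingHom (algebraMap R A f)).Flat)
    (h2 : (Algebra.TensorProduct.map (AlgHom.id R R') φ).toRingHom.Flat) :
    φ.toRingHom.Flat := by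
  classical
  letI : Algebra A B := φ.toRingHom.toAlgebra
  haveI : IsScalarTower R A B := IsScalarTower.of_algebraMap_eq (fun r => (φ.commutes r).symm)
  have hpair := isGlueingPair_tensor h A hA
  -- the localization
  haveI hloc : Module.Flat A (LocalizedModule (Submonoid.powers (algebraMap R A f)) B) := by
    letI : Algebra (Localization.Away (algebraMap R A f))
        (Localization.Away (φ.toRingHom (algebraMap R A f))) :=
      (Localization.awayMap φ.toRingHom (algebraMap R A f)).toAlgebra
    haveI : IsScalarTower A (Localization.Away (algebraMap R A f))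
        (Localization.Away (φ.toRingHom (algebraMap R A f))) :=
      IsScalarTower.of_algebraMap_eq (fun a => by
        have e : (Localization.awayMap φ.toRingHom (algebraMap R A f)).comp (algebraMap A _) =
          (algebraMap B (Localization.Away (φ.toRingHom (algebraMap R A f)))).comp φ.toRingHom :=
          IsLocalization.map_comp _
        exact (RingHom.congr_fun e a).symm)
    haveI hfl : Module.Flat (Localization.Away (algebraMap R A f))
        (Localization.Away (φ.toRingHom (algebraMap R A f))) := h1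
    haveI : Module.Flat A (Localization.Away (algebraMap R A f)) :=
      IsLocalization.flat _ (Submonoid.powers (algebraMap R A f))
    haveI : Module.Flat A (Localization.Away (φ.toRingHom (algebraMap R A f))) :=
      Module.Flat.trans A (Localization.Away (algebraMap R A f)) _
    haveI : IsLocalization (Algebra.algebraMapSubmonoid B (Submonoid.powers (algebraMap R A f)))
        (Localization.Away (φ.toRingHom (algebraMap R A f))) := by
      have e : Algebra.algebraMapSubmonoid B (Submonoid.powers (algebraMap R A f)) =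
          Submonoid.powers (φ.toRingHom (algebraMap R A f)) := by
        show Submonoid.map (algebraMap A B) _ = _
        rw [Submonoid.map_powers]
        rfl
      rw [e]
      exact (inferInstance : IsLocalization.Away (φ.toRingHom (algebraMap R A f))
        (Localization.Away (φ.toRingHom (algebraMap R A f))))
    exact Module.Flat.of_linearEquiv
      (IsLocalizedModule.iso (Submonoid.powers (algebraMap R A f))
        (IsScalarTower.toAlgHom A B (Localization.Away (φ.toRingHom (algebraMap R A f)))).toLinearMap)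
  -- the base change
  haveI hbc : Module.Flat (R' ⊗[R] A) ((R' ⊗[R] A) ⊗[A] B) := by
    letI : Algebra (R' ⊗[R] A) (R' ⊗[R] B) :=
      (Algebra.TensorProduct.map (AlgHom.id R R') φ).toRingHom.toAlgebra
    letI : Algebra A (R' ⊗[R] B) := ((algebraMap B (R' ⊗[R] B)).comp (algebraMap A B)).toAlgebra
    haveI : IsScalarTower A B (R' ⊗[R] B) := IsScalarTower.of_algebraMap_eq (fun _ => rfl)
    haveI : IsScalarTower A (R' ⊗[R] A) (R' ⊗[R] B) := IsScalarTower.of_algebraMap_eq (fun a => by
      show (1 : R') ⊗ₜ[R] φ a = Algebra.TensorProduct.map (AlgHom.id R R') φ ((1 : R') ⊗ₜ[R] a)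
      simp)
    haveI : IsScalarTower R (R' ⊗[R] A) (R' ⊗[R] B) := IsScalarTower.of_algebraMap_eq (fun r => by
      show algebraMap R (R' ⊗[R] B) r = Algebra.TensorProduct.map (AlgHom.id R R') φ (algebraMap R _ r)
      simp)
    haveI : IsScalarTower R' (R' ⊗[R] A) (R' ⊗[R] B) := IsScalarTower.of_algebraMap_eq (fun r => by
      show algebraMap R' (R' ⊗[R] B) r = Algebra.TensorProduct.map (AlgHom.id R R') φ (algebraMap R' _ r)
      simp [Algebra.TensorProduct.algebraMap_apply])
    haveI hpo : Algebra.IsPushout A B (R' ⊗[R] A) (R' ⊗[R] B) :=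
      (Algebra.IsPushout.comp_iff R A R' (S' := R' ⊗[R] A) (T := B) (T' := R' ⊗[R] B)).1 inferInstance
    haveI hpo' : Algebra.IsPushout A (R' ⊗[R] A) B (R' ⊗[R] B) := hpo.symm
    haveI : Module.Flat (R' ⊗[R] A) (R' ⊗[R] B) := h2
    exact Module.Flat.of_linearEquiv
      (Algebra.IsPushout.equiv A (R' ⊗[R] A) B (R' ⊗[R] B)).toLinearEquiv
  exact Groth.Agent.H9.glue_flat hpair B

theorem glue_flat_iff (h : EtGlue.IsGlueingPair R R' f) {A B : Type u} [CommRing A] [Algebra R A]
    [CommRing B] [Algebra R B] (hA : EtGlue.IsGlueable R R' f A) (φ : A →ₐ[R] B) :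
    φ.toRingHom.Flat ↔ (Localization.awayMap φ.toRingHom (algebraMap R A f)).Flat ∧
      (Algebra.TensorProduct.map (AlgHom.id R R') φ).toRingHom.Flat :=
  ⟨fun hf => ⟨RingHom.Flat.propertyIsLocal.localizationAwayPreserves _ _ _ _ hf,
    Groth.Agent.H53.tensorMap_of_isStableUnderBaseChange RingHom.Flat.isStableUnderBaseChange φ hf⟩,
    fun hf => flat_of_glue h hA φ hf.1 hf.2⟩

end Groth.Agent.H61
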