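import Groth.Agent.H61.Tower
import Groth.Agent.H61.CRingQuot

set_option autoImplicit false
set_option linter.style.haveILetI false
set_option linter.unusedSectionVars false
universe u v
open CategoryTheory

namespace Groth.Agent.H61

open ArtFun ArtFun.Art Groth.Agent.H63

variable {Λ : Type u} {k : Type u} [CommRing Λ] [Field k] [Algebra Λ k]
variable {P : Type u} [CommRing P] [Algebra Λ P] {resP : P →ₐ[Λ] k}
variable [IsLocalRing P] [IsNoetherianRing P] [IsAdicComplete (IsLocalRing.maximalIdeal P) P]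

/-- The limit of Schlessinger's tower is a versal family. -/
theorem exists_versal_of_stage [Module.Finite Λ k] (hres : Function.Surjective resP) (hlift : HasLifts P resP)
    {F : Art Λ k ⥤ Type v} (h1 : S1 F) (h2 : Heps F) (s₀ : Stage P resP F) :
    ∃ (S : CRing Λ k) (π : P →ₐ[Λ] S.carrier) (hπ : S.res.comp π = resP) (ξ : Family S.carrier S.res F),
      Function.Surjective π ∧ IsVersal ξ ∧
      (∀ (A : Art Λ k) (φ : HomSet S.carrier S.res A) (g : s₀.R ⟶ A),
        HomSet.map g s₀.p = homSetComp π hπ φ → ξ.app A φ = F.map g s₀.a) ∧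
      RingHom.ker π ≤ RingHom.ker s₀.p.1 := by
  classical
  set T := tower hres hlift h1 h2 s₀ with hT
  set J := towerKer hres hlift h1 h2 s₀ with hJ
  have hJanti : Antitone J := towerKer_antitone hres hlift h1 h2 s₀
  have hJdef : ∀ m, J m = RingHom.ker (T m).p.1 := fun m => rfl
  have hJ0 : (⨅ m, J m) ≤ IsLocalRing.maximalIdeal P :=
    (iInf_le J 0).trans (ker_homSet_le_maximalIdeal hres (T 0).p)
  obtain ⟨S, π, hπ, hπs, hπk⟩ := exists_cring_quot (Λ := Λ) (k := k) hres (⨅ m, J m) hJ0
  -- every map from `S` to an Artinian ring factors through a stage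
  have factor : ∀ (A : Art Λ k) (φ : HomSet S.carrier S.res A),
      ∃ (m : ℕ) (g : (T m).R ⟶ A), HomSet.map g (T m).p = homSetComp π hπ φ := by
    intro A φ
    obtain ⟨N, hN⟩ := exists_pow_le_ker_homSet hres (homSetComp π hπ φ)
    obtain ⟨m, hm⟩ := chevalley J hJanti (fun q => exists_pow_le_ker_homSet hres (T q).p) N
    have hle : RingHom.ker (T m).p.1 ≤ RingHom.ker (homSetComp π hπ φ).1 := by
      refine hm.trans (sup_le ?_ hN)
      rw [← hπk]
      intro x hx
      rw [RingHom.mem_ker] at hx ⊢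
      rw [homSetComp_apply, hx, map_zero]
    obtain ⟨g, hg⟩ := exists_factor_homSet (T m).p (T m).hp _ hle
    exact ⟨m, g, hg⟩
  choose mOf gOf hgOf using factor
  have welldef : ∀ (A : Art Λ k) (φ : HomSet S.carrier S.res A) (m : ℕ) (g : (T m).R ⟶ A),
      HomSet.map g (T m).p = homSetComp π hπ φ → F.map (gOf A φ) (T (mOf A φ)).a = F.map g (T m).a := by
    intro A φ m g hg
    apply tower_welldef
    rw [hgOf, hg]
  let ξ : Family S.carrier S.res F :=
    { app := fun A φ => F.map (gOf A φ) (T (mOf A φ)).a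
      natural := by
        intro A B f φ
        rw [← map_comp_apply]
        apply welldef
        rw [homSetComp_map, ← hgOf A φ]
        rfl }
  have hξ : ∀ (A : Art Λ k) (φ : HomSet S.carrier S.res A) (m : ℕ) (g : (T m).R ⟶ A),
      HomSet.map g (T m).p = homSetComp π hπ φ → ξ.app A φ = F.map g (T m).a := welldef
  refine ⟨S, π, hπ, ξ, hπs, ?_, ?_, ?_⟩
  · apply isVersal_of_smallExt
    intro B A μ hμ φ y hy
    set m := mOf A φ with hm
    set g := gOf A φ with hg
    obtain ⟨S', pr₁, pr₂, hS'⟩ := exists_isFibreProd_of_surjective g μ hμ.1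
    have hsm : IsSmallExt pr₁ := IsFibreProd.fst_isSmallExt hS' hμ
    obtain ⟨z, hz₁, hz₂⟩ := (cmp_surjective_iff F hS').1 (h1 _ _ _ _ hS' hμ.1) (T m).a y hy.symm
    obtain ⟨f, hf₁, hf₂⟩ := (towerMap_isLink hres hlift h1 h2 s₀ m).2.2 S' pr₁ hsm z hz₁
    have hker : RingHom.ker π ≤ RingHom.ker (HomSet.map (f ≫ pr₂) (T (m + 1)).p).1 := by
      rw [hπk]
      refine (iInf_le J (m + 1)).trans ?_
      intro x hx
      rw [hJdef, RingHom.mem_ker] at hx
      rw [RingHom.mem_ker]
      change (f ≫ pr₂) ((T (m + 1)).p.1 x) = 0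
      rw [hx, map_zero]
    obtain ⟨ψ, hψ⟩ := exists_homSet_of_ker_le π hπ hπs _ hker
    refine ⟨ψ, ?_, ?_⟩
    · apply homSetComp_injective π hπ hπs
      rw [homSetComp_map, hψ, ← hgOf A φ, ← Groth.Agent.H63.homSet_map_comp, Category.assoc, ← hS'.w,
        ← Category.assoc, hf₁, Groth.Agent.H63.homSet_map_comp]
      exact congrArg (HomSet.map g) (towerMap_isLink hres hlift h1 h2 s₀ m).1
    · rw [hξ B ψ (m + 1) (f ≫ pr₂) hψ.symm, map_comp_apply]
      exact (congrArg (F.map pr₂) hf₂).trans hz₂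
  · intro A φ g hg
    exact hξ A φ 0 g hg
  · rw [hπk]
    exact iInf_le J 0

end Groth.Agent.H61
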