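import Groth.Agent.H61.Hull
import Groth.Agent.H61.TszeObj
import Groth.Agent.H61.PSComplete

set_option autoImplicit false
set_option linter.style.haveILetI false
set_option linter.unusedSectionVars false
universe u v
open CategoryTheory

namespace Groth.Agent.H61

open ArtFun ArtFun.Art Groth.Agent.H63 MvPowerSeries

variable {Λ : Type u} {k : Type u} [CommRing Λ] [Field k] [Algebra Λ k]
variable [IsLocalRing Λ] [IsNoetherianRing Λ]

/-- the coordinate elements of `k[k^n]` -/
noncomputable def tszeCoord (k : Type u) [Field k] (n : ℕ) (i : Fin n) : TrivSqZeroExt k (Fin n → k) :=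
  TrivSqZeroExt.inr (Pi.single i 1)

theorem tsze_eq_sum (n : ℕ) (x : TrivSqZeroExt k (Fin n → k)) (hx : x.fst = 0) :
    x = ∑ i, TrivSqZeroExt.inl (x.snd i) * tszeCoord k n i := by
  classical
  have h1 : ∀ i, (TrivSqZeroExt.inl (x.snd i) * tszeCoord k n i : TrivSqZeroExt k (Fin n → k)) =
      TrivSqZeroExt.inr (x.snd i • Pi.single (M := fun _ => k) i (1 : k)) := fun i => TrivSqZeroExt.inl_mul_inr _ _
  simp_rw [h1]
  rw [← TrivSqZeroExt.inr_sum, ← pi_eq_sum_univ' x.snd]
  exact TrivSqZeroExt.ext hx rfl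

/-- Schlessinger's theorem (existence of hulls), when `Λ → k` is surjective. -/
theorem hasHull_of_surjective [IsAdicComplete (IsLocalRing.maximalIdeal Λ) Λ]
    (hk : Function.Surjective (algebraMap Λ k))
    (F : Art Λ k ⥤ Type v) [TangentStr F] (h0 : H0 F) (h1 : S1 F) (h2 : Heps F) (h3 : Hfin F) :
    HasHull F := by
  classical
  haveI : Module.Finite Λ k := Module.Finite.of_surjective (Algebra.linearMap Λ k) hk
  obtain ⟨n, a₁, hbij⟩ := exists_start h0 h2 h3
  haveI : IsAdicComplete (IsLocalRing.maximalIdeal (MvPowerSeries (Fin n) Λ)) (MvPowerSeries (Fin n) Λ) :=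
    ps_isAdicComplete n
  have hres := psRes_surjective (Λ := Λ) (k := k) hk n
  let t : Fin n → (tszeArt Λ k (Fin n → k)) := fun i => tszeCoord k n i
  have ht : ∀ i, t i ∈ IsLocalRing.maximalIdeal (tszeArt Λ k (Fin n → k)) := by
    intro i
    rw [mem_maximalIdeal_iff]
    rfl
  obtain ⟨p₁, hp₁⟩ := exists_evalHom n (tszeArt Λ k (Fin n → k)) t ht
  have hp₁s : Function.Surjective p₁.1 := by
    apply ps_surjective_of_cotangent hk
    have : (fun i => p₁.1 (X i)) = t := funext hp₁
    rw [this]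
    refine le_sup_of_le_left ?_
    intro x hx
    have hx0 : TrivSqZeroExt.fst (x : TrivSqZeroExt k (Fin n → k)) = 0 :=
      (mem_maximalIdeal_iff (tszeArt Λ k (Fin n → k)) x).1 hx
    have hsum := tsze_eq_sum n (x : TrivSqZeroExt k (Fin n → k)) hx0
    have hmem : ∀ (c : Fin n → (tszeArt Λ k (Fin n → k))),
        (∑ i, c i * t i) ∈ Ideal.span (Set.range t) := by
      intro c
      apply Ideal.sum_mem
      intro i _
      exact Ideal.mul_mem_left _ _ (Ideal.subset_span ⟨i, rfl⟩)
    have hc : ∃ c : Fin n → (tszeArt Λ k (Fin n → k)), x = ∑ i, c i * t i :=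
      ⟨fun i => TrivSqZeroExt.inl ((x : TrivSqZeroExt k (Fin n → k)).snd i), hsum⟩
    obtain ⟨c, hc⟩ := hc
    rw [hc]
    exact hmem c
  have hvers₁ : ∀ b : F.obj (dual Λ k), ∃ φ : (tszeArt Λ k (Fin n → k)) ⟶ dual Λ k, F.map φ a₁ = b := by
    intro b
    obtain ⟨l, hl⟩ := hbij.2 (TangentSpace.mk b)
    exact ⟨tszeToDual l, hl⟩
  let s₀ : Stage (MvPowerSeries (Fin n) Λ) (psRes Λ k n) F := ⟨tszeArt Λ k (Fin n → k), p₁, hp₁s, a₁, hvers₁⟩
  obtain ⟨S, π, hπ, ξ, hπs, hversal, hξ, hker⟩ :=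
    exists_versal_of_stage hres (ps_lifts n) h1 h2 s₀
  refine ⟨⟨S, ξ, hversal, ?_⟩⟩
  -- every tangent vector of `S` comes from a linear functional
  have key : ∀ φ : HomSet S.carrier S.res (dual Λ k),
      ∃ l : (Fin n → k) →ₗ[k] k, HomSet.map (tszeToDual l) p₁ = homSetComp π hπ φ := by
    intro φ
    set ψ := homSetComp π hπ φ with hψ
    let c : Fin n → k := fun i => TrivSqZeroExt.snd ((ψ.1 (X i) : dual Λ k) : TrivSqZeroExt k k)
    let l : (Fin n → k) →ₗ[k] k := ∑ i, c i • (LinearMap.proj i : (Fin n → k) →ₗ[k] k)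
    have hl : ∀ i, l (Pi.single i 1) = c i := by
      intro i
      simp only [l, LinearMap.sum_apply, LinearMap.smul_apply, LinearMap.proj_apply, smul_eq_mul]
      rw [Finset.sum_eq_single i]
      · rw [Pi.single_eq_same, mul_one]
      · intro j _ hji
        rw [Pi.single_eq_of_ne hji, mul_zero]
      · intro hi
        exact absurd (Finset.mem_univ i) hi
    refine ⟨l, ?_⟩
    apply homSet_ext_X
    intro i
    change (tszeToDual l : (tszeArt Λ k (Fin n → k)) ⟶ dual Λ k) (p₁.1 (X i)) = ψ.1 (X i)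
    rw [hp₁]
    have hfst : TrivSqZeroExt.fst ((ψ.1 (X i) : dual Λ k) : TrivSqZeroExt k k) = 0 := by
      have := homSet_res_apply ψ (X i)
      rw [psRes_X] at this
      exact this
    refine TrivSqZeroExt.ext ?_ ?_
    · exact hfst.symm
    · exact hl i
  constructor
  · intro φ φ' hφ
    obtain ⟨l, hl⟩ := key φ
    obtain ⟨l', hl'⟩ := key φ'
    have e1 := hξ _ φ (tszeToDual l) hl
    have e2 := hξ _ φ' (tszeToDual l') hl'
    have hll : l = l' := by
      apply hbij.1
      rw [charMap_apply, charMap_apply]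
      change F.map (tszeToDual l) a₁ = F.map (tszeToDual l') a₁
      rw [← e1, ← e2, hφ]
    apply homSetComp_injective π hπ hπs
    rw [← hl, ← hl', hll]
  · intro b
    obtain ⟨l, hl⟩ := hbij.2 (TangentSpace.mk b)
    have hker' : RingHom.ker π ≤ RingHom.ker (HomSet.map (tszeToDual l) p₁).1 := by
      refine hker.trans ?_
      intro x hx
      rw [RingHom.mem_ker] at hx ⊢
      change (tszeToDual l : (tszeArt Λ k (Fin n → k)) ⟶ dual Λ k) (p₁.1 x) = 0
      have hx' : p₁.1 x = 0 := hx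
      rw [hx', map_zero]
    obtain ⟨φ, hφ⟩ := exists_homSet_of_ker_le π hπ hπs _ hker'
    refine ⟨φ, ?_⟩
    rw [hξ _ φ (tszeToDual l) hφ.symm]
    exact hl

end Groth.Agent.H61
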