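import Groth.Agent.H61.Tangent
import Mathlib.RingTheory.Nakayama

set_option autoImplicit false
universe u v

open CategoryTheory

namespace Groth.Agent.H61

open ArtFun ArtFun.Art

section General

variable {Λ : Type u} {k : Type u} [CommRing Λ] [Field k] [Algebra Λ k]

/-- The unique point of `h_R(k)`. -/
def homSetBase {R : Type u} [CommRing R] [Algebra Λ R] (resR : R →ₐ[Λ] k) :
    HomSet R resR (base Λ k) := ⟨resR, AlgHom.id_comp _⟩

theorem homSet_base_subsingleton {R : Type u} [CommRing R] [Algebra Λ R] (resR : R →ₐ[Λ] k) :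
    Subsingleton (HomSet R resR (base Λ k)) := by
  constructor
  intro φ ψ
  apply Subtype.ext
  have h1 := φ.2
  have h2 := ψ.2
  change (AlgHom.id Λ k).comp φ.1 = resR at h1
  change (AlgHom.id Λ k).comp ψ.1 = resR at h2
  rw [AlgHom.id_comp] at h1 h2
  rw [h1, h2]

theorem toBase_surjective (A : Art Λ k) : Function.Surjective (toBase A) := A.res_surjective

/-- A versal family over a functor with `F(k)` a point is surjective on every object. -/
theorem surjective_of_isVersal {R : Type u} [CommRing R] [Algebra Λ R] {resR : R →ₐ[Λ] k}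
    {F : Art Λ k ⥤ Type v} (ξ : Family R resR F) (hξ : IsVersal ξ) (h0 : H0 F) (A : Art Λ k) :
    Function.Surjective (ξ.app A) := by
  intro y
  obtain ⟨ψ, -, hψ⟩ := hξ (toBase A) (toBase_surjective A) (homSetBase resR) y (h0.2.elim _ _)
  exact ⟨ψ, hψ⟩

end General

section OverField

variable {k : Type u} [Field k]

/-- The composite `R → k → A`. -/
def homSetTriv {R : Type u} [CommRing R] [Algebra k R] (resR : R →ₐ[k] k) (A : Art k k) :
    HomSet R resR A :=
  ⟨(Algebra.ofId k A).comp resR, by
    rw [← AlgHom.comp_assoc]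
    have : A.res.comp (Algebra.ofId k A) = AlgHom.id k k := by
      apply AlgHom.ext
      intro c
      exact art_res_algebraMap A c
    rw [this, AlgHom.id_comp]⟩

theorem maximalIdeal_eq_bot_of_tangent_subsingleton (R : CRing k k)
    (h : Subsingleton (HomSet R.carrier R.res (dual k k))) :
    IsLocalRing.maximalIdeal R.carrier = ⊥ := by
  have hT : IsLocalRing.maximalIdeal (R.trunc 1) ^ 2 = ⊥ := trunc_maximalIdeal_pow R 1
  have key : R.truncHom 1 = homSetTriv R.res (R.trunc 1) :=
    homSet_eq_of_forall_tangentMap (R.trunc 1) hT _ _ (fun π => h.elim _ _)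
  have hle : IsLocalRing.maximalIdeal R.carrier ≤
      IsLocalRing.maximalIdeal R.carrier • IsLocalRing.maximalIdeal R.carrier := by
    intro r hr
    have h1 := congrArg (fun t : HomSet R.carrier R.res (R.trunc 1) => t.1 r) key
    change Ideal.Quotient.mk (R.mpow 1) r = algebraMap k (R.trunc 1) (R.res r) at h1
    rw [(CRing.mem_maximalIdeal_iff R r).1 hr, map_zero] at h1
    have h2 : Ideal.Quotient.mk (R.mpow 1) r = 0 := h1
    rw [Ideal.Quotient.eq_zero_iff_mem] at h2
    rw [smul_eq_mul, ← pow_two]
    exact h2
  exact Submodule.eq_bot_of_le_smul_of_le_jacobson_bot (IsLocalRing.maximalIdeal R.carrier)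
    (IsLocalRing.maximalIdeal R.carrier) (IsNoetherian.noetherian _) hle
    (IsLocalRing.jacobson_eq_maximalIdeal _ bot_ne_top).ge

theorem homSet_subsingleton_of_maximalIdeal_eq_bot (R : CRing k k)
    (h : IsLocalRing.maximalIdeal R.carrier = ⊥) (A : Art k k) :
    Subsingleton (HomSet R.carrier R.res A) := by
  constructor
  intro φ ψ
  apply homSet_ext
  intro r
  have hr : r = algebraMap k R.carrier (R.res r) := by
    have : r - algebraMap k R.carrier (R.res r) ∈ IsLocalRing.maximalIdeal R.carrier := by
      rw [CRing.mem_maximalIdeal_iff, map_sub, AlgHom.commutes]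
      exact sub_self _
    rw [h, Ideal.mem_bot, sub_eq_zero] at this
    exact this
  rw [hr, AlgHom.commutes, AlgHom.commutes]

end OverField

end Groth.Agent.H61
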