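import Mathlib

/-!
# The nine-term exact sequence of a three-term complex with projective `L₀`, `L₁`

For a complex `L₂ → L₁ → L₀` of `R`-modules with `L₀`, `L₁` projective and a short exact sequence
`0 → M' → M → M'' → 0`, the cohomology modules `Tⁱ(N) = hⁱ(Hom(L•, N))` (`i = 0, 1, 2`) sit in a
nine-term exact sequence.  The definitions of `T0`, `T1`, `T2` and of the induced maps are
verbatim those of the prelude's `CotT`, for an arbitrary complex.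
-/

namespace Groth.Agent.H61.NineTerm

universe u v0 v1 v2 m m'

variable {R : Type u} [CommRing R]
variable {L0 : Type v0} {L1 : Type v1} {L2 : Type v2}
  [AddCommGroup L0] [Module R L0] [AddCommGroup L1] [Module R L1] [AddCommGroup L2] [Module R L2]
variable (d1 : L1 →ₗ[R] L0) (d2 : L2 →ₗ[R] L1)

section Defs

variable (M : Type m) [AddCommGroup M] [Module R M]

def d1S : (L0 →ₗ[R] M) →ₗ[R] (L1 →ₗ[R] M) := LinearMap.lcomp R M d1
def d2S : (L1 →ₗ[R] M) →ₗ[R] (L2 →ₗ[R] M) := LinearMap.lcomp R M d2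

variable {M} in
@[simp] lemma d1S_apply (φ : L0 →ₗ[R] M) : d1S d1 M φ = φ ∘ₗ d1 := rfl
variable {M} in
@[simp] lemma d2S_apply (φ : L1 →ₗ[R] M) : d2S d2 M φ = φ ∘ₗ d2 := rfl

abbrev T0 : Type _ := LinearMap.ker (d1S d1 M)
abbrev Z1 : Submodule R (L1 →ₗ[R] M) := LinearMap.ker (d2S d2 M)
abbrev B1 : Submodule R (Z1 d2 M) := (LinearMap.range (d1S d1 M)).comap (Z1 d2 M).subtype
abbrev T1 : Type _ := Z1 d2 M ⧸ B1 d1 d2 M
abbrev T2 : Type _ := (L2 →ₗ[R] M) ⧸ LinearMap.range (d2S d2 M)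

end Defs

section Maps

variable {M : Type m} [AddCommGroup M] [Module R M] {N : Type m'} [AddCommGroup N] [Module R N]
  (g : M →ₗ[R] N)

def T0map : T0 d1 M →ₗ[R] T0 d1 N :=
  (LinearMap.llcomp R L0 M N g).restrict (p := LinearMap.ker (d1S d1 M))
    (q := LinearMap.ker (d1S d1 N)) (fun φ hφ => by
      rw [LinearMap.mem_ker, d1S_apply] at hφ ⊢
      change (g ∘ₗ φ) ∘ₗ d1 = 0
      rw [LinearMap.comp_assoc, hφ, LinearMap.comp_zero])

def Z1map : Z1 d2 M →ₗ[R] Z1 d2 N :=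
  (LinearMap.llcomp R L1 M N g).restrict (p := Z1 d2 M) (q := Z1 d2 N) (fun φ hφ => by
      rw [LinearMap.mem_ker, d2S_apply] at hφ ⊢
      change (g ∘ₗ φ) ∘ₗ d2 = 0
      rw [LinearMap.comp_assoc, hφ, LinearMap.comp_zero])

def T1map : T1 d1 d2 M →ₗ[R] T1 d1 d2 N :=
  Submodule.mapQ (B1 d1 d2 M) (B1 d1 d2 N) (Z1map d2 g) (by
    rintro φ ⟨ψ, hψ⟩
    refine ⟨g ∘ₗ ψ, ?_⟩
    change (g ∘ₗ ψ) ∘ₗ d1 = g ∘ₗ (φ : L1 →ₗ[R] M)
    have hψ' : ψ ∘ₗ d1 = (φ : L1 →ₗ[R] M) := hψ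
    rw [LinearMap.comp_assoc, hψ'])

def T2map : T2 d2 M →ₗ[R] T2 d2 N :=
  Submodule.mapQ _ _ (LinearMap.llcomp R L2 M N g) (by
    rintro _ ⟨ψ, rfl⟩
    exact ⟨g ∘ₗ ψ, by rw [d2S_apply, LinearMap.comp_assoc]; rfl⟩)

@[simp] lemma T0map_coe (φ : T0 d1 M) : (T0map d1 g φ : L0 →ₗ[R] N) = g ∘ₗ (φ : L0 →ₗ[R] M) := rfl
@[simp] lemma Z1map_coe (φ : Z1 d2 M) : (Z1map d2 g φ : L1 →ₗ[R] N) = g ∘ₗ (φ : L1 →ₗ[R] M) := rfl
@[simp] lemma T1map_mk (φ : Z1 d2 M) :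
    T1map d1 d2 g (Submodule.Quotient.mk φ) = Submodule.Quotient.mk (Z1map d2 g φ) := rfl
@[simp] lemma T2map_mk (γ : L2 →ₗ[R] M) :
    T2map d2 g (Submodule.Quotient.mk γ) = Submodule.Quotient.mk (g ∘ₗ γ) := rfl

end Maps

section Chase

variable {M' : Type m} {M : Type m} {M'' : Type m} [AddCommGroup M'] [Module R M']
  [AddCommGroup M] [Module R M] [AddCommGroup M''] [Module R M'']
  (f : M' →ₗ[R] M) (g : M →ₗ[R] M'')

include f g in
lemma gf_zero (hfg : Function.Exact f g) : g ∘ₗ f = 0 := by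
  ext x
  exact (hfg (f x)).2 ⟨x, rfl⟩

lemma exists_factor (hf : Function.Injective f) (hfg : Function.Exact f g)
    {X : Type*} [AddCommGroup X] [Module R X] (α : X →ₗ[R] M) (h : g ∘ₗ α = 0) :
    ∃ α' : X →ₗ[R] M', f ∘ₗ α' = α := by
  have hmem : ∀ x, α x ∈ LinearMap.range f := fun x => (hfg (α x)).1 (LinearMap.congr_fun h x)
  refine ⟨(LinearEquiv.ofInjective f hf).symm.toLinearMap ∘ₗ α.codRestrict (LinearMap.range f) hmem, ?_⟩
  ext x
  have := LinearEquiv.apply_symm_apply (LinearEquiv.ofInjective f hf) (α.codRestrict (LinearMap.range f) hmem x)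
  exact congrArg Subtype.val this

lemma exists_lift (hg : Function.Surjective g)
    {X : Type*} [AddCommGroup X] [Module R X] [Module.Projective R X] (α'' : X →ₗ[R] M'') :
    ∃ α : X →ₗ[R] M, g ∘ₗ α = α'' :=
  Module.projective_lifting_property g α'' hg

lemma comp_cancel (hf : Function.Injective f)
    {X : Type*} [AddCommGroup X] [Module R X] {α β : X →ₗ[R] M'} (h : f ∘ₗ α = f ∘ₗ β) : α = β := by
  ext x
  exact hf (LinearMap.congr_fun h x)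

end Chase

section Main

variable {M' : Type m} {M : Type m} {M'' : Type m} [AddCommGroup M'] [Module R M']
  [AddCommGroup M] [Module R M] [AddCommGroup M''] [Module R M'']
  (f : M' →ₗ[R] M) (g : M →ₗ[R] M'')

lemma T0map_injective (hf : Function.Injective f) : Function.Injective (T0map d1 f) := by
  intro φ ψ h
  apply Subtype.ext
  apply comp_cancel f hf
  exact congrArg Subtype.val h

lemma T0_exact (hf : Function.Injective f) (hfg : Function.Exact f g) :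
    Function.Exact (T0map d1 f) (T0map d1 g) := by
  intro φ
  constructor
  · intro h
    have h0 : g ∘ₗ (φ : L0 →ₗ[R] M) = 0 := congrArg Subtype.val h
    obtain ⟨φ', hφ'⟩ := exists_factor f g hf hfg _ h0
    have hmem : φ' ∈ LinearMap.ker (d1S d1 M') := by
      rw [LinearMap.mem_ker, d1S_apply]
      apply comp_cancel f hf
      rw [← LinearMap.comp_assoc, hφ', LinearMap.comp_zero]
      exact φ.2
    exact ⟨⟨φ', hmem⟩, Subtype.ext hφ'⟩
  · rintro ⟨φ', rfl⟩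
    apply Subtype.ext
    change g ∘ₗ (f ∘ₗ (φ' : L0 →ₗ[R] M')) = 0
    rw [← LinearMap.comp_assoc, gf_zero f g hfg, LinearMap.zero_comp]

lemma T1_exact [Module.Projective R L0] (h12 : d1 ∘ₗ d2 = 0)
    (hf : Function.Injective f) (hg : Function.Surjective g) (hfg : Function.Exact f g) :
    Function.Exact (T1map d1 d2 f) (T1map d1 d2 g) := by
  intro t
  obtain ⟨c, rfl⟩ := Submodule.Quotient.mk_surjective _ t
  constructor
  · intro h
    rw [T1map_mk, Submodule.Quotient.mk_eq_zero] at h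
    obtain ⟨ψ'', hψ''⟩ := h
    have hψ''' : ψ'' ∘ₗ d1 = g ∘ₗ (c : L1 →ₗ[R] M) := hψ''
    obtain ⟨ψ, hψ⟩ := exists_lift g hg ψ''
    have h0 : g ∘ₗ ((c : L1 →ₗ[R] M) - ψ ∘ₗ d1) = 0 := by
      rw [LinearMap.comp_sub, ← LinearMap.comp_assoc, hψ, hψ''', sub_self]
    obtain ⟨c', hc'⟩ := exists_factor f g hf hfg _ h0
    have hmem : c' ∈ Z1 d2 M' := by
      rw [LinearMap.mem_ker, d2S_apply]
      apply comp_cancel f hf
      rw [← LinearMap.comp_assoc, hc', LinearMap.sub_comp, LinearMap.comp_assoc, h12,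
        LinearMap.comp_zero, LinearMap.comp_zero, sub_zero]
      exact c.2
    refine ⟨Submodule.Quotient.mk ⟨c', hmem⟩, ?_⟩
    rw [T1map_mk, Submodule.Quotient.eq]
    refine ⟨-ψ, ?_⟩
    change (-ψ) ∘ₗ d1 = f ∘ₗ c' - (c : L1 →ₗ[R] M)
    rw [hc', LinearMap.neg_comp]
    abel
  · rintro ⟨t', ht'⟩
    obtain ⟨c', rfl⟩ := Submodule.Quotient.mk_surjective _ t'
    rw [← ht', T1map_mk, T1map_mk, Submodule.Quotient.mk_eq_zero]
    refine ⟨0, ?_⟩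
    change (0 : L0 →ₗ[R] M'') ∘ₗ d1 = g ∘ₗ (f ∘ₗ (c' : L1 →ₗ[R] M'))
    rw [← LinearMap.comp_assoc, gf_zero f g hfg, LinearMap.zero_comp, LinearMap.zero_comp]

lemma T2_exact [Module.Projective R L1]
    (hf : Function.Injective f) (hg : Function.Surjective g) (hfg : Function.Exact f g) :
    Function.Exact (T2map d2 f) (T2map d2 g) := by
  intro s
  obtain ⟨γ, rfl⟩ := Submodule.Quotient.mk_surjective _ s
  constructor
  · intro h
    rw [T2map_mk, Submodule.Quotient.mk_eq_zero] at h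
    obtain ⟨ψ'', hψ''⟩ := h
    have hψ''' : ψ'' ∘ₗ d2 = g ∘ₗ γ := hψ''
    obtain ⟨ψ, hψ⟩ := exists_lift g hg ψ''
    have h0 : g ∘ₗ (γ - ψ ∘ₗ d2) = 0 := by
      rw [LinearMap.comp_sub, ← LinearMap.comp_assoc, hψ, hψ''', sub_self]
    obtain ⟨γ', hγ'⟩ := exists_factor f g hf hfg _ h0
    refine ⟨Submodule.Quotient.mk γ', ?_⟩
    rw [T2map_mk, Submodule.Quotient.eq]
    refine ⟨-ψ, ?_⟩
    change (-ψ) ∘ₗ d2 = f ∘ₗ γ' - γ
    rw [hγ', LinearMap.neg_comp]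
    abel
  · rintro ⟨s', hs'⟩
    obtain ⟨γ', rfl⟩ := Submodule.Quotient.mk_surjective _ s'
    rw [← hs', T2map_mk, T2map_mk, Submodule.Quotient.mk_eq_zero]
    refine ⟨0, ?_⟩
    change (0 : L1 →ₗ[R] M'') ∘ₗ d2 = g ∘ₗ (f ∘ₗ γ')
    rw [← LinearMap.comp_assoc, gf_zero f g hfg, LinearMap.zero_comp, LinearMap.zero_comp]

section Delta0

variable [Module.Projective R L0]

lemma exists_delta0_data (h12 : d1 ∘ₗ d2 = 0)
    (hf : Function.Injective f) (hg : Function.Surjective g) (hfg : Function.Exact f g)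
    (φ'' : T0 d1 M'') :
    ∃ (c : Z1 d2 M') (φ : L0 →ₗ[R] M), g ∘ₗ φ = (φ'' : L0 →ₗ[R] M'') ∧
      f ∘ₗ (c : L1 →ₗ[R] M') = φ ∘ₗ d1 := by
  obtain ⟨φ, hφ⟩ := exists_lift g hg (φ'' : L0 →ₗ[R] M'')
  have h0 : g ∘ₗ (φ ∘ₗ d1) = 0 := by
    rw [← LinearMap.comp_assoc, hφ]
    exact φ''.2
  obtain ⟨c, hc⟩ := exists_factor f g hf hfg _ h0
  have hc2 : c ∈ Z1 d2 M' := by
    rw [LinearMap.mem_ker, d2S_apply]
    apply comp_cancel f hf
    rw [← LinearMap.comp_assoc, hc, LinearMap.comp_assoc, h12, LinearMap.comp_zero,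
      LinearMap.comp_zero]
  exact ⟨⟨c, hc2⟩, φ, hφ, hc⟩

omit [Module.Projective R L0] in
lemma delta0_unique (hf : Function.Injective f) (hfg : Function.Exact f g)
    {φ₁ φ₂ : L0 →ₗ[R] M} {c₁ c₂ : Z1 d2 M'}
    (hg12 : g ∘ₗ φ₁ = g ∘ₗ φ₂) (h₁ : f ∘ₗ (c₁ : L1 →ₗ[R] M') = φ₁ ∘ₗ d1)
    (h₂ : f ∘ₗ (c₂ : L1 →ₗ[R] M') = φ₂ ∘ₗ d1) :
    (Submodule.Quotient.mk c₁ : T1 d1 d2 M') = Submodule.Quotient.mk c₂ := by
  rw [Submodule.Quotient.eq]
  have h0 : g ∘ₗ (φ₁ - φ₂) = 0 := by rw [LinearMap.comp_sub, hg12, sub_self]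
  obtain ⟨ψ, hψ⟩ := exists_factor f g hf hfg _ h0
  refine ⟨ψ, ?_⟩
  change ψ ∘ₗ d1 = (c₁ : L1 →ₗ[R] M') - (c₂ : L1 →ₗ[R] M')
  apply comp_cancel f hf
  rw [← LinearMap.comp_assoc, hψ, LinearMap.sub_comp, LinearMap.comp_sub, h₁, h₂]

theorem exists_delta0 (h12 : d1 ∘ₗ d2 = 0)
    (hf : Function.Injective f) (hg : Function.Surjective g) (hfg : Function.Exact f g) :
    ∃ δ₀ : T0 d1 M'' →ₗ[R] T1 d1 d2 M',
      Function.Exact (T0map d1 g) δ₀ ∧ Function.Exact δ₀ (T1map d1 d2 f) := by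
  choose c φ h1 h2 using exists_delta0_data d1 d2 f g h12 hf hg hfg
  have key : ∀ (x : T0 d1 M'') (φ₀ : L0 →ₗ[R] M) (c₀ : Z1 d2 M'),
      g ∘ₗ φ₀ = (x : L0 →ₗ[R] M'') → f ∘ₗ (c₀ : L1 →ₗ[R] M') = φ₀ ∘ₗ d1 →
      (Submodule.Quotient.mk (c x) : T1 d1 d2 M') = Submodule.Quotient.mk c₀ :=
    fun x φ₀ c₀ hx hc => delta0_unique d1 d2 f g hf hfg ((h1 x).trans hx.symm) (h2 x) hc
  let δ₀ : T0 d1 M'' →ₗ[R] T1 d1 d2 M' :=
    { toFun := fun x => Submodule.Quotient.mk (c x)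
      map_add' := fun x y => by
        rw [← Submodule.Quotient.mk_add]
        refine key (x + y) (φ x + φ y) (c x + c y) ?_ ?_
        · rw [LinearMap.comp_add, h1, h1]; rfl
        · change f ∘ₗ ((c x : L1 →ₗ[R] M') + (c y : L1 →ₗ[R] M')) = (φ x + φ y) ∘ₗ d1
          rw [LinearMap.comp_add, h2, h2, LinearMap.add_comp]
      map_smul' := fun r x => by
        rw [RingHom.id_apply, ← Submodule.Quotient.mk_smul]
        refine key (r • x) (r • φ x) (r • c x) ?_ ?_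
        · rw [LinearMap.comp_smul, h1]; rfl
        · change f ∘ₗ (r • (c x : L1 →ₗ[R] M')) = (r • φ x) ∘ₗ d1
          rw [LinearMap.comp_smul, h2, LinearMap.smul_comp] }
  have hδ : ∀ x, δ₀ x = Submodule.Quotient.mk (c x) := fun x => rfl
  refine ⟨δ₀, ?_, ?_⟩
  · intro x
    constructor
    · intro h
      rw [hδ, Submodule.Quotient.mk_eq_zero] at h
      obtain ⟨ψ, hψ⟩ := h
      have hψ' : ψ ∘ₗ d1 = (c x : L1 →ₗ[R] M') := hψ
      have hmem : φ x - f ∘ₗ ψ ∈ LinearMap.ker (d1S d1 M) := by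
        rw [LinearMap.mem_ker, d1S_apply, LinearMap.sub_comp, LinearMap.comp_assoc, hψ', h2,
          sub_self]
      refine ⟨⟨φ x - f ∘ₗ ψ, hmem⟩, Subtype.ext ?_⟩
      change g ∘ₗ (φ x - f ∘ₗ ψ) = (x : L0 →ₗ[R] M'')
      rw [LinearMap.comp_sub, ← LinearMap.comp_assoc, gf_zero f g hfg, LinearMap.zero_comp,
        sub_zero, h1]
    · rintro ⟨φ₀, rfl⟩
      rw [hδ]
      have := key (T0map d1 g φ₀) (φ₀ : L0 →ₗ[R] M) 0 rfl (by
        change f ∘ₗ (0 : L1 →ₗ[R] M') = (φ₀ : L0 →ₗ[R] M) ∘ₗ d1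
        rw [LinearMap.comp_zero]
        exact (φ₀.2 : (φ₀ : L0 →ₗ[R] M) ∘ₗ d1 = 0).symm)
      rw [this, Submodule.Quotient.mk_zero]
  · intro t
    constructor
    · intro h
      obtain ⟨c₀, rfl⟩ := Submodule.Quotient.mk_surjective _ t
      rw [T1map_mk, Submodule.Quotient.mk_eq_zero] at h
      obtain ⟨φ₀, hφ₀⟩ := h
      have hφ₀' : φ₀ ∘ₗ d1 = f ∘ₗ (c₀ : L1 →ₗ[R] M') := hφ₀
      have hmem : g ∘ₗ φ₀ ∈ LinearMap.ker (d1S d1 M'') := by
        rw [LinearMap.mem_ker, d1S_apply, LinearMap.comp_assoc, hφ₀', ← LinearMap.comp_assoc,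
          gf_zero f g hfg, LinearMap.zero_comp]
      refine ⟨⟨g ∘ₗ φ₀, hmem⟩, ?_⟩
      rw [hδ]
      exact key ⟨g ∘ₗ φ₀, hmem⟩ φ₀ c₀ rfl hφ₀'.symm
    · rintro ⟨x, rfl⟩
      rw [hδ, T1map_mk, Submodule.Quotient.mk_eq_zero]
      exact ⟨φ x, (h2 x).symm⟩

end Delta0

section Delta1

variable [Module.Projective R L0] [Module.Projective R L1]

omit [Module.Projective R L0] in
lemma exists_delta1_data
    (hf : Function.Injective f) (hg : Function.Surjective g) (hfg : Function.Exact f g)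
    (c'' : Z1 d2 M'') :
    ∃ (γ : L2 →ₗ[R] M') (c : L1 →ₗ[R] M), g ∘ₗ c = (c'' : L1 →ₗ[R] M'') ∧ f ∘ₗ γ = c ∘ₗ d2 := by
  obtain ⟨c, hc⟩ := exists_lift g hg (c'' : L1 →ₗ[R] M'')
  have h0 : g ∘ₗ (c ∘ₗ d2) = 0 := by
    rw [← LinearMap.comp_assoc, hc]
    exact c''.2
  obtain ⟨γ, hγ⟩ := exists_factor f g hf hfg _ h0
  exact ⟨γ, c, hc, hγ⟩

omit [Module.Projective R L1] in
lemma delta1_unique (h12 : d1 ∘ₗ d2 = 0)
    (hf : Function.Injective f) (hg : Function.Surjective g) (hfg : Function.Exact f g)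
    {c₁ c₂ : L1 →ₗ[R] M} {γ₁ γ₂ : L2 →ₗ[R] M'}
    (h : ∃ ψ'' : L0 →ₗ[R] M'', g ∘ₗ c₁ - g ∘ₗ c₂ = ψ'' ∘ₗ d1)
    (h₁ : f ∘ₗ γ₁ = c₁ ∘ₗ d2) (h₂ : f ∘ₗ γ₂ = c₂ ∘ₗ d2) :
    (Submodule.Quotient.mk γ₁ : T2 d2 M') = Submodule.Quotient.mk γ₂ := by
  obtain ⟨ψ'', hψ''⟩ := h
  obtain ⟨ψ, hψ⟩ := exists_lift g hg ψ''
  have h0 : g ∘ₗ (c₁ - c₂ - ψ ∘ₗ d1) = 0 := by
    rw [LinearMap.comp_sub, LinearMap.comp_sub, ← LinearMap.comp_assoc, hψ, hψ'', sub_self]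
  obtain ⟨e, he⟩ := exists_factor f g hf hfg _ h0
  rw [Submodule.Quotient.eq]
  refine ⟨e, ?_⟩
  change e ∘ₗ d2 = γ₁ - γ₂
  apply comp_cancel f hf
  rw [← LinearMap.comp_assoc, he, LinearMap.sub_comp, LinearMap.sub_comp, LinearMap.comp_assoc,
    h12, LinearMap.comp_zero, sub_zero, LinearMap.comp_sub, h₁, h₂]

theorem exists_delta1 (h12 : d1 ∘ₗ d2 = 0)
    (hf : Function.Injective f) (hg : Function.Surjective g) (hfg : Function.Exact f g) :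
    ∃ δ₁ : T1 d1 d2 M'' →ₗ[R] T2 d2 M',
      Function.Exact (T1map d1 d2 g) δ₁ ∧ Function.Exact δ₁ (T2map d2 f) := by
  choose γ c h1 h2 using exists_delta1_data d2 f g hf hg hfg
  have key : ∀ (x : Z1 d2 M'') (c₀ : L1 →ₗ[R] M) (γ₀ : L2 →ₗ[R] M'),
      (∃ ψ'' : L0 →ₗ[R] M'', (x : L1 →ₗ[R] M'') - g ∘ₗ c₀ = ψ'' ∘ₗ d1) → f ∘ₗ γ₀ = c₀ ∘ₗ d2 →
      (Submodule.Quotient.mk (γ x) : T2 d2 M') = Submodule.Quotient.mk γ₀ := by
    intro x c₀ γ₀ hx hc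
    refine delta1_unique d1 d2 f g h12 hf hg hfg ?_ (h2 x) hc
    rw [h1]
    exact hx
  let δ₁' : Z1 d2 M'' →ₗ[R] T2 d2 M' :=
    { toFun := fun x => Submodule.Quotient.mk (γ x)
      map_add' := fun x y => by
        rw [← Submodule.Quotient.mk_add]
        refine key (x + y) (c x + c y) (γ x + γ y) ⟨0, ?_⟩ ?_
        · rw [LinearMap.comp_add, h1, h1, LinearMap.zero_comp]
          exact sub_self _
        · rw [LinearMap.comp_add, h2, h2, LinearMap.add_comp]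
      map_smul' := fun r x => by
        rw [RingHom.id_apply, ← Submodule.Quotient.mk_smul]
        refine key (r • x) (r • c x) (r • γ x) ⟨0, ?_⟩ ?_
        · rw [LinearMap.comp_smul, h1, LinearMap.zero_comp]
          exact sub_self _
        · rw [LinearMap.comp_smul, h2, LinearMap.smul_comp] }
  have hδ' : ∀ x, δ₁' x = Submodule.Quotient.mk (γ x) := fun x => rfl
  have hker : B1 d1 d2 M'' ≤ LinearMap.ker δ₁' := by
    rintro x ⟨ψ'', hψ''⟩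
    have hψ''' : ψ'' ∘ₗ d1 = (x : L1 →ₗ[R] M'') := hψ''
    rw [LinearMap.mem_ker, hδ']
    have := key x 0 0 ⟨ψ'', by rw [LinearMap.comp_zero, sub_zero, hψ''']⟩
      (by rw [LinearMap.comp_zero, LinearMap.zero_comp])
    rw [this, Submodule.Quotient.mk_zero]
  let δ₁ : T1 d1 d2 M'' →ₗ[R] T2 d2 M' := (B1 d1 d2 M'').liftQ δ₁' hker
  have hδ : ∀ x, δ₁ (Submodule.Quotient.mk x) = Submodule.Quotient.mk (γ x) := fun x => rfl
  refine ⟨δ₁, ?_, ?_⟩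
  · intro t
    obtain ⟨x, rfl⟩ := Submodule.Quotient.mk_surjective _ t
    constructor
    · intro h
      rw [hδ, Submodule.Quotient.mk_eq_zero] at h
      obtain ⟨e, he⟩ := h
      have he' : e ∘ₗ d2 = γ x := he
      have hmem : c x - f ∘ₗ e ∈ Z1 d2 M := by
        rw [LinearMap.mem_ker, d2S_apply, LinearMap.sub_comp, LinearMap.comp_assoc, he', h2,
          sub_self]
      refine ⟨Submodule.Quotient.mk ⟨c x - f ∘ₗ e, hmem⟩, ?_⟩
      rw [T1map_mk]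
      congr 1
      apply Subtype.ext
      change g ∘ₗ (c x - f ∘ₗ e) = (x : L1 →ₗ[R] M'')
      rw [LinearMap.comp_sub, ← LinearMap.comp_assoc, gf_zero f g hfg, LinearMap.zero_comp,
        sub_zero, h1]
    · rintro ⟨t₀, ht₀⟩
      obtain ⟨c₀, rfl⟩ := Submodule.Quotient.mk_surjective _ t₀
      rw [T1map_mk] at ht₀
      rw [← ht₀, hδ]
      have := key (Z1map d2 g c₀) (c₀ : L1 →ₗ[R] M) 0 ⟨0, by
          rw [LinearMap.zero_comp]; exact sub_self _⟩ (by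
        rw [LinearMap.comp_zero]
        exact (c₀.2 : (c₀ : L1 →ₗ[R] M) ∘ₗ d2 = 0).symm)
      rw [this, Submodule.Quotient.mk_zero]
  · intro s
    constructor
    · intro h
      obtain ⟨γ₀, rfl⟩ := Submodule.Quotient.mk_surjective _ s
      rw [T2map_mk, Submodule.Quotient.mk_eq_zero] at h
      obtain ⟨c₀, hc₀⟩ := h
      have hc₀' : c₀ ∘ₗ d2 = f ∘ₗ γ₀ := hc₀
      have hmem : g ∘ₗ c₀ ∈ Z1 d2 M'' := by
        rw [LinearMap.mem_ker, d2S_apply, LinearMap.comp_assoc, hc₀', ← LinearMap.comp_assoc,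
          gf_zero f g hfg, LinearMap.zero_comp]
      refine ⟨Submodule.Quotient.mk ⟨g ∘ₗ c₀, hmem⟩, ?_⟩
      rw [hδ]
      exact key ⟨g ∘ₗ c₀, hmem⟩ c₀ γ₀ ⟨0, by rw [LinearMap.zero_comp]; exact sub_self _⟩
        hc₀'.symm
    · rintro ⟨t, rfl⟩
      obtain ⟨x, rfl⟩ := Submodule.Quotient.mk_surjective _ t
      rw [hδ, T2map_mk, Submodule.Quotient.mk_eq_zero]
      exact ⟨c x, (h2 x).symm⟩

end Delta1

theorem nine_term [Module.Projective R L0] [Module.Projective R L1] (h12 : d1 ∘ₗ d2 = 0)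
    (hf : Function.Injective f) (hg : Function.Surjective g) (hfg : Function.Exact f g) :
    Function.Injective (T0map d1 f) ∧ Function.Exact (T0map d1 f) (T0map d1 g) ∧
      Function.Exact (T1map d1 d2 f) (T1map d1 d2 g) ∧
      Function.Exact (T2map d2 f) (T2map d2 g) ∧
      ∃ (δ₀ : T0 d1 M'' →ₗ[R] T1 d1 d2 M') (δ₁ : T1 d1 d2 M'' →ₗ[R] T2 d2 M'),
        Function.Exact (T0map d1 g) δ₀ ∧ Function.Exact δ₀ (T1map d1 d2 f) ∧
        Function.Exact (T1map d1 d2 g) δ₁ ∧ Function.Exact δ₁ (T2map d2 f) := by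
  obtain ⟨δ₀, h₀, h₀'⟩ := exists_delta0 d1 d2 f g h12 hf hg hfg
  obtain ⟨δ₁, h₁, h₁'⟩ := exists_delta1 d1 d2 f g h12 hf hg hfg
  exact ⟨T0map_injective d1 f hf, T0_exact d1 f g hf hfg, T1_exact d1 d2 f g h12 hf hg hfg,
    T2_exact d2 f g hf hg hfg, δ₀, δ₁, h₀, h₀', h₁, h₁'⟩

end Main

end Groth.Agent.H61.NineTerm
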