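import Groth.Agent.H63.ArtTangent
import Groth.Agent.H63.ArtVersal
import Groth.Agent.H61.HomSetQuot
import Groth.Agent.H61.SmallDual

set_option autoImplicit false
set_option linter.style.haveILetI false
set_option linter.unusedSectionVars false
universe u v
open CategoryTheory

namespace Groth.Agent.H61

open ArtFun ArtFun.Art Groth.Agent.H63

variable {Λ : Type u} {k : Type u} [CommRing Λ] [Field k] [Algebra Λ k]
variable {R : Type u} [CommRing R] [Algebra Λ R] {resR : R →ₐ[Λ] k} {F : Art Λ k ⥤ Type v}

/-- A functor with a universal family is left exact. -/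
theorem isLeftExact_of_isUniversal (ξ : Family R resR F) (hξ : IsUniversal ξ) : IsLeftExact F := by
  intro B A A' A'' p' p'' f' f'' h
  constructor
  · rw [cmp_injective_iff]
    intro z z' h₁ h₂
    obtain ⟨l, rfl⟩ := (hξ B).2 z
    obtain ⟨l', rfl⟩ := (hξ B).2 z'
    rw [← ξ.natural, ← ξ.natural] at h₁ h₂
    have e₁ := (hξ A').1 h₁
    have e₂ := (hξ A'').1 h₂
    congr 1
    apply Subtype.ext
    apply AlgHom.ext
    intro c
    apply h.inj
    · exact congrArg (fun t : HomSet R resR A' => t.1 c) e₁
    · exact congrArg (fun t : HomSet R resR A'' => t.1 c) e₂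
  · rw [cmp_surjective_iff]
    intro x' x'' hx
    obtain ⟨φ', rfl⟩ := (hξ A').2 x'
    obtain ⟨φ'', rfl⟩ := (hξ A'').2 x''
    rw [← ξ.natural, ← ξ.natural] at hx
    have e := (hξ A).1 hx
    obtain ⟨l, hl₁, hl₂⟩ := IsFibreProd.exists_lift_homSet h φ' φ'' e
    refine ⟨ξ.app B l, ?_, ?_⟩
    · rw [← ξ.natural, hl₁]
    · rw [← ξ.natural, hl₂]

end Groth.Agent.H61

namespace Groth.Agent.H61

open ArtFun ArtFun.Art Groth.Agent.H63

variable {Λ : Type u} {k : Type u} [CommRing Λ] [Field k] [Algebra Λ k]

theorem cring_maximalIdeal_eq_ker (S : CRing Λ k) :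
    IsLocalRing.maximalIdeal S.carrier = RingHom.ker S.res :=
  (IsLocalRing.ker_eq_maximalIdeal (S.res : S.carrier →+* k) S.res_surjective).symm

/-- tangent vectors of `h_S` are determined by their values on generators of the maximal ideal -/
theorem homSet_dual_ext (hk : Function.Surjective (algebraMap Λ k)) (S : CRing Λ k) {d : ℕ}
    (s : Fin d → S.carrier) (hs : Ideal.span (Set.range s) = IsLocalRing.maximalIdeal S.carrier)
    (φ φ' : HomSet S.carrier S.res (dual Λ k)) (h : ∀ i, φ.1 (s i) = φ'.1 (s i)) : φ = φ' := by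
  apply Subtype.ext
  apply AlgHom.ext
  intro x
  obtain ⟨l, hl⟩ := hk (S.res x)
  have hxm : x - algebraMap Λ S.carrier l ∈ IsLocalRing.maximalIdeal S.carrier := by
    rw [cring_maximalIdeal_eq_ker, RingHom.mem_ker, map_sub, AlgHom.commutes, hl, sub_self]
  rw [← hs] at hxm
  obtain ⟨c, hc⟩ := (Ideal.mem_span_range_iff_exists_fun).1 hxm
  have hx : x = algebraMap Λ S.carrier l + ∑ i, c i * s i := by rw [hc]; ring
  have hprod : ∀ i, φ.1 (c i) * φ.1 (s i) = φ'.1 (c i) * φ'.1 (s i) := by
    intro i
    rw [← h i]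
    -- φ (c i) and φ' (c i) have the same first component and φ (s i) is in the maximal ideal
    have hsi : φ.1 (s i) ∈ IsLocalRing.maximalIdeal (dual Λ k) := by
      apply homSet_mem_maximalIdeal' φ
      have : s i ∈ IsLocalRing.maximalIdeal S.carrier := by
        rw [← hs]; exact Ideal.subset_span ⟨i, rfl⟩
      rw [cring_maximalIdeal_eq_ker] at this
      exact this
    have hdiff : φ.1 (c i) - φ'.1 (c i) ∈ IsLocalRing.maximalIdeal (dual Λ k) := by
      rw [mem_maximalIdeal_iff, map_sub, homSet_res_apply, homSet_res_apply, sub_self]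
    have hz : (φ.1 (c i) - φ'.1 (c i)) * φ.1 (s i) = 0 := by
      have h1 := Ideal.mul_mem_mul hdiff hsi
      have h2 : IsLocalRing.maximalIdeal (dual Λ k) * IsLocalRing.maximalIdeal (dual Λ k) = ⊥ := by
        rw [maximalIdeal_eq_ker_res]
        exact tsze_ker_mul_ker Λ k
      rw [h2, Ideal.mem_bot] at h1
      exact h1
    rw [sub_mul, sub_eq_zero] at hz
    exact hz
  rw [hx, map_add, map_add, AlgHom.commutes, AlgHom.commutes, map_sum, map_sum]
  congr 1
  apply Finset.sum_congr rfl
  intro i _
  rw [map_mul, map_mul, hprod i]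

end Groth.Agent.H61

namespace Groth.Agent.H61

open ArtFun ArtFun.Art Groth.Agent.H63

variable {Λ : Type u} {k : Type u} [CommRing Λ] [Field k] [Algebra Λ k]

/-- The second component of an element of `k[ε]`. -/
def dualSnd (x : (dual Λ k : Art Λ k)) : k := TrivSqZeroExt.snd (x : TrivSqZeroExt k k)

/-- The first component of an element of `k[ε]`. -/
def dualFst (x : (dual Λ k : Art Λ k)) : k := TrivSqZeroExt.fst (x : TrivSqZeroExt k k)

theorem dual_ext' (x y : (dual Λ k : Art Λ k)) (h₁ : dualFst x = dualFst y) (h₂ : dualSnd x = dualSnd y) :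
    x = y := TrivSqZeroExt.ext h₁ h₂

theorem dualFst_eq_res (x : (dual Λ k : Art Λ k)) : dualFst x = (dual Λ k).res x := rfl

theorem dualSnd_plus (z : (dual2 Λ k : Art Λ k)) :
    dualSnd ((plus : dual2 Λ k ⟶ dual Λ k) z) = dualSnd ((pr₁ : dual2 Λ k ⟶ dual Λ k) z) +
      dualSnd ((pr₂ : dual2 Λ k ⟶ dual Λ k) z) := rfl

theorem dualSnd_scale (c : k) (z : (dual Λ k : Art Λ k)) :
    dualSnd ((scale c : dual Λ k ⟶ dual Λ k) z) = c * dualSnd z := rfl

/-- A prorepresentable functor has finite-dimensional tangent space (when `Λ → k` is surjective). -/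
theorem hfin_of_isUniversal (hk : Function.Surjective (algebraMap Λ k)) (S : CRing Λ k)
    {F : Art Λ k ⥤ Type v} [TangentStr F] (ξ : Family S.carrier S.res F) (hξ : IsUniversal ξ) : Hfin F := by
  classical
  have hfg : (IsLocalRing.maximalIdeal S.carrier).FG := IsNoetherian.noetherian _
  obtain ⟨d, s, hs⟩ := Submodule.fg_iff_exists_fin_generating_family.1 hfg
  have hs' : Ideal.span (Set.range s) = IsLocalRing.maximalIdeal S.carrier := hs
  let e := Equiv.ofBijective (ξ.app (dual Λ k)) (hξ _)
  have he : ∀ φ, e φ = ξ.app (dual Λ k) φ := fun φ => rfl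
  let Φ : TangentSpace F →ₗ[k] (Fin d → k) :=
    { toFun := fun x i => dualSnd ((e.symm x.val).1 (s i))
      map_add' := by
        intro x y
        obtain ⟨ψ, hψ₁, hψ₂⟩ := IsFibreProd.exists_lift_homSet (isFibreProd_dual2 (Λ := Λ) (k := k))
          (e.symm x.val) (e.symm y.val) (by rw [homSet_base_eq (HomSet.map _ _), homSet_base_eq (HomSet.map _ (e.symm y.val))])
        have hz₁ : F.map pr₁ (ξ.app _ ψ) = x.val := by
          rw [← ξ.natural, hψ₁, ← he, Equiv.apply_symm_apply]
        have hz₂ : F.map pr₂ (ξ.app _ ψ) = y.val := by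
          rw [← ξ.natural, hψ₂, ← he, Equiv.apply_symm_apply]
        have hadd := tangent_add_eq (F := F) (ξ.app _ ψ)
        rw [hz₁, hz₂, ← ξ.natural] at hadd
        have hsum : e.symm (x + y).val = HomSet.map plus ψ := by
          rw [Equiv.symm_apply_eq, he]
          exact hadd
        funext i
        change dualSnd ((e.symm (x + y).val).1 (s i)) =
          dualSnd ((e.symm x.val).1 (s i)) + dualSnd ((e.symm y.val).1 (s i))
        rw [hsum, ← hψ₁, ← hψ₂]
        exact dualSnd_plus _
      map_smul' := by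
        intro c x
        have hsm := tangent_smul_eq (F := F) c x
        have hsmul : e.symm (c • x).val = HomSet.map (scale c) (e.symm x.val) := by
          rw [Equiv.symm_apply_eq, he, ξ.natural, ← he, Equiv.apply_symm_apply]
          exact hsm
        funext i
        change dualSnd ((e.symm (c • x).val).1 (s i)) = c * dualSnd ((e.symm x.val).1 (s i))
        rw [hsmul]
        exact dualSnd_scale c _ }
  have hinj : Function.Injective Φ := by
    intro x y hxy
    have h1 : e.symm x.val = e.symm y.val := by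
      apply homSet_dual_ext hk S s hs'
      intro i
      apply dual_ext'
      · rw [dualFst_eq_res, dualFst_eq_res, homSet_res_apply, homSet_res_apply]
      · exact congrFun hxy i
    exact e.symm.injective h1
  exact Module.Finite.of_injective Φ hinj

end Groth.Agent.H61
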