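import Groth.Agent.H61.CRingLift

set_option autoImplicit false
universe u v

open CategoryTheory

namespace Groth.Agent.H61

open ArtFun ArtFun.Art

variable {Λ : Type u} {k : Type u} [CommRing Λ] [Field k] [Algebra Λ k]

theorem isVersal_of_isUniversal {R : Type u} [CommRing R] [Algebra Λ R] {resR : R →ₐ[Λ] k}
    {F : Art Λ k ⥤ Type v} (ξ : Family R resR F) (h : IsUniversal ξ) : IsVersal ξ := by
  intro B A μ _ φ y hy
  obtain ⟨ψ, rfl⟩ := (h B).2 y
  refine ⟨ψ, (h A).1 ?_, rfl⟩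
  rw [ξ.natural, hy]

theorem along_along {R S T : Type u} [CommRing R] [Algebra Λ R] {resR : R →ₐ[Λ] k}
    [CommRing S] [Algebra Λ S] {resS : S →ₐ[Λ] k} [CommRing T] [Algebra Λ T] {resT : T →ₐ[Λ] k}
    {F : Art Λ k ⥤ Type v} (ξ : Family R resR F) (g : R →ₐ[Λ] S) (hg : resS.comp g = resR)
    (g' : S →ₐ[Λ] T) (hg' : resT.comp g' = resS) :
    (ξ.along g hg).along g' hg' =
      ξ.along (g'.comp g) (by rw [← AlgHom.comp_assoc, hg', hg]) :=
  family_ext fun _ _ => rfl

theorem along_id {R : Type u} [CommRing R] [Algebra Λ R] {resR : R →ₐ[Λ] k}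
    {F : Art Λ k ⥤ Type v} (ξ : Family R resR F) :
    ξ.along (AlgHom.id Λ R) (AlgHom.comp_id _) = ξ :=
  family_ext fun _ _ => rfl

theorem exists_along_eq_of_universal {F : Art Λ k ⥤ Type v} (P : ProRep F) (S : CRing Λ k)
    (ζ : Family S.carrier S.res F) :
    ∃ (φ : P.ring.carrier →ₐ[Λ] S.carrier) (hφ : S.res.comp φ = P.ring.res),
      P.family.along φ hφ = ζ := by
  obtain ⟨φ, hφ, h⟩ := exists_along_toFormalElt_eq P.family (isVersal_of_isUniversal _ P.universal)
    S (P.universal _).2 ζ.toFormalElt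
  exact ⟨φ, hφ, toFormalElt_injective h⟩

theorem proRep_unique {F : Art Λ k ⥤ Type v} (P Q : ProRep F) :
    ∃! e : P.ring.carrier ≃ₐ[Λ] Q.ring.carrier,
      ∃ he : Q.ring.res.comp e.toAlgHom = P.ring.res, P.family.along e.toAlgHom he = Q.family := by
  obtain ⟨φ, hφ, h1⟩ := exists_along_eq_of_universal P Q.ring Q.family
  obtain ⟨ψ, hψ, h2⟩ := exists_along_eq_of_universal Q P.ring P.family
  have hinjP : ∀ A, Function.Injective (P.family.app A) := fun A => (P.universal A).1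
  have hinjQ : ∀ A, Function.Injective (Q.family.app A) := fun A => (Q.universal A).1
  have e1 : ψ.comp φ = AlgHom.id Λ P.ring.carrier := by
    apply algHom_eq_of_along_eq P.family hinjP P.ring _ _
      (by rw [← AlgHom.comp_assoc, hψ, hφ]) (AlgHom.comp_id _)
    rw [← along_along P.family φ hφ ψ hψ, h1, h2, along_id]
  have e2 : φ.comp ψ = AlgHom.id Λ Q.ring.carrier := by
    apply algHom_eq_of_along_eq Q.family hinjQ Q.ring _ _
      (by rw [← AlgHom.comp_assoc, hφ, hψ]) (AlgHom.comp_id _)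
    rw [← along_along Q.family ψ hψ φ hφ, h2, h1, along_id]
  refine ⟨AlgEquiv.ofAlgHom φ ψ e2 e1, ⟨hφ, h1⟩, ?_⟩
  rintro e' ⟨he', h'⟩
  apply AlgEquiv.coe_toAlgHom_injective
  apply algHom_eq_of_along_eq P.family hinjP Q.ring _ _ he' hφ
  rw [h', h1]

end Groth.Agent.H61
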