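import Mathlib

/-!
# The right derived functor `F.rightDerivedFunctorPlus` and distinguished triangles

Mathlib (at this commit) does not yet know that `F.rightDerivedFunctorPlus` is triangulated.
We prove the weak form that is enough for long exact sequences: if `X ⟶ Y ⟶ Z` in `D⁺(C)` can be
completed to a distinguished triangle (in `D(C)`), then `RF X ⟶ RF Y ⟶ RF Z` is isomorphic to
the first two maps of a distinguished triangle of `D⁺(D)`.
-/

open CategoryTheory Limits Pretriangulated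

namespace Groth.Agent.H61

universe w w' v v' u u'

section

variable {C : Type u} [Category.{v} C] [Abelian C]

/-- objects of `K⁺(Inj C)` are K-injective in `K⁺(C)`. -/
lemma isKInjective_mapHomotopyCategoryPlus_obj (Y : HomotopyCategory.Plus (InjectiveObject C)) :
    CochainComplex.IsKInjective (((InjectiveObject.ι C).mapHomotopyCategoryPlus.obj Y).1.as) := by
  obtain ⟨K, rfl⟩ := HomotopyCategory.Plus.quotient_obj_surjective Y
  exact inferInstanceAs (CochainComplex.IsKInjective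
      (((InjectiveObject.ι C).mapHomologicalComplex (.up ℤ)).obj K.obj))

end

section

variable {C : Type u} [Category.{v} C] [Abelian C] [HasDerivedCategory.{w} C] [EnoughInjectives C]
  {D : Type u'} [Category.{v'} D] [Abelian D] [HasDerivedCategory.{w'} D]
  (F : C ⥤ D) [F.Additive]

/-- Weak triangulatedness of `RF = F.rightDerivedFunctorPlus`: if `u : X ⟶ Y`, `v : Y ⟶ Z` in `D⁺(C)`
are the first two maps of a distinguished triangle of `D(C)`, then `RF u`, `RF v` are isomorphic to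
the first two maps of a distinguished triangle of `D⁺(D)`. -/
theorem exists_distTriang_rightDerivedFunctorPlus
    {X Y Z : DerivedCategory.Plus C} (u : X ⟶ Y) (v : Y ⟶ Z)
    (w : DerivedCategory.Plus.ι.obj Z ⟶ (DerivedCategory.Plus.ι.obj X)⟦(1:ℤ)⟧)
    (hT : Triangle.mk (DerivedCategory.Plus.ι.map u) (DerivedCategory.Plus.ι.map v) w ∈
      distTriang (DerivedCategory C)) :
    ∃ (T' : Triangle (DerivedCategory.Plus D)) (_ : T' ∈ distTriang _)
      (e₁ : F.rightDerivedFunctorPlus.obj X ≅ T'.obj₁)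
      (e₂ : F.rightDerivedFunctorPlus.obj Y ≅ T'.obj₂)
      (e₃ : F.rightDerivedFunctorPlus.obj Z ≅ T'.obj₃),
      F.rightDerivedFunctorPlus.map u ≫ e₂.hom = e₁.hom ≫ T'.mor₁ ∧
      F.rightDerivedFunctorPlus.map v ≫ e₃.hom = e₂.hom ≫ T'.mor₂ := by
  let J := (InjectiveObject.ι C).mapHomotopyCategoryPlus
  let Qp := DerivedCategory.Plus.Qh (C := C)
  let G := F.mapHomotopyCategoryPlus ⋙ DerivedCategory.Plus.Qh
  let RF := F.rightDerivedFunctorPlus
  let α : G ⟶ Qp ⋙ RF := F.rightDerivedFunctorPlusUnit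
  obtain ⟨Y₁, ⟨a₁⟩⟩ := Functor.EssSurj.mem_essImage (J ⋙ Qp) X
  obtain ⟨Y₂, ⟨a₂⟩⟩ := Functor.EssSurj.mem_essImage (J ⋙ Qp) Y
  obtain ⟨φ, hφ⟩ := (DerivedCategory.Plus.Qh_map_bijective_of_isKInjective (J.obj Y₁) (J.obj Y₂)
    (isKInjective_mapHomotopyCategoryPlus_obj Y₂)).2 (a₁.hom ≫ u ≫ a₂.inv)
  obtain ⟨ψ, rfl⟩ := J.map_surjective φ
  obtain ⟨Y₃, i, p, hY⟩ := distinguished_cocone_triangle ψ
  have h1 := J.map_distinguished _ hY
  have h2 := Qp.map_distinguished _ h1
  have h3 := DerivedCategory.Plus.ι.map_distinguished _ h2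
  have hφ' : Qp.map (J.map ψ) ≫ a₂.hom = a₁.hom ≫ u := by
    change DerivedCategory.Plus.Qh.map (J.map ψ) ≫ a₂.hom = a₁.hom ≫ u
    rw [hφ]; simp
  let E := isoTriangleOfIso₁₂ _ _ h3 hT (DerivedCategory.Plus.ι.mapIso a₁)
    (DerivedCategory.Plus.ι.mapIso a₂) (by
      change DerivedCategory.Plus.ι.map (Qp.map (J.map ψ)) ≫ DerivedCategory.Plus.ι.map a₂.hom =
        DerivedCategory.Plus.ι.map a₁.hom ≫ DerivedCategory.Plus.ι.map u
      rw [← Functor.map_comp, ← Functor.map_comp, hφ'])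
  obtain ⟨a₃, e3⟩ : ∃ a₃ : Qp.obj (J.obj Y₃) ≅ Z,
      DerivedCategory.Plus.ι.map a₃.hom = E.hom.hom₃ := by
    let c : DerivedCategory.Plus.ι.obj (Qp.obj (J.obj Y₃)) ⟶ DerivedCategory.Plus.ι.obj Z :=
      E.hom.hom₃
    have hc : IsIso c := (inferInstance : IsIso (Triangle.π₃.map E.hom))
    have : IsIso (DerivedCategory.Plus.ι.map (DerivedCategory.Plus.ι.preimage c)) := by
      rw [Functor.map_preimage]; exact hc
    have := isIso_of_fully_faithful DerivedCategory.Plus.ι (DerivedCategory.Plus.ι.preimage c)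
    exact ⟨asIso (DerivedCategory.Plus.ι.preimage c), by
      rw [asIso_hom, Functor.map_preimage]⟩
  have ha₃ : Qp.map (J.map i) ≫ a₃.hom = a₂.hom ≫ v := by
    apply DerivedCategory.Plus.ι.map_injective
    have := E.hom.comm₂
    simp only [Functor.map_comp]
    have e2 : E.hom.hom₂ = DerivedCategory.Plus.ι.map a₂.hom :=
      isoTriangleOfIso₁₂_hom_hom₂ ..
    rw [e3, ← e2]
    exact this
  have hα : ∀ Y' : HomotopyCategory.Plus (InjectiveObject C), IsIso (α.app (J.obj Y')) :=
    fun Y' => inferInstanceAs (IsIso (F.rightDerivedFunctorPlusUnit.app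
      ((InjectiveObject.ι C).mapHomotopyCategoryPlus.obj Y')))
  have nat : ∀ {A B : HomotopyCategory.Plus (InjectiveObject C)} (f : A ⟶ B)
      {A' B' : DerivedCategory.Plus C} (a : Qp.obj (J.obj A) ≅ A') (b : Qp.obj (J.obj B) ≅ B')
      (g : A' ⟶ B') (_ : Qp.map (J.map f) ≫ b.hom = a.hom ≫ g),
      RF.map g ≫ (RF.mapIso b.symm ≪≫ (asIso (α.app (J.obj B))).symm).hom =
        (RF.mapIso a.symm ≪≫ (asIso (α.app (J.obj A))).symm).hom ≫ G.map (J.map f) := by
    intro A B f A' B' a b g h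
    have h' : g ≫ b.inv = a.inv ≫ Qp.map (J.map f) := by
      rw [Iso.comp_inv_eq, Category.assoc, h, Iso.inv_hom_id_assoc]
    have n := α.naturality (J.map f)
    simp only [Iso.trans_hom, Functor.mapIso_hom, Iso.symm_hom, asIso_inv, Category.assoc]
    rw [← cancel_mono (α.app (J.obj B))]
    simp only [Category.assoc, IsIso.inv_hom_id, Category.comp_id]
    rw [n, IsIso.inv_hom_id_assoc]
    change RF.map g ≫ RF.map b.inv = RF.map a.inv ≫ RF.map (Qp.map (J.map f))
    rw [← Functor.map_comp, ← Functor.map_comp, h']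
  refine ⟨G.mapTriangle.obj (J.mapTriangle.obj (Triangle.mk ψ i p)),
    G.map_distinguished _ h1,
    RF.mapIso a₁.symm ≪≫ (asIso (α.app (J.obj Y₁))).symm,
    RF.mapIso a₂.symm ≪≫ (asIso (α.app (J.obj Y₂))).symm,
    RF.mapIso a₃.symm ≪≫ (asIso (α.app (J.obj Y₃))).symm, ?_, ?_⟩
  · exact nat ψ a₁ a₂ u hφ'
  · exact nat i a₂ a₃ v ha₃

end

section

lemma shortExact_of_subobject_eq {A : Type*} [Category A] [Abelian A] {X₁ X₂ X₃ : A}
    (f : X₁ ⟶ X₂) (g : X₂ ⟶ X₃) [Mono f] [Epi g]
    (hex : kernelSubobject g = imageSubobject f) :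
    ∃ (h : f ≫ g = 0), (ShortComplex.mk f g h).ShortExact := by
  have h : f ≫ g = 0 := by
    rw [← imageSubobject_arrow_comp f, Category.assoc]
    have : (imageSubobject f).arrow = (Subobject.ofLE _ _ hex.ge) ≫ (kernelSubobject g).arrow := by
      simp
    rw [this, Category.assoc, kernelSubobject_arrow_comp, comp_zero, comp_zero]
  refine ⟨h, ?_⟩
  have hex' : (ShortComplex.mk f g h).Exact :=
    (ShortComplex.exact_iff_image_eq_kernel _).2 hex.symm
  exact ShortComplex.ShortExact.mk' hex' ‹_› ‹_›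

/-- transport exactness (in the `kernelSubobject = imageSubobject` form) along isomorphisms. -/
lemma kernelSubobject_eq_imageSubobject_of_iso {A : Type*} [Category A] [Abelian A]
    {X Y Z X' Y' Z' : A} {a : X ⟶ Y} {b : Y ⟶ Z} (hab : a ≫ b = 0)
    (hex : (ShortComplex.mk a b hab).Exact)
    {a' : X' ⟶ Y'} {b' : Y' ⟶ Z'} (α : X' ≅ X) (β : Y' ≅ Y) (γ : Z' ≅ Z)
    (h₁ : a' ≫ β.hom = α.hom ≫ a) (h₂ : b' ≫ γ.hom = β.hom ≫ b) :
    kernelSubobject b' = imageSubobject a' := by
  have hab' : a' ≫ b' = 0 := by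
    rw [← cancel_mono γ.hom, Category.assoc, h₂, reassoc_of% h₁, hab]; simp
  have : (ShortComplex.mk a' b' hab').Exact :=
    ShortComplex.exact_of_iso (ShortComplex.isoMk α β γ h₁.symm h₂.symm).symm hex
  exact ((ShortComplex.exact_iff_image_eq_kernel _).1 this).symm

variable {C : Type u} [Category.{v} C] [Abelian C] [HasDerivedCategory.{w} C]

/-- A degreewise short exact sequence of bounded below complexes gives a distinguished triangle
of `D(C)` whose first two maps are the images of the given maps. -/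
theorem exists_distTriang_of_shortExact {X₁ X₂ X₃ : CochainComplex.Plus C} (f : X₁ ⟶ X₂)
    (g : X₂ ⟶ X₃) (h : f.hom ≫ g.hom = 0)
    (hS : (ShortComplex.mk f.hom g.hom h).ShortExact) :
    ∃ w, Triangle.mk
      (DerivedCategory.Plus.ι.map
        (DerivedCategory.Plus.Qh.map ((HomotopyCategory.Plus.quotient C).map f)))
      (DerivedCategory.Plus.ι.map
        (DerivedCategory.Plus.Qh.map ((HomotopyCategory.Plus.quotient C).map g)))
      w ∈ distTriang (DerivedCategory C) := by
  have hT := DerivedCategory.triangleOfSES_distinguished hS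
  let e : ∀ K : CochainComplex.Plus C,
      DerivedCategory.Plus.ι.obj
        (DerivedCategory.Plus.Qh.obj ((HomotopyCategory.Plus.quotient C).obj K)) ≅
        DerivedCategory.Q.obj K.obj := fun K => (DerivedCategory.quotientCompQhIso C).app K.obj
  have he : ∀ {K L : CochainComplex.Plus C} (φ : K ⟶ L),
      DerivedCategory.Plus.ι.map
        (DerivedCategory.Plus.Qh.map ((HomotopyCategory.Plus.quotient C).map φ)) ≫
        (e L).hom = (e K).hom ≫ DerivedCategory.Q.map φ.hom := by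
    intro K L φ
    exact (DerivedCategory.quotientCompQhIso C).hom.naturality φ.hom
  refine ⟨(e X₃).hom ≫ DerivedCategory.triangleOfSESδ hS ≫ ((e X₁).inv)⟦(1:ℤ)⟧', ?_⟩
  refine isomorphic_distinguished _ hT _ (Triangle.isoMk _ _ (e X₁) (e X₂) (e X₃) ?_ ?_ ?_)
  · exact he f
  · exact he g
  · change ((e X₃).hom ≫ DerivedCategory.triangleOfSESδ hS ≫ ((e X₁).inv)⟦(1:ℤ)⟧') ≫
        ((e X₁).hom)⟦(1:ℤ)⟧' = (e X₃).hom ≫ DerivedCategory.triangleOfSESδ hS
    simp only [Category.assoc, ← Functor.map_comp, Iso.inv_hom_id]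
    rw [CategoryTheory.Functor.map_id, Category.comp_id]

end

end Groth.Agent.H61
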