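import Mathlib
import Groth.Agent.H61.EssFTPresent
import Groth.Agent.Lead.RegularLocal4

/-!
# Regular local rings essentially of finite type with a rational point have the lifting property
-/

set_option autoImplicit false
set_option linter.style.haveILetI false
universe u
open CategoryTheory

namespace Groth.Agent.H61
open ArtFun ArtFun.Art IsLocalRing

section Der

variable {k : Type u} [Field k] {P : Type u} [CommRing P] [IsLocalRing P] [IsNoetherianRing P]
  [Algebra k P] (resP : P →ₐ[k] k)

/-- Coordinate derivations `P → k` dual to a minimal system of generators of the maximal ideal. -/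
theorem exists_coordinate_derivations {d : ℕ} (x : Fin d → P)
    (hx : Ideal.span (Set.range x) = maximalIdeal P)
    (hd : Module.finrank (ResidueField P) (CotangentSpace P) = d) :
    ∃ L : Fin d → P → k, (∀ i a b, L i (a + b) = L i a + L i b) ∧
      (∀ i a b, L i (a * b) = resP a * L i b + resP b * L i a) ∧
      (∀ i c, L i (algebraMap k P c) = 0) ∧
      (∀ i j, L i (x j) = if i = j then 1 else 0) := by
  classical
  have hres_surj : Function.Surjective resP := fun c => ⟨algebraMap k P c, by simp⟩
  have hker : RingHom.ker (resP : P →+* k) = maximalIdeal P :=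
    IsLocalRing.ker_eq_maximalIdeal (resP : P →+* k) hres_surj
  have hmem : ∀ p : P, p - algebraMap k P (resP p) ∈ maximalIdeal P := by
    intro p
    rw [← hker, RingHom.mem_ker]
    simp
  have hxm : ∀ i, x i ∈ maximalIdeal P := fun i => by
    rw [← hx]; exact Ideal.subset_span ⟨i, rfl⟩
  -- the basis
  let v : Fin d → CotangentSpace P := fun i => (maximalIdeal P).toCotangent ⟨x i, hxm i⟩
  have hspan : ⊤ ≤ Submodule.span (ResidueField P) (Set.range v) := by
    have h1 : Submodule.span P (Set.range fun i : Fin d => (⟨x i, hxm i⟩ : maximalIdeal P)) = ⊤ :=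
      (Submodule.span_range_subtype_eq_top_iff (maximalIdeal P) hxm).2 hx
    have h2 := (CotangentSpace.span_image_eq_top_iff
      (s := Set.range fun i : Fin d => (⟨x i, hxm i⟩ : maximalIdeal P))).2 h1
    rw [← Set.range_comp] at h2
    exact le_of_eq h2.symm
  let b : Module.Basis (Fin d) (ResidueField P) (CotangentSpace P) :=
    basisOfTopLeSpanOfCardEqFinrank v hspan (by rw [Fintype.card_fin, hd])
  have hb : ∀ i, b i = v i := fun i => by
    simp [b]
  -- the residue field is `k`
  let ρ : ResidueField P →+* k := Ideal.Quotient.lift (maximalIdeal P) (resP : P →+* k)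
    (fun a ha => by rw [← hker] at ha; exact ha)
  have hρ : ∀ a : P, ρ (residue P a) = resP a := fun a => rfl
  -- the class of `p - res p`
  let cl : P → CotangentSpace P := fun p =>
    (maximalIdeal P).toCotangent ⟨p - algebraMap k P (resP p), hmem p⟩
  have hcl_add : ∀ a b', cl (a + b') = cl a + cl b' := by
    intro a b'
    simp only [cl]
    rw [← map_add]
    congr 1
    ext
    simp only [map_add, Submodule.coe_add]
    ring
  have hcl_mul : ∀ a b', cl (a * b') = a • cl b' + algebraMap k P (resP b') • cl a := by
    intro a b'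
    simp only [cl]
    rw [← map_smul, ← map_smul, ← map_add]
    congr 1
    ext
    simp only [map_mul, Submodule.coe_add, Submodule.coe_smul, smul_eq_mul]
    ring
  have hcl_x : ∀ j, cl (x j) = v j := by
    intro j
    simp only [cl, v]
    congr 1
    ext
    have : resP (x j) = 0 := by
      have := hxm j
      rw [← hker] at this
      exact this
    simp [this]
  have hcl_alg : ∀ c, cl (algebraMap k P c) = 0 := by
    intro c
    simp only [cl]
    have : (⟨algebraMap k P c - algebraMap k P (resP (algebraMap k P c)), hmem _⟩ : maximalIdeal P)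
        = 0 := by
      ext
      simp
    rw [this, map_zero]
  have hsmul : ∀ (a : P) (w : CotangentSpace P), a • w = residue P a • w := by
    intro a w
    rfl
  refine ⟨fun i p => ρ (b.coord i (cl p)), ?_, ?_, ?_, ?_⟩
  · intro i a b'
    simp only [hcl_add, map_add]
  · intro i a b'
    simp only [hcl_mul, map_add, hsmul, map_smul, smul_eq_mul, map_mul, hρ]
    simp
  · intro i c
    simp only [hcl_alg, map_zero]
  · intro i j
    simp only [hcl_x, ← hb, Module.Basis.coord_apply, Module.Basis.repr_self]
    by_cases hij : i = j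
    · subst hij; simp
    · rw [Finsupp.single_eq_of_ne' (Ne.symm hij)] <;> simp [hij]

end Der

section Lifts

open Groth.Agent.H63

variable {k : Type u} [Field k]

/-- A regular local `k`-algebra essentially of finite type with a `k`-rational point has the
infinitesimal lifting property. -/
theorem hasLifts_of_isRegularLocalRing {A : Type u} [CommRing A] [IsLocalRing A] [Algebra k A]
    [Algebra.EssFiniteType k A] (hreg : IsRegularLocalRing A) (res : A →ₐ[k] k) :
    HasLifts A res := by
  classical
  obtain ⟨P, _, _, hPreg, π, hπ, hlift⟩ := exists_regular_presentation res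
  haveI : IsRegularLocalRing (P ⧸ RingHom.ker (π : P →+* A)) :=
    IsRegularLocalRing.of_ringEquiv (RingHom.quotientKerEquivOfSurjective hπ).symm
  obtain ⟨d, hd, -⟩ := Groth.Agent.Lead.RLR.exists_ringKrullDim_eq P
  obtain ⟨x, c, hc, hxspan, hI⟩ := Groth.Agent.Lead.RLR.exists_generators P d hd
    (RingHom.ker (π : P →+* A))
  have hd' : Module.finrank (ResidueField P) (CotangentSpace P) = d := by
    have h1 := (IsRegularLocalRing.iff_finrank_cotangentSpace P).1 hPreg
    rw [hd] at h1
    exact_mod_cast h1
  obtain ⟨L, hLadd, hLmul, hLalg, hLx⟩ := exists_coordinate_derivations (res.comp π) x hxspan hd'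
  intro B A' μ hμ
  refine surjective_induction (fun A' B μ => ∀ φ : HomSet A res A', ∃ ψ : HomSet A res B,
    HomSet.map μ ψ = φ) ?_ ?_ ?_ μ hμ
  · intro A' B e he φ
    refine ⟨HomSet.map (inv e) φ, ?_⟩
    apply Subtype.ext
    apply AlgHom.ext
    intro a
    show e ((inv e) (φ.1 a)) = φ.1 a
    have : inv e ≫ e = 𝟙 _ := IsIso.inv_hom_id e
    exact congrArg (fun t : A' ⟶ A' => t (φ.1 a)) this
  · intro A' B μ hsm φ
    have hμs : Function.Surjective μ := hsm.1
    have hmK : IsLocalRing.maximalIdeal B * RingHom.ker μ.toAlgHom = ⊥ := hsm.2.2.2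
    have hKm := ker_le_maximalIdeal μ
    have hmul0 : ∀ b ∈ IsLocalRing.maximalIdeal B, ∀ y ∈ RingHom.ker μ.toAlgHom, b * y = 0 := by
      intro b hb y hy
      have : b * y ∈ IsLocalRing.maximalIdeal B * RingHom.ker μ.toAlgHom := Ideal.mul_mem_mul hb hy
      rw [hmK] at this
      exact this
    obtain ⟨ψ₀, hψ₀⟩ := hlift μ hμs (homSetComp π rfl φ)
    have hψ₀μ : ∀ p : P, μ (ψ₀.1 p) = φ.1 (π p) := fun p =>
      congrArg (fun t : HomSet P (res.comp π) A' => t.1 p) hψ₀
    -- the correction
    let y : Fin c → B := fun i => ψ₀.1 (x (Fin.castLE hc i))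
    have hxker : ∀ i : Fin c, x (Fin.castLE hc i) ∈ RingHom.ker (π : P →+* A) := by
      intro i
      rw [hI]
      exact Ideal.subset_span ⟨i, rfl⟩
    have hyK : ∀ i, y i ∈ RingHom.ker μ.toAlgHom := by
      intro i
      rw [RingHom.mem_ker]
      show μ (ψ₀.1 _) = 0
      rw [hψ₀μ]
      have : π (x (Fin.castLE hc i)) = 0 := hxker i
      rw [this, map_zero]
    let D : P → B := fun p => ∑ i : Fin c, L (Fin.castLE hc i) p • y i
    have hDK : ∀ p, D p ∈ RingHom.ker μ.toAlgHom := fun p =>
      Ideal.sum_mem _ (fun i _ => by
        rw [Algebra.smul_def]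
        exact Ideal.mul_mem_left _ _ (hyK i))
    have hDadd : ∀ a b, D (a + b) = D a + D b := by
      intro a b
      simp only [D, hLadd, add_smul, Finset.sum_add_distrib]
    have hDmul : ∀ a b, D (a * b) = (res.comp π) a • D b + (res.comp π) b • D a := by
      intro a b
      simp only [D, hLmul, add_smul, Finset.sum_add_distrib, Finset.smul_sum, mul_smul]
    have hDalg : ∀ r, D (algebraMap k P r) = 0 := by
      intro r
      simp only [D, hLalg, zero_smul, Finset.sum_const_zero]
    have hDx : ∀ i : Fin c, D (x (Fin.castLE hc i)) = y i := by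
      intro i
      simp only [D, hLx]
      rw [Finset.sum_eq_single i]
      · simp
      · intro j _ hji
        have : Fin.castLE hc j ≠ Fin.castLE hc i := fun h => hji (Fin.castLE_injective hc h)
        simp [this]
      · simp
    have hψ₀m : ∀ a : P, ψ₀.1 a - algebraMap k B ((res.comp π) a) ∈ IsLocalRing.maximalIdeal B := by
      intro a
      rw [mem_maximalIdeal_iff, map_sub, homSet_res_apply, AlgHom.commutes]
      simp
    have hψ₀D : ∀ a b : P, ψ₀.1 a * D b = (res.comp π) a • D b := by
      intro a b
      have := hmul0 _ (hψ₀m a) _ (hDK b)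
      rw [sub_mul, sub_eq_zero] at this
      rw [this, Algebra.smul_def]
    have hDD : ∀ a b : P, D a * D b = 0 := fun a b => hmul0 _ (hKm (hDK a)) _ (hDK b)
    let ψ' : P →ₐ[k] B :=
      { toFun := fun p => ψ₀.1 p - D p
        map_one' := by
          have : D 1 = 0 := by
            have := hDalg 1
            rwa [map_one] at this
          rw [map_one, this, sub_zero]
        map_mul' := by
          intro a b
          rw [map_mul, hDmul, sub_mul, mul_sub, mul_sub, hψ₀D, hDD, mul_comm (D a) (ψ₀.1 b), hψ₀D]
          ring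
        map_zero' := by
          have : D 0 = 0 := by
            have := hDalg 0
            rwa [map_zero] at this
          rw [map_zero, this, sub_zero]
        map_add' := by
          intro a b
          rw [map_add, hDadd]
          ring
        commutes' := by
          intro r
          show ψ₀.1 (algebraMap k P r) - D (algebraMap k P r) = _
          rw [hDalg, sub_zero, AlgHom.commutes] }
    have hψ'apply : ∀ p, ψ' p = ψ₀.1 p - D p := fun p => rfl
    have hresD : ∀ p, B.res (D p) = 0 := by
      intro p
      have := hKm (hDK p)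
      rwa [mem_maximalIdeal_iff] at this
    let ψ : HomSet P (res.comp π) B := ⟨ψ', by
      apply AlgHom.ext
      intro p
      show B.res (ψ' p) = _
      rw [hψ'apply, map_sub, hresD, sub_zero, homSet_res_apply]⟩
    have hψμ : HomSet.map μ ψ = homSetComp π rfl φ := by
      apply Subtype.ext
      apply AlgHom.ext
      intro p
      show μ (ψ' p) = φ.1 (π p)
      rw [hψ'apply, map_sub, hψ₀μ]
      have : μ (D p) = 0 := hDK p
      rw [this, sub_zero]
    have hkerle : RingHom.ker π ≤ RingHom.ker ψ.1 := by
      show RingHom.ker (π : P →+* A) ≤ RingHom.ker (ψ' : P →+* B)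
      rw [hI, Ideal.span_le]
      rintro _ ⟨i, rfl⟩
      show ψ' (x (Fin.castLE hc i)) = 0
      rw [hψ'apply, hDx, sub_self]
    obtain ⟨φ', hφ'⟩ := exists_homSet_of_ker_le π rfl hπ ψ hkerle
    refine ⟨φ', ?_⟩
    apply homSetComp_injective π rfl hπ
    rw [homSetComp_map, hφ', hψμ]
  · intro A' B C p q hp hq φ
    obtain ⟨ψ₁, hψ₁⟩ := hq φ
    obtain ⟨ψ₂, hψ₂⟩ := hp ψ₁
    refine ⟨ψ₂, ?_⟩
    rw [← hψ₁, ← hψ₂]
    rfl

/-- If everything lifts along semismall extensions, the zero obstruction theory works. -/
noncomputable def ObsTheory.ofLifts {R : Type u} [CommRing R] [Algebra k R] {resR : R →ₐ[k] k}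
    (h : ∀ ⦃C' C : Art k k⦄ (p : C' ⟶ C), IsSemismallExt p → ∀ φ : HomSet R resR C,
      ∃ ψ : HomSet R resR C', HomSet.map p ψ = φ) : ObsTheory (hR R resR) PUnit.{u + 1} where
  obs _ _ _ := 0
  obs_eq_zero_iff p hp φ := ⟨fun _ => h p hp φ, fun _ => rfl⟩
  obs_quot p hp K hK hKJ hq φ := by simp

/-- finite local algebras over an algebraically closed field have residue field `k`. -/
theorem residue_surjective_of_isAlgClosed [IsAlgClosed k] (B : Type u) [CommRing B] [IsLocalRing B]
    [Algebra k B] [Module.Finite k B] :
    Function.Surjective ((IsLocalRing.residue B).comp (algebraMap k B)) := by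
  haveI : Module.Finite k (ResidueField B) :=
    Module.Finite.of_surjective (IsScalarTower.toAlgHom k B (ResidueField B)).toLinearMap
      (IsLocalRing.residue_surjective)
  have := (IsAlgClosed.algebraMap_bijective_of_isIntegral (k := k) (K := ResidueField B)).2
  exact this

end Lifts

end Groth.Agent.H61
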