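import Groth.Agent.H63.ArtDefFun
import Groth.Agent.H63.ArtVersal

set_option autoImplicit false
set_option linter.style.haveILetI false
set_option linter.unusedSectionVars false
universe u v
open CategoryTheory

namespace Groth.Agent.H61

open ArtFun ArtFun.Art Groth.Agent.H63

variable {Λ : Type u} {k : Type u} [CommRing Λ] [Field k] [Algebra Λ k]
variable {R : Type u} [CommRing R] [Algebra Λ R] {resR : R →ₐ[Λ] k} {F : Art Λ k ⥤ Type v}

/-- A family which is injective on tangent vectors is injective everywhere, provided `F` satisfies the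
injectivity half of `H₄`. -/
theorem family_app_injective [Module.Finite Λ k] (ξ : Family R resR F)
    (hsq : ∀ ⦃B A A' : Art Λ k⦄ (p₁ p₂ : B ⟶ A') (f : A' ⟶ A) (h : IsFibreProd p₁ p₂ f f),
      IsSmallExt f → Function.Injective (cmp F h))
    (hd : Function.Injective (ξ.app (dual Λ k))) (A : Art Λ k) :
    Function.Injective (ξ.app A) := by
  have key := surjective_induction (Λ := Λ) (k := k)
    (fun A B _ => Function.Injective (ξ.app A) → Function.Injective (ξ.app B)) ?_ ?_ ?_
    (toBase A) (toBase_surjective A)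
  · apply key
    intro x y _
    rw [homSet_base_eq x, homSet_base_eq y]
  · intro A B e he hA x x' hxx'
    have h1 : HomSet.map e x = HomSet.map e x' := by
      apply hA
      rw [ξ.natural, ξ.natural, hxx']
    have h2 := congrArg (HomSet.map (inv e)) h1
    rwa [← Groth.Agent.H63.homSet_map_comp, ← Groth.Agent.H63.homSet_map_comp, IsIso.hom_inv_id,
      Groth.Agent.H63.homSet_map_id, Groth.Agent.H63.homSet_map_id] at h2
  · intro A B μ hμ hA x x' hxx'
    obtain ⟨C, π₁, π₂, δ, Δ, h₁, h₂, hΔ₁, hΔ₂, hΔδ⟩ := exists_smallData μ hμ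
    have hx : HomSet.map μ x = HomSet.map μ x' := by
      apply hA
      rw [ξ.natural, ξ.natural, hxx']
    obtain ⟨z, hz₁, hz₂⟩ := IsFibreProd.exists_lift_homSet h₁ x x' hx
    set z₀ := HomSet.map Δ x with hz₀
    have hz₀₁ : HomSet.map π₁ z₀ = x := by
      rw [hz₀, ← Groth.Agent.H63.homSet_map_comp, hΔ₁, Groth.Agent.H63.homSet_map_id]
    have hz₀₂ : HomSet.map π₂ z₀ = x := by
      rw [hz₀, ← Groth.Agent.H63.homSet_map_comp, hΔ₂, Groth.Agent.H63.homSet_map_id]
    have hξz : ξ.app C z = ξ.app C z₀ := by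
      apply (cmp_injective_iff F h₁).1 (hsq _ _ _ h₁ hμ)
      · rw [← ξ.natural, ← ξ.natural, hz₁, hz₀₁]
      · rw [← ξ.natural, ← ξ.natural, hz₂, hz₀₂, hxx']
    have hδ : HomSet.map δ z = HomSet.map δ z₀ := by
      apply hd
      rw [ξ.natural, ξ.natural, hξz]
    have hzz₀ : z = z₀ := by
      apply Subtype.ext
      apply AlgHom.ext
      intro c
      apply h₂.inj
      · exact congrArg (fun t : HomSet R resR B => t.1 c) (hz₁.trans hz₀₁.symm)
      · exact congrArg (fun t : HomSet R resR (dual Λ k) => t.1 c) hδ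
    rw [← hz₂, hzz₀, hz₀₂]
  · intro A B C p q hp hq hA
    exact hp (hq hA)

/-- A miniversal family of a functor satisfying `H₄` (injectivity half) is universal. -/
theorem isUniversal_of_isMiniversal [Module.Finite Λ k] (h0 : H0 F) (ξ : Family R resR F)
    (hξ : IsMiniversal ξ)
    (hsq : ∀ ⦃B A A' : Art Λ k⦄ (p₁ p₂ : B ⟶ A') (f : A' ⟶ A) (h : IsFibreProd p₁ p₂ f f),
      IsSmallExt f → Function.Injective (cmp F h)) : IsUniversal ξ :=
  fun A => ⟨family_app_injective ξ hsq hξ.2.1 A, IsVersal.app_surjective h0 ξ hξ.1 A⟩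

end Groth.Agent.H61
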