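import Groth.Agent.H61.HullPS
import Groth.Agent.H61.Universal
import Groth.Agent.H61.ProrepConverse
import Groth.Agent.S12724

set_option autoImplicit false
set_option linter.style.haveILetI false
set_option linter.unusedSectionVars false
universe u v
open CategoryTheory

namespace Groth.Agent.H61

open ArtFun ArtFun.Art Groth.Agent.H63

variable {Λ : Type u} {k : Type u} [CommRing Λ] [Field k] [Algebra Λ k]
variable [IsLocalRing Λ] [IsNoetherianRing Λ] [IsAdicComplete (IsLocalRing.maximalIdeal Λ) Λ]

/-- Schlessinger's criterion for prorepresentability (when `Λ → k` is surjective). -/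
theorem isProrepresentable_of_hbar_heps_hfin_hsq (hk : Function.Surjective (algebraMap Λ k))
    (F : Art Λ k ⥤ Type v) [TangentStr F] (h0 : H0 F) (hbar : Hbar F) (h2 : Heps F) (h3 : Hfin F)
    (hsq : ∀ ⦃B A A' : Art Λ k⦄ (p₁ p₂ : B ⟶ A') (f : A' ⟶ A) (h : IsFibreProd p₁ p₂ f f),
      IsSmallExt f → Function.Injective (cmp F h)) :
    IsProrepresentable F := by
  haveI : Module.Finite Λ k := Module.Finite.of_surjective (Algebra.linearMap Λ k) hk
  have h1 : S1 F := (Groth.Agent.S12724.result F).2 hbar
  obtain ⟨H⟩ := hasHull_of_surjective hk F h0 h1 h2 h3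
  exact ⟨⟨H.ring, H.family, isUniversal_of_isMiniversal h0 H.family H.miniversal hsq⟩⟩

theorem isLeftExact_and_hfin_of_isProrepresentable (hk : Function.Surjective (algebraMap Λ k))
    (F : Art Λ k ⥤ Type v) [TangentStr F] (h : IsProrepresentable F) : IsLeftExact F ∧ Hfin F := by
  obtain ⟨P⟩ := h
  exact ⟨isLeftExact_of_isUniversal P.family P.universal, hfin_of_isUniversal hk P.ring P.family P.universal⟩

end Groth.Agent.H61
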