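import Mathlib
import Groth.Prelude.Def_W4c5t1liftcy3defoArt

/-!
# Basic facts on the curvilinear test algebras `k[t]/(t^(n+1))`
-/

set_option autoImplicit false
universe u
open CategoryTheory Polynomial

namespace Groth.Agent.H61.T1L
open T1Lift ArtFun ArtFun.Art

variable (k : Type u) [Field k]

theorem αAlg_mk (m : ℕ) (p : k[X]) :
    αAlg k m (AdjoinRoot.mk _ p) = AdjoinRoot.mk _ p := by
  change eval₂ (Algebra.ofId k (Tr k m) : k →+* Tr k m) (t k m) p = _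
  rw [← AdjoinRoot.aeval_eq]
  rfl

theorem αAlg_surjective (m : ℕ) : Function.Surjective (αAlg k m) := by
  intro a
  obtain ⟨p, rfl⟩ := AdjoinRoot.mk_surjective a
  exact ⟨AdjoinRoot.mk _ p, αAlg_mk k m p⟩

theorem t_pow_succ_mul (m : ℕ) (b : Tr k m) : t k m ^ (m + 1) * b = 0 := by
  rw [t_pow, zero_mul]

/-- the kernel of `α_m` is spanned by `t^(m+1)`. -/
theorem exists_smul_of_αAlg_eq_zero (m : ℕ) (a : Tr k (m + 1)) (ha : αAlg k m a = 0) :
    ∃ c : k, a = c • t k (m + 1) ^ (m + 1) := by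
  obtain ⟨p, rfl⟩ := AdjoinRoot.mk_surjective a
  rw [αAlg_mk, AdjoinRoot.mk_eq_zero] at ha
  obtain ⟨q, rfl⟩ := ha
  obtain ⟨b, hb⟩ := eq_algebraMap_add_t_mul k (m + 1) (AdjoinRoot.mk _ q)
  generalize resA k (m + 1) (AdjoinRoot.mk _ q) = c at hb
  refine ⟨c, ?_⟩
  rw [map_mul, map_pow, AdjoinRoot.mk_X, hb, mul_add, ← mul_assoc, ← pow_succ, t_pow, zero_mul,
    add_zero, Algebra.smul_def, mul_comm]

theorem t_pow_ne_zero (m : ℕ) : t k (m + 1) ^ (m + 1) ≠ 0 := by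
  intro h
  have h1 : AdjoinRoot.mk ((X : k[X]) ^ (m + 1 + 1)) (X ^ (m + 1)) = 0 := by
    rw [map_pow, AdjoinRoot.mk_X]
    exact h
  rw [AdjoinRoot.mk_eq_zero, pow_dvd_pow_iff X_ne_zero not_isUnit_X] at h1
  omega

theorem smul_t_pow_eq_zero (m : ℕ) (c : k) (h : c • t k (m + 1) ^ (m + 1) = 0) : c = 0 := by
  by_contra hc
  apply t_pow_ne_zero k m
  have := congrArg (fun x => c⁻¹ • x) h
  simpa [smul_smul, inv_mul_cancel₀ hc] using this

theorem mem_maximalIdeal_A_iff (m : ℕ) (a : A k m) :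
    a ∈ IsLocalRing.maximalIdeal (A k m) ↔ ∃ b : Tr k m, (a : Tr k m) = t k m * b := by
  rw [mem_maximalIdeal_iff]
  constructor
  · intro h
    obtain ⟨b, hb⟩ := eq_algebraMap_add_t_mul k m a
    refine ⟨b, ?_⟩
    have h' : resA k m a = 0 := h
    rw [hb, h', map_zero, zero_add]
  · rintro ⟨b, hb⟩
    change resA k m a = 0
    rw [hb, map_mul, resA_t, zero_mul]

theorem α_surjective (m : ℕ) : Function.Surjective (α k m) := αAlg_surjective k m

theorem α_isSemismallExt (m : ℕ) : IsSemismallExt (α k m) := by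
  refine ⟨α_surjective k m, ?_⟩
  rw [eq_bot_iff, Ideal.mul_le]
  intro b hb c hc
  obtain ⟨b', hb'⟩ := (mem_maximalIdeal_A_iff k (m + 1) b).1 hb
  obtain ⟨c₀, hc₀⟩ := exists_smul_of_αAlg_eq_zero k m c ((RingHom.mem_ker).1 hc)
  have key : (t k (m + 1) * b') * (c₀ • t k (m + 1) ^ (m + 1)) = (0 : Tr k (m + 1)) := by
    rw [mul_smul_comm, mul_comm (t k (m + 1)) b', mul_assoc, ← pow_succ', t_pow, mul_zero,
      smul_zero]
  rw [Ideal.mem_bot]
  have e : (b * c : A k (m + 1)) = ((t k (m + 1) * b') * (c₀ • t k (m + 1) ^ (m + 1)) : Tr k (m + 1)) :=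
    congrArg₂ (fun x y : Tr k (m + 1) => x * y) hb' hc₀
  exact e.trans key

end Groth.Agent.H61.T1L
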