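import Mathlib
import Groth.Agent.H61.T1LiftBasic

/-!
# The `T¹`-lifting criterion: the auxiliary extension `B_{n+1} → B_{n+1}/(t^{n+1} y)`
-/

set_option autoImplicit false
universe u v
open CategoryTheory Polynomial

namespace Groth.Agent.H61.T1L
open T1Lift ArtFun ArtFun.Art

variable (k : Type u) [Field k] (n : ℕ)

/-- `z = t^(n+1) y ∈ B_(n+1)`. -/
noncomputable def z : DualNumber (Tr k (n + 1)) := TrivSqZeroExt.inr (t k (n + 1) ^ (n + 1))

theorem mul_z (r : DualNumber (Tr k (n + 1))) :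
    r * z k n = (resA k (n + 1) r.fst) • z k n := by
  obtain ⟨b, hb⟩ := eq_algebraMap_add_t_mul k (n + 1) r.fst
  apply TrivSqZeroExt.ext
  · simp [z]
  · have h1 : (r * z k n).snd = r.fst * t k (n + 1) ^ (n + 1) := by
      simp [z, TrivSqZeroExt.snd_mul, mul_comm]
    have h2 : ((resA k (n + 1) r.fst) • z k n).snd = (resA k (n + 1) r.fst) • t k (n + 1) ^ (n + 1) := by
      simp [z]
    rw [h1, h2]
    conv_lhs => rw [hb]
    rw [add_mul, mul_comm (t k (n + 1)) b, mul_assoc, ← pow_succ', t_pow, mul_zero, add_zero,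
      Algebra.smul_def]

theorem inl_t_add_eps_pow' :
    ((TrivSqZeroExt.inl (t k (n + 1)) : DualNumber (Tr k (n + 1))) + DualNumber.eps) ^ (n + 2) =
      ((n + 2 : ℕ) : k) • z k n := by
  apply TrivSqZeroExt.ext
  · rw [TrivSqZeroExt.fst_pow, TrivSqZeroExt.fst_add, TrivSqZeroExt.fst_inl, DualNumber.fst_eps,
      add_zero, t_pow]
    simp [z]
  · rw [TrivSqZeroExt.snd_pow, TrivSqZeroExt.fst_add, TrivSqZeroExt.fst_inl, DualNumber.fst_eps,
      add_zero, TrivSqZeroExt.snd_add, TrivSqZeroExt.snd_inl, DualNumber.snd_eps, zero_add,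
      show (((n + 2 : ℕ) : k) • z k n).snd = ((n + 2 : ℕ) : k) • t k (n + 1) ^ (n + 1) from rfl,
      Nat.cast_smul_eq_nsmul, smul_eq_mul, mul_one]
    rfl

/-- the ideal `(t^(n+1) y)`. -/
noncomputable def K : Ideal (B k (n + 1)) := Ideal.span {z k n}

theorem z_mem_K : z k n ∈ K k n := Ideal.subset_span rfl

theorem smul_z_mem_K (c : k) : c • z k n ∈ K k n := by
  rw [Algebra.smul_def]
  exact Ideal.mul_mem_left _ _ (z_mem_K k n)

theorem K_le : K k n ≤ IsLocalRing.maximalIdeal (B k (n + 1)) := by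
  rw [K, Ideal.span_le]
  rintro _ rfl
  rw [SetLike.mem_coe, mem_maximalIdeal_iff]
  change resA k (n + 1) (z k n).fst = 0
  simp [z]

/-- `C = B_(n+1)/(t^(n+1) y)`. -/
noncomputable def C : Art k k := quot (B k (n + 1)) (K k n) (K_le k n)

/-- the projection `B_(n+1) → C`. -/
noncomputable def ψ : B k (n + 1) ⟶ C k n := quotMk (B k (n + 1)) (K k n) (K_le k n)

theorem ψ_apply (b : B k (n + 1)) : ψ k n b = Ideal.Quotient.mk (K k n) b := rfl

theorem ψ_eq_zero_iff (b : B k (n + 1)) : ψ k n b = 0 ↔ b ∈ K k n := Ideal.Quotient.eq_zero_iff_mem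

theorem ψ_surjective : Function.Surjective (ψ k n) := quotMk_surjective _ _ _

theorem ker_ψ : RingHom.ker (ψ k n).toAlgHom = K k n := by
  ext b
  rw [RingHom.mem_ker]
  exact ψ_eq_zero_iff k n b

theorem mul_mul_z_eq_zero (b₀ r : DualNumber (Tr k (n + 1))) (h : resA k (n + 1) b₀.fst = 0) :
    b₀ * (r * z k n) = 0 := by
  rw [← mul_assoc, mul_z, TrivSqZeroExt.fst_mul, map_mul, h, zero_mul, zero_smul]

theorem ψ_isSemismallExt : IsSemismallExt (ψ k n) := by
  refine ⟨ψ_surjective k n, ?_⟩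
  rw [eq_bot_iff, Ideal.mul_le, ker_ψ]
  intro b hb c hc
  obtain ⟨r, rfl⟩ : ∃ r : DualNumber (Tr k (n + 1)), r * z k n = c :=
    Ideal.mem_span_singleton'.1 hc
  rw [Ideal.mem_bot]
  have hb' : (B k (n + 1)).res b = 0 := (mem_maximalIdeal_iff _ _).1 hb
  exact mul_mul_z_eq_zero k n b r hb'


/-- `g : A_(n+1) → C`, `t ↦ [t + y]`, as an algebra map. -/
noncomputable def gAlg : Tr k (n + 1) →ₐ[k] (C k n) :=
  AdjoinRoot.liftAlgHom _ (Algebra.ofId k (C k n))
    (ψ k n (TrivSqZeroExt.inl (t k (n + 1)) + DualNumber.eps)) (by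
      rw [eval₂_X_pow]
      have h1 : ψ k n (((n + 2 : ℕ) : k) • z k n) = 0 :=
        (ψ_eq_zero_iff k n _).2 (smul_z_mem_K k n _)
      have h2 := congrArg (fun x : DualNumber (Tr k (n + 1)) => ψ k n x) (inl_t_add_eps_pow' k n)
      have h3 := map_pow (ψ k n).toAlgHom
        ((TrivSqZeroExt.inl (t k (n + 1)) : DualNumber (Tr k (n + 1))) + DualNumber.eps) (n + 2)
      exact h3.symm.trans (h2.trans h1))

theorem gAlg_t : gAlg k n (t k (n + 1)) = ψ k n (TrivSqZeroExt.inl (t k (n + 1)) + DualNumber.eps) :=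
  AdjoinRoot.liftAlgHom_root _ _ _ _

/-- `g : A_(n+1) ⟶ C`. -/
noncomputable def g : A k (n + 1) ⟶ C k n :=
  homMk (gAlg k n) (AdjoinRoot.algHom_ext (by
    change (C k n).res (gAlg k n (t k (n + 1))) = resA k (n + 1) (t k (n + 1))
    rw [gAlg_t, res_app (ψ k n), resA_t]
    change resA k (n + 1) ((TrivSqZeroExt.inl (t k (n + 1)) + DualNumber.eps : DualNumber (Tr k (n + 1))).fst) = 0
    rw [TrivSqZeroExt.fst_add, TrivSqZeroExt.fst_inl, DualNumber.fst_eps, add_zero, resA_t]))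

theorem g_t : g k n (t k (n + 1)) = ψ k n (TrivSqZeroExt.inl (t k (n + 1)) + DualNumber.eps) :=
  gAlg_t k n

theorem hcomm : α k (n + 1) ≫ g k n = ε k (n + 1) ≫ ψ k n := by
  apply hom_ext
  apply AdjoinRoot.algHom_ext
  change g k n (αAlg k (n + 1) (t k (n + 2))) = ψ k n (εAlg k (n + 1) (t k (n + 2)))
  rw [αAlg_t, εAlg_t, g_t]
  rfl

theorem hcomm_apply (a : A k (n + 2)) : g k n (α k (n + 1) a) = ψ k n (ε k (n + 1) a) :=
  congrArg (fun f : A k (n + 2) ⟶ C k n => f.toAlgHom a) (hcomm k n)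

/-- the map on kernels induced by `ε`. -/
noncomputable def ℓ : ↥(RingHom.ker (α k (n + 1)).toAlgHom) →ₗ[k] ↥(RingHom.ker (ψ k n).toAlgHom) where
  toFun j := ⟨ε k (n + 1) j.1, by
    rw [RingHom.mem_ker]
    refine (hcomm_apply k n j.1).symm.trans ?_
    have : α k (n + 1) j.1 = 0 := (RingHom.mem_ker).1 j.2
    rw [this, map_zero]⟩
  map_add' x y := Subtype.ext (map_add (ε k (n + 1)).toAlgHom _ _)
  map_smul' c x := Subtype.ext (map_smul (ε k (n + 1)).toAlgHom _ _)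

theorem ℓ_apply (j : ↥(RingHom.ker (α k (n + 1)).toAlgHom)) :
    ((ℓ k n j : ↥(RingHom.ker (ψ k n).toAlgHom)) : B k (n + 1)) = ε k (n + 1) (j : A k (n + 2)) := rfl

theorem ℓ_injective (hchar : ((n + 2 : ℕ) : k) ≠ 0) : Function.Injective (ℓ k n) := by
  rw [← LinearMap.ker_eq_bot, LinearMap.ker_eq_bot']
  intro j hj
  obtain ⟨c₀, hc₀⟩ := exists_smul_of_αAlg_eq_zero k (n + 1) j.1 ((RingHom.mem_ker).1 j.2)
  have h1 : εAlg k (n + 1) (c₀ • t k (n + 2) ^ (n + 2)) = 0 := by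
    have := congrArg Subtype.val hj
    rw [ℓ_apply] at this
    change εAlg k (n + 1) j.1 = 0 at this
    rw [hc₀] at this
    exact this
  rw [map_smul, map_pow, εAlg_t, inl_t_add_eps_pow', smul_smul] at h1
  have h2 : (c₀ * ((n + 2 : ℕ) : k)) • t k (n + 1) ^ (n + 1) = 0 := by
    have := congrArg TrivSqZeroExt.snd h1
    exact this
  have h3 := smul_t_pow_eq_zero k n _ h2
  have hc0 : c₀ = 0 := by
    rcases mul_eq_zero.1 h3 with h | h
    · exact h
    · exact absurd h hchar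
  apply Subtype.ext
  rw [hc₀, hc0, zero_smul]
  rfl


theorem K_le_ker_ξ : K k n ≤ RingHom.ker (ξ k n).toAlgHom := by
  rw [K, Ideal.span_le]
  rintro _ rfl
  rw [SetLike.mem_coe, RingHom.mem_ker]
  change dualMap k (αAlg k n) (z k n) = 0
  apply TrivSqZeroExt.ext
  · change αAlg k n (z k n).fst = 0
    simp [z]
  · change αAlg k n (z k n).snd = 0
    have : (z k n).snd = t k (n + 1) ^ (n + 1) := rfl
    rw [this, map_pow, αAlg_t, t_pow]

theorem K_le_ker_β : K k n ≤ RingHom.ker (β k (n + 1)).toAlgHom := by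
  rw [K, Ideal.span_le]
  rintro _ rfl
  rw [SetLike.mem_coe, RingHom.mem_ker]
  change (z k n).fst = 0
  simp [z]

/-- `C → B_n`. -/
noncomputable def p' : C k n ⟶ B k n := quotFactor (K_le k n) (ξ k n) (K_le_ker_ξ k n)

/-- `C → A_(n+1)`. -/
noncomputable def p'' : C k n ⟶ A k (n + 1) := quotFactor (K_le k n) (β k (n + 1)) (K_le_ker_β k n)

theorem p'_ψ (b : B k (n + 1)) : p' k n (ψ k n b) = ξ k n b := rfl

theorem p''_ψ (b : B k (n + 1)) : p'' k n (ψ k n b) = β k (n + 1) b := rfl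

theorem ψ_p' : ψ k n ≫ p' k n = ξ k n := quotMk_quotFactor _ _ _

theorem ψ_p'' : ψ k n ≫ p'' k n = β k (n + 1) := quotMk_quotFactor _ _ _

theorem g_p' : g k n ≫ p' k n = ε k n := by
  apply hom_ext
  apply AdjoinRoot.algHom_ext
  change p' k n (g k n (t k (n + 1))) = εAlg k n (t k (n + 1))
  rw [g_t, p'_ψ, εAlg_t]
  change dualMap k (αAlg k n) (TrivSqZeroExt.inl (t k (n + 1)) + DualNumber.eps) = _
  apply TrivSqZeroExt.ext
  · change αAlg k n ((TrivSqZeroExt.inl (t k (n + 1)) + DualNumber.eps : DualNumber (Tr k (n + 1))).fst) = _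
    rw [TrivSqZeroExt.fst_add, TrivSqZeroExt.fst_inl, DualNumber.fst_eps, add_zero, αAlg_t,
      TrivSqZeroExt.fst_add, TrivSqZeroExt.fst_inl, DualNumber.fst_eps, add_zero]
  · change αAlg k n ((TrivSqZeroExt.inl (t k (n + 1)) + DualNumber.eps : DualNumber (Tr k (n + 1))).snd) = _
    rw [TrivSqZeroExt.snd_add, TrivSqZeroExt.snd_inl, DualNumber.snd_eps, zero_add, map_one,
      TrivSqZeroExt.snd_add, TrivSqZeroExt.snd_inl, DualNumber.snd_eps, zero_add]

theorem g_p'' : g k n ≫ p'' k n = 𝟙 (A k (n + 1)) := by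
  apply hom_ext
  apply AdjoinRoot.algHom_ext
  change p'' k n (g k n (t k (n + 1))) = t k (n + 1)
  rw [g_t, p''_ψ]
  change (TrivSqZeroExt.inl (t k (n + 1)) + DualNumber.eps : DualNumber (Tr k (n + 1))).fst = _
  rw [TrivSqZeroExt.fst_add, TrivSqZeroExt.fst_inl, DualNumber.fst_eps, add_zero]

theorem sub_eq_smul_z (c₁ c₂ : DualNumber (Tr k (n + 1))) (hfst : c₁.fst = c₂.fst)
    (hsnd : αAlg k n c₁.snd = αAlg k n c₂.snd) : ∃ c₀ : k, c₁ - c₂ = c₀ • z k n := by
  obtain ⟨c₀, hc₀⟩ := exists_smul_of_αAlg_eq_zero k n (c₁.snd - c₂.snd)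
    (by rw [map_sub, hsnd, sub_self])
  refine ⟨c₀, ?_⟩
  apply TrivSqZeroExt.ext
  · rw [TrivSqZeroExt.fst_sub, hfst, sub_self]
    simp [z]
  · rw [TrivSqZeroExt.snd_sub, hc₀]
    rfl

theorem isFibreProd : IsFibreProd (p' k n) (p'' k n) (β k n) (α k n) where
  w := by
    apply hom_ext
    apply AlgHom.ext
    intro x
    obtain ⟨b, rfl⟩ := ψ_surjective k n x
    change β k n (p' k n (ψ k n b)) = α k n (p'' k n (ψ k n b))
    rw [p'_ψ, p''_ψ]
    rfl
  inj := by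
    intro x₁ x₂ h₁ h₂
    obtain ⟨c₁, rfl⟩ := ψ_surjective k n x₁
    obtain ⟨c₂, rfl⟩ := ψ_surjective k n x₂
    rw [p'_ψ, p'_ψ] at h₁
    rw [p''_ψ, p''_ψ] at h₂
    obtain ⟨c₀, hdiff⟩ := sub_eq_smul_z k n c₁ c₂ h₂ (congrArg TrivSqZeroExt.snd h₁)
    have hmem : (c₁ - c₂ : B k (n + 1)) ∈ K k n := by
      have := smul_z_mem_K k n c₀
      rw [← hdiff] at this
      exact this
    have := (ψ_eq_zero_iff k n _).2 hmem
    rw [map_sub, sub_eq_zero] at this
    exact this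
  surj := by
    intro a' a'' h
    obtain ⟨s, hs⟩ := αAlg_surjective k n (a' : DualNumber (Tr k n)).snd
    refine ⟨ψ k n ((a'', s) : DualNumber (Tr k (n + 1))), ?_, ?_⟩
    · rw [p'_ψ]
      change dualMap k (αAlg k n) ((a'', s) : DualNumber (Tr k (n + 1))) = a'
      apply TrivSqZeroExt.ext
      · change αAlg k n a'' = (a' : DualNumber (Tr k n)).fst
        exact h.symm
      · exact hs
    · rw [p''_ψ]
      rfl

end Groth.Agent.H61.T1L
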