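import Groth.Agent.H61.CRingLift
import Mathlib.LinearAlgebra.Dual.Lemmas
import Mathlib.Algebra.Module.RingHom

set_option autoImplicit false
universe u v

open CategoryTheory

namespace Groth.Agent.H61

open ArtFun ArtFun.Art

/-- A nonzero element of a module killed by the kernel of a surjection onto a field is detected by a
linear functional with values in the field. -/
theorem exists_linearMap_ne_zero {Λ k Q : Type*} [CommRing Λ] [Field k] [Algebra Λ k]
    (hk : Function.Surjective (algebraMap Λ k)) [AddCommGroup Q] [Module Λ Q]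
    (hQ : ∀ c : Λ, algebraMap Λ k c = 0 → ∀ q : Q, c • q = 0) {q : Q} (hq : q ≠ 0) :
    ∃ l : Q →ₗ[Λ] k, l q ≠ 0 := by
  let _ : SMul k Q := ⟨fun a q => (hk a).choose • q⟩
  have hsmul : ∀ (c : Λ) (x : Q), algebraMap Λ k c • x = c • x := by
    intro c x
    change (hk (algebraMap Λ k c)).choose • x = c • x
    have := (hk (algebraMap Λ k c)).choose_spec
    rw [← sub_eq_zero, ← sub_smul]
    apply hQ
    rw [map_sub, this, sub_self]
  let _ : Module k Q := hk.moduleLeft (algebraMap Λ k) hsmul
  have : IsScalarTower Λ k Q := ⟨fun c a x => by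
    obtain ⟨c', rfl⟩ := hk a
    rw [Algebra.smul_def, ← map_mul, hsmul, hsmul, mul_smul]⟩
  have : ¬ ∀ l : Module.Dual k Q, l q = 0 := fun h => hq ((Module.forall_dual_apply_eq_zero_iff k q).1 h)
  obtain ⟨l, hl⟩ := not_forall.1 this
  exact ⟨l.restrictScalars Λ, hl⟩

variable {Λ : Type u} {k : Type u} [CommRing Λ] [Field k] [Algebra Λ k]

section Sep

variable (T : Art Λ k)

theorem art_res_algebraMap' (c : Λ) : T.res (algebraMap Λ T c) = algebraMap Λ k c :=
  T.res.commutes c

/-- The map `T → k[ε]`, `s ↦ (res s, l s)`, for a `Λ`-linear `l` killing `1`, when `m_T² = 0`. -/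
noncomputable def tangentMapGen (hk : Function.Surjective (algebraMap Λ k))
    (hT : IsLocalRing.maximalIdeal T ^ 2 = ⊥) (l : T →ₗ[Λ] k) (hl : l 1 = 0) : T ⟶ dual Λ k :=
  ⟨{ toFun := fun s => (T.res s, l s)
     map_one' := by
       apply TrivSqZeroExt.ext
       · change T.res 1 = 1
         exact map_one _
       · exact hl
     map_mul' := fun s s' => by
       apply TrivSqZeroExt.ext
       · change T.res (s * s') = T.res s * T.res s'
         exact map_mul _ _ _
       · change l (s * s') = T.res s • l s' + MulOpposite.op (T.res s') • l s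
         obtain ⟨c, hc⟩ := hk (T.res s)
         obtain ⟨c', hc'⟩ := hk (T.res s')
         have hx : s - algebraMap Λ T c ∈ IsLocalRing.maximalIdeal T := by
           rw [Art.mem_maximalIdeal_iff, map_sub, art_res_algebraMap', hc, sub_self]
         have hx' : s' - algebraMap Λ T c' ∈ IsLocalRing.maximalIdeal T := by
           rw [Art.mem_maximalIdeal_iff, map_sub, art_res_algebraMap', hc', sub_self]
         have hxx : (s - algebraMap Λ T c) * (s' - algebraMap Λ T c') = 0 := by
           have : (s - algebraMap Λ T c) * (s' - algebraMap Λ T c') ∈ IsLocalRing.maximalIdeal T ^ 2 := by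
             rw [pow_two]
             exact Ideal.mul_mem_mul hx hx'
           rw [hT] at this
           exact this
         have key : s * s' = c • s' + c' • s - (c * c') • (1 : T) := by
           rw [Algebra.smul_def, Algebra.smul_def, Algebra.smul_def, map_mul]
           linear_combination hxx
         rw [key, map_sub, map_add, map_smul, map_smul, map_smul, hl, smul_zero, sub_zero,
           op_smul_eq_smul, ← hc, ← hc', Algebra.smul_def, Algebra.smul_def, smul_eq_mul, smul_eq_mul]
     map_zero' := by
       apply TrivSqZeroExt.ext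
       · change T.res 0 = 0
         exact map_zero _
       · change l 0 = 0
         exact map_zero _
     map_add' := fun s s' => by
       apply TrivSqZeroExt.ext
       · change T.res (s + s') = T.res s + T.res s'
         exact map_add _ _ _
       · change l (s + s') = l s + l s'
         exact map_add _ _ _
     commutes' := fun c => by
       apply TrivSqZeroExt.ext
       · change T.res (algebraMap Λ T c) = TrivSqZeroExt.fst (algebraMap Λ (TrivSqZeroExt k k) c)
         rw [art_res_algebraMap', TrivSqZeroExt.algebraMap_eq_inl', TrivSqZeroExt.fst_inl]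
       · change l (algebraMap Λ T c) = TrivSqZeroExt.snd (algebraMap Λ (TrivSqZeroExt k k) c)
         rw [TrivSqZeroExt.algebraMap_eq_inl', TrivSqZeroExt.snd_inl, Algebra.algebraMap_eq_smul_one,
           map_smul, hl, smul_zero] }, by
    apply AlgHom.ext
    intro s
    rfl⟩

theorem tangentMapGen_apply_snd (hk : Function.Surjective (algebraMap Λ k))
    (hT : IsLocalRing.maximalIdeal T ^ 2 = ⊥) (l : T →ₗ[Λ] k) (hl : l 1 = 0) (s : T) :
    TrivSqZeroExt.snd (tangentMapGen T hk hT l hl s) = l s := rfl

/-- Maps to the dual numbers separate the points of `m_T` modulo `m_Λ T` when `m_T² = 0`. -/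
theorem exists_tangentMapGen_ne (hk : Function.Surjective (algebraMap Λ k))
    (hT : IsLocalRing.maximalIdeal T ^ 2 = ⊥) {t : T}
    (ht : t ∈ IsLocalRing.maximalIdeal T)
    (ht0 : t ∉ (RingHom.ker (algebraMap Λ k)).map (algebraMap Λ T)) :
    ∃ π : T ⟶ dual Λ k, π t ≠ 0 := by
  let W : Submodule Λ T :=
    ((RingHom.ker (algebraMap Λ k)).map (algebraMap Λ T)).restrictScalars Λ ⊔ Submodule.span Λ {1}
  have hkerle : (RingHom.ker (algebraMap Λ k)).map (algebraMap Λ T) ≤ IsLocalRing.maximalIdeal T := by
    rw [Ideal.map_le_iff_le_comap]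
    intro c hc
    rw [Ideal.mem_comap, Art.mem_maximalIdeal_iff, art_res_algebraMap']
    exact hc
  have htW : t ∉ W := by
    intro h
    obtain ⟨n, hn, y, hy, hny⟩ := Submodule.mem_sup.1 h
    obtain ⟨c, rfl⟩ := Submodule.mem_span_singleton.1 hy
    have hn' : n ∈ (RingHom.ker (algebraMap Λ k)).map (algebraMap Λ T) := hn
    have hc : algebraMap Λ k c = 0 := by
      have h1 : c • (1 : T) ∈ IsLocalRing.maximalIdeal T := by
        have : c • (1 : T) = t - n := by rw [← hny]; ring
        rw [this]
        exact Ideal.sub_mem _ ht (hkerle hn')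
      rw [Art.mem_maximalIdeal_iff, ← Algebra.algebraMap_eq_smul_one, art_res_algebraMap'] at h1
      exact h1
    apply ht0
    rw [← hny]
    refine Ideal.add_mem _ hn' ?_
    rw [← Algebra.algebraMap_eq_smul_one]
    exact Ideal.mem_map_of_mem _ hc
  have hq : (W.mkQ t) ≠ 0 := by
    rw [Ne, Submodule.mkQ_apply, Submodule.Quotient.mk_eq_zero]
    exact htW
  have hQ : ∀ c : Λ, algebraMap Λ k c = 0 → ∀ q : T ⧸ W, c • q = 0 := by
    intro c hc q
    obtain ⟨s, rfl⟩ := Submodule.Quotient.mk_surjective W q
    rw [← Submodule.Quotient.mk_smul, Submodule.Quotient.mk_eq_zero]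
    apply Submodule.mem_sup_left
    change c • s ∈ (RingHom.ker (algebraMap Λ k)).map (algebraMap Λ T)
    rw [Algebra.smul_def]
    exact Ideal.mul_mem_right _ _ (Ideal.mem_map_of_mem _ hc)
  obtain ⟨l₀, hl₀⟩ := exists_linearMap_ne_zero hk hQ hq
  have hl1 : (l₀.comp W.mkQ) 1 = 0 := by
    have : W.mkQ 1 = 0 := by
      rw [Submodule.mkQ_apply, Submodule.Quotient.mk_eq_zero]
      exact Submodule.mem_sup_right (Submodule.mem_span_singleton_self 1)
    rw [LinearMap.comp_apply, this, map_zero]
  refine ⟨tangentMapGen T hk hT (l₀.comp W.mkQ) hl1, fun h => hl₀ ?_⟩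
  have h1 := congrArg TrivSqZeroExt.snd h
  rw [tangentMapGen_apply_snd] at h1
  exact h1

end Sep

end Groth.Agent.H61
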