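import Mathlib
import Groth.Prelude.Def_AbDual
import Groth.Prelude.Def_SGA7a

set_option linter.style.haveILetI false
set_option linter.unusedSectionVars false
set_option autoImplicit false

/-!
# Isogenies and Tate modules: formal lemmas
-/

namespace Groth.Agent.H61.TateIsog

universe u

open CategoryTheory MonObj AbDual AlgebraicGeometry

variable {S : Scheme.{u}} {A C : Over S} [GrpObj A] [IsCommMonObj A] [GrpObj C] [IsCommMonObj C]
  {l : ℕ} {T : Over S}

/-- `T_l(v) ∘ T_l(u) = n` when `v ∘ u = n`. -/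
theorem tateMap_tateMap (u : C ⟶ A) [IsMonHom u] (v : A ⟶ C) [IsMonHom v] (n : ℕ)
    (huv : u ≫ v = (𝟙 C) ^ n) (z : TateMod C l T) :
    tateMap v (tateMap u z) = n • z := by
  apply TateMod.ext
  intro m
  change Additive.ofMul ((((z : ℕ → Additive (T ⟶ C)) m).toMul ≫ u) ≫ v) =
    ((n • z : TateMod C l T) : ℕ → Additive (T ⟶ C)) m
  rw [Category.assoc, huv, MonObj.comp_pow, Category.comp_id]
  rfl

/-- iterating the compatibility. -/
theorem pow_smul_component (z : TateMod A l T) (a m : ℕ) :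
    (l ^ a) • (z : ℕ → Additive (T ⟶ A)) (m + a) = (z : ℕ → Additive (T ⟶ A)) m := by
  induction a with
  | zero => rw [pow_zero, one_smul, add_zero]
  | succ a ih =>
    rw [pow_succ, mul_smul, ← add_assoc, z.compat (m + a), ih]

/-- the Tate module is torsion-free. -/
theorem eq_zero_of_nsmul_eq_zero (hl : l.Prime) (n : ℕ) (hn : 0 < n) (z : TateMod A l T)
    (h : n • z = 0) : z = 0 := by
  obtain ⟨a, n', hn', rfl⟩ := Nat.exists_eq_pow_mul_and_not_dvd hn.ne' l hl.ne_one
  apply TateMod.ext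
  intro m
  have h1 : (l ^ a * n') • (z : ℕ → Additive (T ⟶ A)) (m + a) = 0 := by
    have := congrArg (fun w : TateMod A l T => (w : ℕ → Additive (T ⟶ A)) (m + a)) h
    exact this
  have h2 : (l ^ (m + a)) • (z : ℕ → Additive (T ⟶ A)) (m + a) = 0 := z.torsion (m + a)
  have h3 : addOrderOf ((z : ℕ → Additive (T ⟶ A)) (m + a)) ∣ l ^ a := by
    have d1 := addOrderOf_dvd_of_nsmul_eq_zero h1
    have d2 := addOrderOf_dvd_of_nsmul_eq_zero h2
    have d3 := Nat.dvd_gcd d2 d1
    have hcop : Nat.Coprime (l ^ m) n' :=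
      Nat.Coprime.pow_left m ((Nat.Prime.coprime_iff_not_dvd hl).2 hn')
    have e : Nat.gcd (l ^ (m + a)) (l ^ a * n') = l ^ a := by
      rw [pow_add, mul_comm (l ^ m) (l ^ a), Nat.gcd_mul_left, hcop.gcd_eq_one, _root_.mul_one]
    rwa [e] at d3
  have h4 : (l ^ a) • (z : ℕ → Additive (T ⟶ A)) (m + a) = 0 :=
    addOrderOf_dvd_iff_nsmul_eq_zero.mp h3
  rw [← pow_smul_component z a m, h4]
  rfl

end Groth.Agent.H61.TateIsog
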