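import Groth.Agent.H61.Step
import Groth.Agent.H61.Chevalley
import Groth.Agent.H63.ArtVersal

set_option autoImplicit false
set_option linter.style.haveILetI false
set_option linter.unusedSectionVars false
universe u v
open CategoryTheory

namespace Groth.Agent.H61

open ArtFun ArtFun.Art Groth.Agent.H63

variable {Λ : Type u} {k : Type u} [CommRing Λ] [Field k] [Algebra Λ k]
variable {P : Type u} [CommRing P] [Algebra Λ P] {resP : P →ₐ[Λ] k}

/-- A stage of Schlessinger's tower. -/
structure Stage (P : Type u) [CommRing P] [Algebra Λ P] (resP : P →ₐ[Λ] k) (F : Art Λ k ⥤ Type v) where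
  R : Art Λ k
  p : HomSet P resP R
  hp : Function.Surjective p.1
  a : F.obj R
  hvers : ∀ b : F.obj (dual Λ k), ∃ φ : R ⟶ dual Λ k, F.map φ a = b

/-- The property linking consecutive stages. -/
def IsLink {F : Art Λ k ⥤ Type v} (s s' : Stage P resP F) (q : s'.R ⟶ s.R) : Prop :=
  HomSet.map q s'.p = s.p ∧ F.map q s'.a = s.a ∧
    ∀ (R₁ : Art Λ k) (π₁ : R₁ ⟶ s.R), IsSmallExt π₁ → ∀ a₁ : F.obj R₁, F.map π₁ a₁ = s.a →
      ∃ f : s'.R ⟶ R₁, f ≫ π₁ = q ∧ F.map f s'.a = a₁

variable [IsLocalRing P] [IsNoetherianRing P]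

theorem exists_next [Module.Finite Λ k] (hres : Function.Surjective resP) (hlift : HasLifts P resP)
    {F : Art Λ k ⥤ Type v} (h1 : S1 F) (h2 : Heps F) (s : Stage P resP F) :
    ∃ (s' : Stage P resP F) (q : s'.R ⟶ s.R), IsLink s s' q := by
  obtain ⟨R', p', q, a', hp', hqp, hqa, -, -, hv⟩ := step hres hlift h1 h2 s.p s.hp s.a s.hvers
  refine ⟨⟨R', p', hp', a', ?_⟩, q, hqp, hqa, hv⟩
  intro b
  obtain ⟨φ, hφ⟩ := s.hvers b
  exact ⟨q ≫ φ, by rw [map_comp_apply, hqa, hφ]⟩

section tower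

variable [Module.Finite Λ k] (hres : Function.Surjective resP) (hlift : HasLifts P resP)
  {F : Art Λ k ⥤ Type v} (h1 : S1 F) (h2 : Heps F)

/-- the next stage -/
noncomputable def nextStage (s : Stage P resP F) : Stage P resP F :=
  (exists_next hres hlift h1 h2 s).choose

/-- the transition map -/
noncomputable def nextMap (s : Stage P resP F) : (nextStage hres hlift h1 h2 s).R ⟶ s.R :=
  (exists_next hres hlift h1 h2 s).choose_spec.choose

theorem nextMap_isLink (s : Stage P resP F) :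
    IsLink s (nextStage hres hlift h1 h2 s) (nextMap hres hlift h1 h2 s) :=
  (exists_next hres hlift h1 h2 s).choose_spec.choose_spec

/-- the tower -/
noncomputable def tower (s₀ : Stage P resP F) : ℕ → Stage P resP F
  | 0 => s₀
  | m + 1 => nextStage hres hlift h1 h2 (tower s₀ m)

/-- the transition maps of the tower -/
noncomputable def towerMap (s₀ : Stage P resP F) (m : ℕ) :
    (tower hres hlift h1 h2 s₀ (m + 1)).R ⟶ (tower hres hlift h1 h2 s₀ m).R :=
  nextMap hres hlift h1 h2 (tower hres hlift h1 h2 s₀ m)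

theorem towerMap_isLink (s₀ : Stage P resP F) (m : ℕ) :
    IsLink (tower hres hlift h1 h2 s₀ m) (tower hres hlift h1 h2 s₀ (m + 1)) (towerMap hres hlift h1 h2 s₀ m) :=
  nextMap_isLink hres hlift h1 h2 _

/-- iterated transition maps -/
theorem exists_towerMap_le (s₀ : Stage P resP F) (m d : ℕ) :
    ∃ u : (tower hres hlift h1 h2 s₀ (m + d)).R ⟶ (tower hres hlift h1 h2 s₀ m).R,
      HomSet.map u (tower hres hlift h1 h2 s₀ (m + d)).p = (tower hres hlift h1 h2 s₀ m).p ∧
      F.map u (tower hres hlift h1 h2 s₀ (m + d)).a = (tower hres hlift h1 h2 s₀ m).a := by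
  induction d with
  | zero => exact ⟨𝟙 _, rfl, map_id_apply F _⟩
  | succ d ih =>
    obtain ⟨u, hu₁, hu₂⟩ := ih
    have hl := towerMap_isLink hres hlift h1 h2 s₀ (m + d)
    refine ⟨towerMap hres hlift h1 h2 s₀ (m + d) ≫ u, ?_, ?_⟩
    · exact (congrArg (HomSet.map u) hl.1).trans hu₁
    · rw [map_comp_apply]
      exact (congrArg (F.map u) hl.2.1).trans hu₂

/-- the kernels of the tower -/
noncomputable def towerKer (s₀ : Stage P resP F) (m : ℕ) : Ideal P :=
  RingHom.ker (tower hres hlift h1 h2 s₀ m).p.1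

theorem towerKer_antitone (s₀ : Stage P resP F) : Antitone (towerKer hres hlift h1 h2 s₀) := by
  apply antitone_nat_of_succ_le
  intro m x hx
  have hl := (towerMap_isLink hres hlift h1 h2 s₀ m).1
  change x ∈ RingHom.ker _ at hx
  change x ∈ RingHom.ker _
  rw [RingHom.mem_ker] at hx ⊢
  have h3 : (towerMap hres hlift h1 h2 s₀ m) ((tower hres hlift h1 h2 s₀ (m + 1)).p.1 x) =
      (tower hres hlift h1 h2 s₀ m).p.1 x := congrArg (fun t : HomSet P resP _ => t.1 x) hl
  rw [← h3, hx, map_zero]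

/-- well-definedness of the limit family -/
theorem tower_welldef (s₀ : Stage P resP F) {A : Art Λ k} (m m' : ℕ)
    (g : (tower hres hlift h1 h2 s₀ m).R ⟶ A) (g' : (tower hres hlift h1 h2 s₀ m').R ⟶ A)
    (h : HomSet.map g (tower hres hlift h1 h2 s₀ m).p = HomSet.map g' (tower hres hlift h1 h2 s₀ m').p) :
    F.map g (tower hres hlift h1 h2 s₀ m).a = F.map g' (tower hres hlift h1 h2 s₀ m').a := by
  wlog hmm : m ≤ m' generalizing m m'
  · exact (this m' m g' g h.symm (le_of_not_ge hmm)).symm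
  obtain ⟨d, rfl⟩ := Nat.exists_eq_add_of_le hmm
  obtain ⟨u, hu₁, hu₂⟩ := exists_towerMap_le hres hlift h1 h2 s₀ m d
  have hg' : g' = u ≫ g := by
    apply eq_of_homSet_map_eq _ (tower hres hlift h1 h2 s₀ (m + d)).hp
    rw [← h, Groth.Agent.H63.homSet_map_comp, hu₁]
  rw [hg', map_comp_apply, hu₂]

end tower

end Groth.Agent.H61
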